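import Cfsg.Agent.Lib.Helper15.LinearHom
import Cfsg.Agent.Lib.Helper80.Linear
import Cfsg.Prelude.Def_Transfer

/-!
# Characters of extraspecial groups
-/

set_option autoImplicit false

namespace Cfsg.Agent.Lib.Helper15

open Cfsg Cfsg.Agent.Lib
open scoped ComplexConjugate

section central

variable {G : Type*} [Group G] [Finite G]

/-- values of an irreducible character on central translates -/
theorem irr_mul_central {χ : G → ℂ} (hχ : IsIrrCharacter G χ) (x : G) {z : G}
    (hz : z ∈ Subgroup.center G) : χ (x * z) * χ 1 = χ x * χ z := by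
  have := Fintype.ofFinite G
  have h := Helper81.IsIrrCharacter.sum_mul_conj hχ x z
  have h1 : ∀ y : G, χ (x * (y * z * y⁻¹)) = χ (x * z) := by
    intro y
    have : y * z * y⁻¹ = z := by
      rw [(Subgroup.mem_center_iff.1 hz y), mul_assoc, mul_inv_cancel, mul_one]
    rw [this]
  simp_rw [h1] at h
  rw [Finset.sum_const, Finset.card_univ, nsmul_eq_mul] at h
  have hc : (Fintype.card G : ℂ) ≠ 0 := by exact_mod_cast Fintype.card_ne_zero
  have h1' : χ 1 ≠ 0 := irr_one_ne_zero hχ
  field_simp at h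
  exact h

theorem irr_central_norm {χ : G → ℂ} (hχ : IsIrrCharacter G χ) {z : G}
    (hz : z ∈ Subgroup.center G) : χ z * conj (χ z) = χ 1 * χ 1 := by
  have h := irr_mul_central hχ z⁻¹ hz
  rw [inv_mul_cancel, Helper3.IsCharacter.apply_inv (irr_char hχ)] at h
  rw [h, mul_comm]

theorem irr_central_pow {χ : G → ℂ} (hχ : IsIrrCharacter G χ) {z : G}
    (hz : z ∈ Subgroup.center G) (h : χ z = χ 1) (k : ℕ) : χ (z ^ k) = χ 1 := by
  have h1' : χ 1 ≠ 0 := irr_one_ne_zero hχ
  induction k with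
  | zero => simp
  | succ k ih =>
    have := irr_mul_central hχ (z ^ k) hz
    rw [← pow_succ, ih, h] at this
    exact mul_right_cancel₀ h1' this

/-- if `x` is conjugate to `x * c` with `c` central outside the kernel, then `χ x = 0` -/
theorem irr_eq_zero_of_comm {χ : G → ℂ} (hχ : IsIrrCharacter G χ) (x y : G)
    (hc : x⁻¹ * y⁻¹ * x * y ∈ Subgroup.center G) (hne : χ (x⁻¹ * y⁻¹ * x * y) ≠ χ 1) :
    χ x = 0 := by
  have h := irr_mul_central hχ x hc
  have e : x * (x⁻¹ * y⁻¹ * x * y) = y⁻¹ * x * y⁻¹⁻¹ := by group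
  rw [e, irr_cf hχ] at h
  by_contra hx
  exact hne (mul_left_cancel₀ hx h).symm

end central

section extraspecial

variable {P : Type*} [Group P] [Finite P] {p : ℕ} [hp : Fact p.Prime]

theorem es_center_ne {χ : P → ℂ} (hP : IsExtraspecial p P) (hχ : IsIrrCharacter P χ)
    (h1 : χ 1 ≠ 1) {c : P} (hc : c ∈ Subgroup.center P) (hc1 : c ≠ 1) : χ c ≠ χ 1 := by
  intro h
  apply h1
  apply (Helper80.char_one_eq_one_iff ⟨χ, hχ⟩).2
  intro z hz
  rw [hP.1.2.2] at hz
  have hmem : (⟨z, hz⟩ : Subgroup.center P) ∈ Subgroup.zpowers (⟨c, hc⟩ : Subgroup.center P) := by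
    apply mem_zpowers_of_prime_card hP.2
    intro h
    exact hc1 (congrArg Subtype.val h)
  obtain ⟨k, hk⟩ := (mem_powers_iff_mem_zpowers).2 hmem
  have hk' : c ^ k = z := congrArg Subtype.val hk
  change χ z = χ 1
  rw [← hk']
  exact irr_central_pow hχ hc h k

/-- nonlinear irreducible characters of an extraspecial group vanish off the centre -/
theorem es_vanish {χ : P → ℂ} (hP : IsExtraspecial p P) (hχ : IsIrrCharacter P χ)
    (h1 : χ 1 ≠ 1) {x : P} (hx : x ∉ Subgroup.center P) : χ x = 0 := by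
  rw [Subgroup.mem_center_iff] at hx
  push Not at hx
  obtain ⟨y, hy⟩ := hx
  have hc : x⁻¹ * y⁻¹ * x * y ∈ Subgroup.center P := by
    rw [← hP.1.2.2]
    have h0 := Subgroup.commutator_mem_commutator (Subgroup.mem_top x⁻¹) (Subgroup.mem_top y⁻¹)
    rw [commutatorElement_def, inv_inv, inv_inv] at h0
    exact h0
  apply irr_eq_zero_of_comm hχ x y hc
  apply es_center_ne hP hχ h1 hc
  intro h
  apply hy
  have : x * y = y * x * (x⁻¹ * y⁻¹ * x * y) := by group
  rw [this, h, mul_one]

/-- the degree equation `|P| = |Z| χ(1)²` -/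
theorem es_degree_sq {χ : P → ℂ} (hP : IsExtraspecial p P) (hχ : IsIrrCharacter P χ)
    (h1 : χ 1 ≠ 1) : (Nat.card P : ℂ) = p * (χ 1 * χ 1) := by
  classical
  have := Fintype.ofFinite P
  have h := irr_inner_self hχ
  unfold classInner at h
  have hc : (Nat.card P : ℂ) ≠ 0 := card_ne_zero P
  have h2 : ∑ g : P, χ g * conj (χ g) = (Nat.card P : ℂ) := by
    field_simp at h
    exact h
  rw [← h2]
  have h3 : ∀ g : P, χ g * conj (χ g) = if g ∈ Subgroup.center P then χ 1 * χ 1 else 0 := by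
    intro g
    split_ifs with hg
    · exact irr_central_norm hχ hg
    · rw [es_vanish hP hχ h1 hg, zero_mul]
  simp_rw [h3]
  rw [Finset.sum_ite, Finset.sum_const_zero, add_zero, Finset.sum_const, nsmul_eq_mul]
  congr 2
  rw [← hP.2, Nat.card_eq_fintype_card, Fintype.card_subtype]

theorem es_degree {χ : P → ℂ} {n : ℕ} (hP : IsExtraspecial p P)
    (hcard : Nat.card P = p ^ (2 * n + 1)) (hχ : IsIrrCharacter P χ)
    (h1 : χ 1 ≠ 1) : χ 1 = (p : ℂ) ^ n := by
  have h := es_degree_sq hP hχ h1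
  rw [Helper80.char_one_eq_charDegree (irr_char hχ)] at h ⊢
  rw [hcard] at h
  have h' : p ^ (2 * n + 1) = p * (charDegree χ * charDegree χ) := by exact_mod_cast h
  rw [pow_succ, mul_comm] at h'
  have h'' := Nat.eq_of_mul_eq_mul_left hp.out.pos h'
  have h3 : (p ^ n) ^ 2 = (charDegree χ) ^ 2 := by
    rw [← pow_mul, mul_comm n 2, h'', sq]
  have h4 : p ^ n = charDegree χ := by
    exact (Nat.pow_left_injective (n := 2) (by norm_num)) h3
  rw [← h4]
  push_cast
  rfl

theorem es_n_ne_zero {n : ℕ} (hP : IsExtraspecial p P)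
    (hcard : Nat.card P = p ^ (2 * n + 1)) : n ≠ 0 := by
  rintro rfl
  have h1 : Nat.card (Subgroup.center P) = Nat.card P := by rw [hP.2, hcard]; simp
  have h2 : Subgroup.center P = ⊤ := Subgroup.eq_top_of_card_eq _ h1
  have h3 : commutator P = ⊥ := by
    rw [commutator_def, Subgroup.commutator_eq_bot_iff_le_centralizer, Subgroup.coe_top,
      Subgroup.centralizer_univ, h2]
  have h4 : Subgroup.center P = ⊥ := by rw [← hP.1.2.2, h3]
  have h5 := hP.2
  rw [h4, Subgroup.card_bot] at h5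
  exact hp.out.one_lt.ne h5

end extraspecial

end Cfsg.Agent.Lib.Helper15
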