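import Cfsg.Agent.Lib.Helper15.CyclicGl
import Cfsg.Agent.Lib.Helper80.Linear
import Cfsg.Agent.Lib.Helper80.Core
import Cfsg.Agent.Lib.Helper3.Eigen
import Cfsg.Agent.S4604

/-!
# Cyclic operator groups all of whose non-identity elements have the same fixed points
-/

set_option autoImplicit false
set_option linter.unusedSectionVars false

namespace Cfsg.Agent.Lib.Helper15

open Cfsg Cfsg.Agent.Lib
open scoped ComplexConjugate

section structureLemma

variable {S : Type*} [Group S] [Fintype S]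

theorem norm_linear_le {lam : S → ℂ} (h : IsIrrCharacter S lam) (h1 : lam 1 = 1) (x : S) :
    ‖lam x‖ ≤ 1 := by
  obtain ⟨n, ρ, -, rfl⟩ := h
  have h2 := Helper3.norm_char_le ρ x
  rw [Representation.char_one] at h1
  have h3 : (Module.finrank ℂ (Fin n → ℂ) : ℝ) = 1 := by exact_mod_cast h1
  rwa [h3] at h2

open Classical in
/-- the regular character of an abelian group -/
theorem sum_irr_of_comm (hcomm : ∀ a b : S, a * b = b * a) (x : S) :
    ∑ lam : IrrCharacter S, (lam : S → ℂ) x = if x = 1 then (Nat.card S : ℂ) else 0 := by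
  classical
  have h := Helper80.col_orth x 1
  have h1 : ∀ lam : IrrCharacter S, (lam : S → ℂ) x * conj ((lam : S → ℂ) 1) = (lam : S → ℂ) x := by
    intro lam
    rw [Helper80.char_one_eq_one_of_comm hcomm lam, map_one, mul_one]
  rw [Finset.sum_congr rfl (fun lam _ => h1 lam)] at h
  rw [h]
  by_cases hx : x = 1
  · subst hx
    rw [if_pos (IsConj.refl _), if_pos rfl]
    have : Subgroup.centralizer ({1} : Set S) = ⊤ := by
      rw [eq_top_iff]
      intro y _
      rw [Subgroup.mem_centralizer_iff]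
      intro z hz
      rw [Set.mem_singleton_iff.1 hz]
      simp
    rw [this, Subgroup.card_top]
  · rw [if_neg hx, if_neg]
    intro hc
    exact hx (isConj_one_right.1 hc.symm)

/-- A character of an abelian group taking only the values `±1` off the identity is a multiple of
the regular character plus or minus a linear character. -/
theorem char_pm_one_structure (hcomm : ∀ a b : S, a * b = b * a)
    {ψ : S → ℂ} (hψ : IsCharacter S ψ) (h : ∀ x, x ≠ 1 → ψ x = 1 ∨ ψ x = -1) :
    ∃ (ε : ℤ) (μ : S → ℂ) (b : ℕ), (ε = 1 ∨ ε = -1) ∧ IsCharacter S μ ∧ μ 1 = 1 ∧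
      (∀ x, x ≠ 1 → ψ x = ε * μ x) ∧ ψ 1 = b * Nat.card S + ε := by
  classical
  obtain ⟨a, ha1, ha2, -⟩ := Helper80.exists_mult_spec hψ
  have hlin : ∀ lam : IrrCharacter S, (lam : S → ℂ) 1 = 1 := Helper80.char_one_eq_one_of_comm hcomm
  have hn0 : (Nat.card S : ℂ) ≠ 0 := by
    have : Nat.card S ≠ 0 := Nat.card_pos.ne'
    exact_mod_cast this
  have hnpos : (0 : ℝ) < Nat.card S := by exact_mod_cast (Nat.card_pos : 0 < Nat.card S)
  -- the multiplicities differ by at most one
  have hdiff : ∀ lam lam' : IrrCharacter S, a lam < a lam' + 2 := by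
    intro lam lam'
    have h1 : ((a lam : ℂ) - a lam') = (Nat.card S : ℂ)⁻¹ *
        ∑ x : S, ψ x * (conj ((lam : S → ℂ) x) - conj ((lam' : S → ℂ) x)) := by
      rw [← ha1, ← ha1]
      unfold classInner
      rw [← mul_sub, ← Finset.sum_sub_distrib]
      congr 1
      apply Finset.sum_congr rfl
      intro x _
      ring
    have h2 : ∀ x : S, ‖ψ x * (conj ((lam : S → ℂ) x) - conj ((lam' : S → ℂ) x))‖
        ≤ if x = 1 then 0 else 2 := by
      intro x
      split_ifs with hx
      · subst hx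
        rw [hlin, hlin]
        simp
      · rw [norm_mul]
        have h3 : ‖ψ x‖ = 1 := by
          rcases h x hx with h4 | h4 <;> rw [h4] <;> simp
        rw [h3, one_mul]
        calc ‖conj ((lam : S → ℂ) x) - conj ((lam' : S → ℂ) x)‖
            ≤ ‖conj ((lam : S → ℂ) x)‖ + ‖conj ((lam' : S → ℂ) x)‖ := norm_sub_le _ _
          _ ≤ 1 + 1 := by
              rw [RCLike.norm_conj, RCLike.norm_conj]
              exact add_le_add (norm_linear_le lam.2 (hlin lam) x) (norm_linear_le lam'.2 (hlin lam') x)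
          _ = 2 := by norm_num
    have h3 : ‖((a lam : ℂ) - a lam')‖ < 2 := by
      rw [h1, norm_mul, norm_inv, Complex.norm_natCast]
      have h4 : ‖∑ x : S, ψ x * (conj ((lam : S → ℂ) x) - conj ((lam' : S → ℂ) x))‖
          ≤ 2 * ((Nat.card S : ℝ) - 1) := by
        calc ‖∑ x : S, ψ x * (conj ((lam : S → ℂ) x) - conj ((lam' : S → ℂ) x))‖
            ≤ ∑ x : S, ‖ψ x * (conj ((lam : S → ℂ) x) - conj ((lam' : S → ℂ) x))‖ :=
              norm_sum_le _ _
          _ ≤ ∑ x : S, (if x = 1 then (0 : ℝ) else 2) := Finset.sum_le_sum (fun x _ => h2 x)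
          _ = 2 * ((Nat.card S : ℝ) - 1) := by
              rw [← Finset.add_sum_erase Finset.univ _ (Finset.mem_univ (1 : S)), if_pos rfl,
                zero_add, Finset.sum_congr rfl (g := fun _ => (2 : ℝ)) (fun x hx => by
                  rw [if_neg (Finset.ne_of_mem_erase hx)]), Finset.sum_const,
                Finset.card_erase_of_mem (Finset.mem_univ _), Finset.card_univ, nsmul_eq_mul,
                Nat.card_eq_fintype_card, Nat.cast_sub Fintype.card_pos]
              push_cast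
              ring
      calc (Nat.card S : ℝ)⁻¹ * ‖∑ x : S, ψ x * (conj ((lam : S → ℂ) x) - conj ((lam' : S → ℂ) x))‖
          ≤ (Nat.card S : ℝ)⁻¹ * (2 * ((Nat.card S : ℝ) - 1)) :=
            mul_le_mul_of_nonneg_left h4 (inv_nonneg.2 hnpos.le)
        _ < 2 := by
            rw [inv_mul_lt_iff₀ hnpos]
            linarith
    by_contra hcon
    push Not at hcon
    have h5 : ((a lam : ℂ) - a lam') = ((a lam - a lam' : ℕ) : ℂ) := by
      rw [Nat.cast_sub (by omega)]
    rw [h5, Complex.norm_natCast] at h3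
    have h6 : a lam - a lam' < 2 := by exact_mod_cast h3
    omega
  -- a character of minimal multiplicity
  obtain ⟨lam₀, -, hmin⟩ := Finset.exists_min_image (Finset.univ : Finset (IrrCharacter S)) a
    ⟨⟨_, irr_one⟩, Finset.mem_univ _⟩
  have hb1 : ∀ lam, a lam - a lam₀ ≤ 1 := by
    intro lam
    have := hdiff lam lam₀
    omega
  have hab : ∀ lam, a lam = a lam₀ + (a lam - a lam₀) := by
    intro lam
    have := hmin lam (Finset.mem_univ _)
    omega
  set b : IrrCharacter S → ℕ := fun lam => a lam - a lam₀ with hb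
  set μp : S → ℂ := ∑ lam : IrrCharacter S, (b lam : ℂ) • (lam : S → ℂ) with hμp
  set μm : S → ℂ := ∑ lam : IrrCharacter S, ((1 - b lam : ℕ) : ℂ) • (lam : S → ℂ) with hμm
  have hμpc : IsCharacter S μp :=
    Helper74.IsCharacter.sum _ _ (fun lam _ => Helper74.IsCharacter.nsmul (irr_char lam.2) _)
  have hμmc : IsCharacter S μm :=
    Helper74.IsCharacter.sum _ _ (fun lam _ => Helper74.IsCharacter.nsmul (irr_char lam.2) _)
  set k : ℕ := ∑ lam : IrrCharacter S, b lam with hk
  have hcardIrr : Fintype.card (IrrCharacter S) = Nat.card S := by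
    rw [← Nat.card_eq_fintype_card]
    exact Helper80.card_irr_of_comm hcomm
  have hkle : k ≤ Nat.card S := by
    rw [← hcardIrr, ← Finset.card_univ, Finset.card_eq_sum_ones]
    exact Finset.sum_le_sum (fun lam _ => hb1 lam)
  have hμp1 : μp 1 = k := by
    rw [hμp, Finset.sum_apply, hk]
    push_cast
    apply Finset.sum_congr rfl
    intro lam _
    rw [Pi.smul_apply, hlin, smul_eq_mul, mul_one]
  have hsum : ∀ x, μp x + μm x = if x = 1 then (Nat.card S : ℂ) else 0 := by
    intro x
    rw [← sum_irr_of_comm hcomm x, hμp, hμm, Finset.sum_apply, Finset.sum_apply,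
      ← Finset.sum_add_distrib]
    apply Finset.sum_congr rfl
    intro lam _
    rw [Pi.smul_apply, Pi.smul_apply, smul_eq_mul, smul_eq_mul, ← add_mul,
      Nat.cast_sub (hb1 lam)]
    push_cast
    ring
  have hμm1 : μm 1 = (Nat.card S : ℂ) - k := by
    have := hsum 1
    rw [if_pos rfl, hμp1] at this
    rw [← this]
    ring
  have hψ' : ∀ x, ψ x = (a lam₀ : ℂ) * (if x = 1 then (Nat.card S : ℂ) else 0) + μp x := by
    intro x
    rw [← sum_irr_of_comm hcomm x, Finset.mul_sum, hμp, Finset.sum_apply,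
      ← Finset.sum_add_distrib]
    conv_lhs => rw [ha2, Finset.sum_apply]
    apply Finset.sum_congr rfl
    intro lam _
    rw [Pi.smul_apply, Pi.smul_apply, smul_eq_mul, smul_eq_mul, ← add_mul]
    congr 1
    have := hab lam
    exact_mod_cast this
  have hψp : ∀ x, x ≠ 1 → ψ x = μp x := by
    intro x hx
    rw [hψ' x, if_neg hx, mul_zero, zero_add]
  have hψm : ∀ x, x ≠ 1 → ψ x = -μm x := by
    intro x hx
    have := hsum x
    rw [if_neg hx] at this
    rw [hψp x hx]
    linear_combination this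
  -- orthogonality
  have horth : classInner μp μm = 0 := by
    rw [hμm, classInner_sum_right]
    apply Finset.sum_eq_zero
    intro lam _
    rw [classInner_smul_right, hμp, Helper74.classInner_sum_irr, Complex.conj_natCast]
    have h1 : b lam ≤ 1 := hb1 lam
    have h2 : b lam = 0 ∨ b lam = 1 := by omega
    rcases h2 with h2 | h2 <;> rw [h2] <;> simp
  have hcomp : classInner μp μm = (Nat.card S : ℂ)⁻¹ *
      ((k : ℂ) * ((Nat.card S : ℂ) - k) - ((Nat.card S : ℂ) - 1)) := by
    unfold classInner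
    congr 1
    rw [← Finset.add_sum_erase Finset.univ _ (Finset.mem_univ (1 : S)), hμp1, hμm1,
      Finset.sum_congr rfl (g := fun _ => (-1 : ℂ)) (fun x hx => by
        have hx1 := Finset.ne_of_mem_erase hx
        have h1 : μm x = -ψ x := by rw [hψm x hx1, neg_neg]
        rw [← hψp x hx1, h1]
        rcases h x hx1 with h2 | h2 <;> rw [h2] <;> simp), Finset.sum_const,
      Finset.card_erase_of_mem (Finset.mem_univ _), Finset.card_univ, nsmul_eq_mul,
      Nat.card_eq_fintype_card, Nat.cast_sub Fintype.card_pos]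
    simp
    ring
  have hkeq : (k : ℂ) * ((Nat.card S : ℂ) - k) - ((Nat.card S : ℂ) - 1) = 0 := by
    rw [horth] at hcomp
    rcases mul_eq_zero.1 hcomp.symm with h1 | h1
    · exact absurd (inv_eq_zero.1 h1) hn0
    · exact h1
  have hkz : ((k : ℤ) - 1) * ((Nat.card S : ℤ) - 1 - k) = 0 := by
    have : (((k : ℤ) - 1) * ((Nat.card S : ℤ) - 1 - k) : ℂ) = 0 := by
      linear_combination hkeq
    exact_mod_cast this
  have hψ1 : ψ 1 = (a lam₀ : ℂ) * Nat.card S + k := by
    rw [hψ' 1, if_pos rfl, hμp1]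
  rcases mul_eq_zero.1 hkz with h1 | h1
  · have hk1 : k = 1 := by omega
    refine ⟨1, μp, a lam₀, Or.inl rfl, hμpc, by rw [hμp1, hk1]; simp, fun x hx => ?_, ?_⟩
    · rw [hψp x hx]; simp
    · rw [hψ1, hk1]; simp
  · have hk1 : (k : ℂ) = (Nat.card S : ℂ) - 1 := by
      have : (k : ℤ) = (Nat.card S : ℤ) - 1 := by omega
      exact_mod_cast this
    refine ⟨-1, μm, a lam₀ + 1, Or.inr rfl, hμmc, by rw [hμm1, hk1]; ring, fun x hx => ?_, ?_⟩
    · rw [hψm x hx]; simp
    · rw [hψ1, hk1]; push_cast; ring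

end structureLemma

section fpf

variable {Γ : Type*} [Group Γ] [Fintype Γ] {G S C : Subgroup Γ}

theorem centralizer_zpowers_eq (x : Γ) :
    Subgroup.centralizer (Subgroup.zpowers x : Set Γ) = Subgroup.centralizer ({x} : Set Γ) := by
  apply le_antisymm
  · apply Subgroup.centralizer_le
    intro y hy
    rw [Set.mem_singleton_iff.1 hy]
    exact Subgroup.mem_zpowers x
  · intro y hy
    rw [Subgroup.mem_centralizer_iff] at hy ⊢
    intro t ht
    obtain ⟨n, rfl⟩ := Subgroup.mem_zpowers_iff.1 ht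
    have h1 : Commute x y := hy x rfl
    exact (h1.zpow_left n)

namespace CycSetup

theorem inner_int' (h : CycSetup G S C) [Fintype C] {χh : Γ → ℂ} (hc : IsCanon G S χh) {x : Γ}
    (hx : x ∈ S) {φ : C → ℂ} (hφ : IsIrrCharacter C φ) :
    ∃ z : ℤ, classInner (fun c : C => χh ((c : Γ) * x)) φ = z := by
  have := Fintype.ofFinite S
  have hF : IsCharacter S (partInner C S χh φ) :=
    char_partInner C S (fun a ha b hb => h.comm ha hb) (irr_char hc.irr) hφ
  obtain ⟨z, hz⟩ := exists_int_of_pow_eq hF ⟨x, hx⟩ (by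
    intro k hk
    unfold partInner
    congr 1
    apply Finset.sum_congr rfl
    intro c _
    congr 1
    exact h.canon_pow hc c.2 hx k hk)
  exact ⟨z, hz⟩

theorem inner_elt (h : CycSetup G S C) [Fintype G] [Fintype C] {χh χh' : Γ → ℂ}
    (hc : IsCanon G S χh) (hc' : IsCanon G S χh') {x : Γ} (hx : x ∈ S)
    (hCx : G ⊓ Subgroup.centralizer ({x} : Set Γ) = C) :
    classInner (fun c : C => χh ((c : Γ) * x)) (fun c : C => χh' ((c : Γ) * x))
      = if χh = χh' then 1 else 0 := by
  have hN := h.normal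
  obtain ⟨-, h2, h3⟩ := Cfsg.Agent.S0868.result G χh' hc'.irr hc'.res χh hc.irr _ rfl
  have hη : (Nat.card G : ℂ)⁻¹ * ∑ n : G, χh ((n : Γ) * x) * conj (χh' ((n : Γ) * x))
      = if χh = χh' then 1 else 0 := by
    split_ifs with heq
    · exact congrFun (h3 heq) x
    · have h4 : classInner (fun n : G => χh n) (fun n : G => χh' n) = 0 := by
        apply irr_inner_ne hc.res hc'.res
        intro h5
        exact heq (h.canon_unique hc hc' (fun g => congrFun h5 g))
      exact congrFun (h2 h4) x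
  have hcf : IsClassFunction Γ (fun x => χh x * conj (χh' x)) := by
    intro x y
    change χh (y * x * y⁻¹) * conj (χh' (y * x * y⁻¹)) = χh x * conj (χh' x)
    rw [irr_cf hc.irr, irr_cf hc'.irr]
  rw [← centralizer_zpowers_eq] at hCx
  have hle : Subgroup.zpowers x ≤ S := by
    rw [Subgroup.zpowers_le]; exact hx
  have hcop' : (Nat.card G).Coprime (Nat.card (Subgroup.zpowers x)) :=
    Nat.Coprime.coprime_dvd_right (Subgroup.card_dvd_of_le hle) h.hcop
  have hnorm := h.hnorm
  subst hCx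
  have hsum := sum_coset_generator G (Subgroup.zpowers x) (fun s hs => hnorm s (hle hs)) hcop'
    x rfl _ hcf
  rw [← hη]
  unfold classInner
  have hG0 : (Nat.card G : ℂ) ≠ 0 := by
    have : Nat.card G ≠ 0 := Nat.card_pos.ne'
    exact_mod_cast this
  have hC0 : (Nat.card ↥(G ⊓ Subgroup.centralizer (Subgroup.zpowers x : Set Γ)) : ℂ) ≠ 0 := by
    have : Nat.card ↥(G ⊓ Subgroup.centralizer (Subgroup.zpowers x : Set Γ)) ≠ 0 :=
      Nat.card_pos.ne'
    exact_mod_cast this
  field_simp
  rw [mul_comm, ← hsum, mul_comm]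

theorem exists_beta_elt (h : CycSetup G S C) [Fintype G] [Fintype C] {χh : Γ → ℂ}
    (hc : IsCanon G S χh) {x : Γ} (hx : x ∈ S)
    (hCx : G ⊓ Subgroup.centralizer ({x} : Set Γ) = C) :
    ∃ (β : C → ℂ) (ε : ℤ), IsIrrCharacter C β ∧ (ε = 1 ∨ ε = -1) ∧
      ∀ c : C, χh ((c : Γ) * x) = (ε : ℂ) * β c := by
  have := Fintype.ofFinite (IrrCharacter C)
  have hgen : IsGeneralizedCharacter C (fun c : C => χh ((c : Γ) * x)) := by
    rw [Helper3.isGeneralizedCharacter_iff]
    exact ⟨h.cf_gen (irr_cf hc.irr) hx, fun φ => h.inner_int' hc hx φ.2⟩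
  have hnorm := h.inner_elt hc hc hx hCx
  rw [if_pos rfl] at hnorm
  rcases Helper26.gen_norm_one hgen hnorm with h1 | h1
  · exact ⟨_, 1, h1, Or.inl rfl, fun c => by simp⟩
  · refine ⟨_, -1, h1, Or.inr rfl, fun c => ?_⟩
    simp

/-- all non-identity elements of `S` see the same correspondent -/
theorem fpf_values (h : CycSetup G S C) [Fintype G] [Fintype C]
    (hfpf : ∀ x ∈ S, x ≠ 1 → G ⊓ Subgroup.centralizer ({x} : Set Γ) = C)
    {χh : Γ → ℂ} (hc : IsCanon G S χh) {s : Γ} (hs : Subgroup.zpowers s = S) {β : C → ℂ}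
    (hβ : IsIrrCharacter C β) {ε₀ : ℤ} (hε₀ : ε₀ = 1 ∨ ε₀ = -1)
    (hval : ∀ c : C, χh ((c : Γ) * s) = (ε₀ : ℂ) * β c) :
    ∀ x ∈ S, x ≠ 1 → ∃ ε : ℤ, (ε = 1 ∨ ε = -1) ∧ ∀ c : C, χh ((c : Γ) * x) = (ε : ℂ) * β c := by
  have := Fintype.ofFinite S
  have hsS : s ∈ S := hs ▸ Subgroup.mem_zpowers s
  have hF : IsCharacter S (partInner C S χh β) :=
    char_partInner C S (fun a ha b hb => h.comm ha hb) (irr_char hc.irr) hβ
  have hεne : ∀ ε : ℤ, (ε = 1 ∨ ε = -1) → (ε : ℂ) ≠ 0 := by
    rintro ε (rfl | rfl) <;> norm_num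
  have hFval : ∀ (x : Γ) (hx : x ∈ S) (β' : C → ℂ) (ε : ℂ),
      (∀ c : C, χh ((c : Γ) * x) = ε * β' c) →
      partInner C S χh β ⟨x, hx⟩ = ε * classInner β' β := by
    intro x hx β' ε hv
    have h2 : partInner C S χh β ⟨x, hx⟩ = classInner (fun c : C => χh ((c : Γ) * x)) β := rfl
    rw [h2, show (fun c : C => χh ((c : Γ) * x)) = ε • β' from funext hv, classInner_smul_left]
  -- Claim A
  have hA : ∀ (x : Γ) (hx : x ∈ S), x ≠ 1 → partInner C S χh β ⟨x, hx⟩ ≠ 0 →
      ∃ ε : ℤ, (ε = 1 ∨ ε = -1) ∧ ∀ c : C, χh ((c : Γ) * x) = (ε : ℂ) * β c := by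
    intro x hx hx1 hne
    obtain ⟨β', ε, hβ', hε, hv⟩ := h.exists_beta_elt hc hx (hfpf x hx hx1)
    rw [hFval x hx β' ε hv] at hne
    have h1 : β' = β := irr_eq_of_inner_ne_zero hβ' hβ (right_ne_zero_of_mul hne)
    subst h1
    exact ⟨ε, hε, hv⟩
  -- Claim B
  have hB : ∀ m : ℕ, s ^ m ≠ 1 → partInner C S χh β ⟨s ^ m, S.pow_mem hsS m⟩ ≠ 0 := by
    intro m
    induction m using Nat.strong_induction_on with
    | _ m ih =>
      intro hm
      rcases Nat.lt_or_ge m 2 with hlt | hge
      · interval_cases m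
        · exact absurd (pow_zero s) hm
        · have h1 := hFval (s ^ 1) (S.pow_mem hsS 1) β ε₀ (by rw [pow_one]; exact hval)
          rw [h1, irr_inner_self hβ, mul_one]
          exact hεne ε₀ hε₀
      · have hp : (Nat.minFac m).Prime := Nat.minFac_prime (by omega)
        obtain ⟨m', hm'⟩ := Nat.minFac_dvd m
        set p := Nat.minFac m with hpdef
        have hm'lt : m' < m := by
          have h1 : 0 < m' := by
            rcases Nat.eq_zero_or_pos m' with h0 | h0
            · rw [h0, mul_zero] at hm'; omega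
            · exact h0
          have h2 := hp.two_le
          nlinarith
        have hpow : (s ^ m') ^ p = s ^ m := by
          rw [← pow_mul, mul_comm, ← hm']
        have ht1 : s ^ m' ≠ 1 := by
          intro h0
          rw [h0, one_pow] at hpow
          exact hm hpow.symm
        have hFt := ih m' hm'lt ht1
        obtain ⟨ε, hε, hv⟩ := hA _ (S.pow_mem hsS m') ht1 hFt
        have hFt' := hFval _ (S.pow_mem hsS m') β ε hv
        rw [irr_inner_self hβ, mul_one] at hFt'
        have hcong := Cfsg.Agent.S4604.char_pow_congr hF hp 1 ⟨s ^ m', S.pow_mem hsS m'⟩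
        rw [pow_one, hFt'] at hcong
        have h3 : (⟨s ^ m', S.pow_mem hsS m'⟩ : S) ^ p = ⟨s ^ m, S.pow_mem hsS m⟩ :=
          Subtype.ext hpow
        rw [h3] at hcong
        intro h0
        rw [h0, sub_zero] at hcong
        have h4 : Cfsg.Agent.S4604.PDvd p ((1 : ℕ) : ℂ) := by
          rcases hε with rfl | rfl
          · simpa using hcong
          · rcases neg_one_pow_eq_or ℂ p with h5 | h5
            · push_cast at hcong
              rw [h5] at hcong
              simpa using hcong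
            · push_cast at hcong
              rw [h5] at hcong
              simpa using hcong.neg
        have h5 := Cfsg.Agent.S4604.dvd_of_pdvd hp.pos h4
        exact hp.one_lt.ne' (Nat.dvd_one.1 h5)
  intro x hx hx1
  have hx' : x ∈ Subgroup.zpowers s := hs.symm ▸ hx
  rw [← mem_powers_iff_mem_zpowers] at hx'
  obtain ⟨m, rfl⟩ := hx'
  exact hA _ hx hx1 (hB m hx1)

/-- Isaacs-type structure theorem for the canonical extension when all non-identity elements of the
cyclic group `S` have the same fixed points. -/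
theorem fpf_structure (h : CycSetup G S C) [Fintype G] [Fintype C]
    (hfpf : ∀ x ∈ S, x ≠ 1 → G ⊓ Subgroup.centralizer ({x} : Set Γ) = C)
    {χh : Γ → ℂ} (hc : IsCanon G S χh) {s : Γ} (hs : Subgroup.zpowers s = S) {β : C → ℂ}
    (hβ : IsIrrCharacter C β) {ε₀ : ℤ} (hε₀ : ε₀ = 1 ∨ ε₀ = -1)
    (hval : ∀ c : C, χh ((c : Γ) * s) = (ε₀ : ℂ) * β c) :
    ∃ (ε : ℤ) (μ : S → ℂ), (ε = 1 ∨ ε = -1) ∧ IsCharacter S μ ∧ μ 1 = 1 ∧
      (∀ x : S, μ x * μ x = 1) ∧
      (∀ c : C, ∀ x : S, x ≠ 1 → χh ((c : Γ) * x) = (ε : ℂ) * β c * μ x) ∧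
      ∃ ϑ : C → ℂ, IsCharacter C ϑ ∧
        (fun c : C => χh (c : Γ)) = fun c => (Nat.card S : ℂ) * ϑ c + (ε : ℂ) * β c := by
  classical
  have := Fintype.ofFinite S
  have hvals := h.fpf_values hfpf hc hs hβ hε₀ hval
  have hcomm : ∀ a b : S, a * b = b * a := by
    intro a b
    have ha : (a : Γ) ∈ Subgroup.zpowers s := hs.symm ▸ a.2
    have hb : (b : Γ) ∈ Subgroup.zpowers s := hs.symm ▸ b.2
    obtain ⟨i, hi⟩ := Subgroup.mem_zpowers_iff.1 ha
    obtain ⟨j, hj⟩ := Subgroup.mem_zpowers_iff.1 hb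
    apply Subtype.ext
    change (a : Γ) * b = b * a
    rw [← hi, ← hj, ← zpow_add, ← zpow_add, add_comm]
  have hFc : ∀ φ : C → ℂ, IsIrrCharacter C φ → IsCharacter S (partInner C S χh φ) := fun φ hφ =>
    char_partInner C S (fun a ha b hb => h.comm ha hb) (irr_char hc.irr) hφ
  have hFval : ∀ (φ : C → ℂ) (x : S) (ε : ℂ), (∀ c : C, χh ((c : Γ) * x) = ε * β c) →
      partInner C S χh φ x = ε * classInner β φ := by
    intro φ x ε hv
    have h2 : partInner C S χh φ x = classInner (fun c : C => χh ((c : Γ) * x)) φ := rfl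
    rw [h2, show (fun c : C => χh ((c : Γ) * x)) = ε • β from funext hv, classInner_smul_left]
  have hx1 : ∀ x : S, x ≠ 1 → (x : Γ) ≠ 1 := fun x hx h0 => hx (Subtype.ext h0)
  have hpm : ∀ x : S, x ≠ 1 → partInner C S χh β x = 1 ∨ partInner C S χh β x = -1 := by
    intro x hx
    obtain ⟨ε, hε, hv⟩ := hvals x x.2 (hx1 x hx)
    rw [hFval β x ε hv, irr_inner_self hβ, mul_one]
    rcases hε with rfl | rfl
    · left; simp
    · right; simp
  obtain ⟨ε, μ, b, hε, hμ, hμ1, hμv, hb⟩ := char_pm_one_structure hcomm (hFc β hβ) hpm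
  have hεsq : (ε : ℂ) * ε = 1 := by
    rcases hε with rfl | rfl <;> norm_num
  have hn0 : (Nat.card S : ℂ) ≠ 0 := by
    have : Nat.card S ≠ 0 := Nat.card_pos.ne'
    exact_mod_cast this
  have hF1 : ∀ φ : C → ℂ, partInner C S χh φ 1 = classInner (fun c : C => χh (c : Γ)) φ := by
    intro φ
    unfold partInner classInner
    simp
  refine ⟨ε, μ, hε, hμ, hμ1, ?_, ?_, ?_⟩
  · intro x
    by_cases hx : x = 1
    · rw [hx, hμ1, mul_one]
    · have h1 := hμv x hx
      have h2 : ((ε : ℂ) * μ x) * ((ε : ℂ) * μ x) = 1 := by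
        rw [← h1]
        rcases hpm x hx with h3 | h3 <;> rw [h3] <;> norm_num
      calc μ x * μ x = ((ε : ℂ) * ε) * (μ x * μ x) := by rw [hεsq, one_mul]
        _ = ((ε : ℂ) * μ x) * ((ε : ℂ) * μ x) := by ring
        _ = 1 := h2
  · intro c x hx
    obtain ⟨ε', hε', hv⟩ := hvals x x.2 (hx1 x hx)
    have h1 := hFval β x ε' hv
    rw [irr_inner_self hβ, mul_one, hμv x hx] at h1
    rw [hv c, ← h1]
    ring
  · refine ⟨fun c => (Nat.card S : ℂ)⁻¹ * (χh (c : Γ) - (ε : ℂ) * β c), ?_, ?_⟩
    · rw [isChar_iff]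
      constructor
      · intro c d
        change (Nat.card S : ℂ)⁻¹ * (χh ((d : Γ) * c * (d : Γ)⁻¹) - (ε : ℂ) * β (d * c * d⁻¹)) = _
        rw [irr_cf hc.irr, irr_cf hβ]
      · intro φ hφ
        have h1 : classInner (fun c : C => (Nat.card S : ℂ)⁻¹ * (χh (c : Γ) - (ε : ℂ) * β c)) φ
            = (Nat.card S : ℂ)⁻¹ * (partInner C S χh φ 1 - (ε : ℂ) * classInner β φ) := by
          rw [hF1, show (fun c : C => (Nat.card S : ℂ)⁻¹ * (χh (c : Γ) - (ε : ℂ) * β c))
            = (Nat.card S : ℂ)⁻¹ • ((fun c : C => χh (c : Γ)) - (ε : ℂ) • β) from rfl,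
            classInner_smul_left, classInner_sub_left, classInner_smul_left]
        rw [h1]
        by_cases hφβ : β = φ
        · subst hφβ
          refine ⟨b, ?_⟩
          rw [irr_inner_self hβ, hb]
          field_simp
          ring
        · rw [irr_inner_ne hβ hφ hφβ, mul_zero, sub_zero]
          obtain ⟨m, hm⟩ := inner_nat (hFc φ hφ) (irr_char (irr_one (G := S)))
          refine ⟨m, ?_⟩
          rw [← hm]
          unfold classInner
          congr 1
          rw [Finset.sum_eq_single (1 : S)]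
          · simp
          · intro x _ hx
            obtain ⟨ε', hε', hv⟩ := hvals x x.2 (hx1 x hx)
            rw [hFval φ x ε' hv, irr_inner_ne hβ hφ hφβ]
            simp
          · intro h0; exact absurd (Finset.mem_univ _) h0
    · funext c
      field_simp
      ring

end CycSetup

end fpf

end Cfsg.Agent.Lib.Helper15
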