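import Mathlib
import Cfsg.Agent.Lib.Helper75.TIC2
import Cfsg.Agent.Lib.Helper19.ZasData

/-!
# S3043 farm, piece A1: the Zassenhaus data
-/

set_option autoImplicit false

namespace Cfsg.Agent.Lib.Helper15.Bend

open Cfsg.Agent.Lib.Helper75.Bend Cfsg.Agent.Lib.Helper19 MulAction

variable {G : Type*} [Group G] [Finite G] {M : Subgroup G} {z : G}

omit [Finite G] in
theorem smul_mk_eq_iff (K : Subgroup G) (g x : G) :
    g • (QuotientGroup.mk x : G ⧸ K) = QuotientGroup.mk x ↔ x⁻¹ * g * x ∈ K := by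
  rw [MulAction.Quotient.smul_mk, eq_comm, QuotientGroup.eq, smul_eq_mul, mul_assoc]

omit [Finite G] in
theorem smul_mk_one_iff (K : Subgroup G) (g : G) :
    g • (QuotientGroup.mk 1 : G ⧸ K) = QuotientGroup.mk 1 ↔ g ∈ K := by
  rw [smul_mk_eq_iff]; simp

omit [Finite G] in
theorem mk_eq_one_iff (K : Subgroup G) (g : G) :
    (QuotientGroup.mk g : G ⧸ K) = QuotientGroup.mk 1 ↔ g ∈ K := by
  rw [eq_comm, QuotientGroup.eq]; simp

theorem stab_inf (h : TIS M z) {u : G} (huz : u * z = z * u)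
    (huN : u ∉ Subgroup.normalizer (M : Set G)) :
    stabilizer G (QuotientGroup.mk 1 : G ⧸ Subgroup.normalizer (M : Set G)) ⊓
        stabilizer G (QuotientGroup.mk u : G ⧸ Subgroup.normalizer (M : Set G)) =
      Subgroup.normalizer (M : Set G) ⊓ Subgroup.centralizer ({z} : Set G) := by
  have hu : orderOf u = 2 := h.invol_of_comm huz huN
  have huu : u * u = 1 := by rw [← sq, ← hu, pow_orderOf_eq_one]
  have hui : u⁻¹ = u := inv_eq_of_mul_eq_one_left huu
  ext g
  rw [Subgroup.mem_inf, Subgroup.mem_inf, mem_stabilizer_iff, mem_stabilizer_iff, smul_mk_one_iff,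
    smul_mk_eq_iff, Subgroup.mem_centralizer_singleton_iff]
  constructor
  · rintro ⟨hg, hgu⟩
    refine ⟨hg, ?_⟩
    have hgu' : u * g * u⁻¹ ∈ Subgroup.normalizer (M : Set G) := by
      rw [hui]; rw [hui] at hgu; exact hgu
    have h1 := h.inverts hu huN hg hgu'
    have hzu : u * z * u⁻¹ = z := by rw [huz, mul_inv_cancel_right]
    have h2 : u * (g * z) * u⁻¹ = g⁻¹ * z := by
      calc u * (g * z) * u⁻¹ = (u * g * u⁻¹) * (u * z * u⁻¹) := by group
        _ = g⁻¹ * z := by rw [h1, hzu]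
    have h3 : u * (g * z) * u⁻¹ = (g * z)⁻¹ := by
      refine h.inverts hu huN (mul_mem hg h.tic.zN) ?_
      rw [h2]
      exact mul_mem (inv_mem hg) h.tic.zN
    rw [h2, mul_inv_rev, h.tic.z_inv] at h3
    -- g⁻¹ z = z g⁻¹
    calc g * z = g * (z * g⁻¹) * g := by group
      _ = g * (g⁻¹ * z) * g := by rw [h3]
      _ = z * g := by group
  · rintro ⟨hg, hgz⟩
    refine ⟨hg, ?_⟩
    have h1 := h.inverts_of_comm huz huN hg hgz
    rw [hui] at h1 ⊢
    rw [h1]
    exact inv_mem hg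

theorem zdata (h : TIS M z) {u : G} (huz : u * z = z * u)
    (huN : u ∉ Subgroup.normalizer (M : Set G))
    (hA : ∀ w, w * z = z * w → w ∉ Subgroup.normalizer (M : Set G) →
      u * w ∈ Subgroup.normalizer (M : Set G)) :
    ZData G (G ⧸ Subgroup.normalizer (M : Set G)) (QuotientGroup.mk 1) (QuotientGroup.mk u) M := by
  set N := Subgroup.normalizer (M : Set G) with hN
  have hu : orderOf u = 2 := h.invol_of_comm huz huN
  have huu : u * u = 1 := by rw [← sq, ← hu, pow_orderOf_eq_one]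
  have hui : u⁻¹ = u := inv_eq_of_mul_eq_one_left huu
  have hab : (QuotientGroup.mk 1 : G ⧸ N) ≠ QuotientGroup.mk u := by
    intro e
    exact huN ((mk_eq_one_iff N u).mp e.symm)
  have Kfix : ∀ k ∈ M, k • (QuotientGroup.mk 1 : G ⧸ N) = QuotientGroup.mk 1 := fun k hk =>
    (smul_mk_one_iff N k).mpr (le_N hk)
  have Ktrans : ∀ c : G ⧸ N, c ≠ QuotientGroup.mk 1 →
      ∃ k ∈ M, k • (QuotientGroup.mk u : G ⧸ N) = c := by
    intro c hc
    obtain ⟨g, rfl⟩ := QuotientGroup.mk_surjective c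
    have hg : g ∉ N := fun hg => hc ((mk_eq_one_iff N g).mpr hg)
    obtain ⟨a, ha, w, hwz, hwN, b, hb, rfl⟩ := h.decomp hg
    refine ⟨a, ha, ?_⟩
    rw [MulAction.Quotient.smul_mk, QuotientGroup.eq, smul_eq_mul]
    have : (a * u)⁻¹ * (a * w * b) = (u * w) * b := by
      rw [mul_inv_rev, hui]; group
    rw [this]
    exact mul_mem (hA w hwz hwN) (le_N hb)
  have Kfree : ∀ k ∈ M, ∀ c : G ⧸ N, c ≠ QuotientGroup.mk 1 → k • c = c → k = 1 := by
    intro k hk c hc hkc
    obtain ⟨g, rfl⟩ := QuotientGroup.mk_surjective c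
    have hg : g ∉ N := fun hg => hc ((mk_eq_one_iff N g).mpr hg)
    rw [smul_mk_eq_iff] at hkc
    exact h.eq_one_of_conj_mem' hg hk hkc
  have move : ∀ {p q : G ⧸ N}, p ≠ q →
      ∃ g : G, g • p = QuotientGroup.mk 1 ∧ g • q = QuotientGroup.mk u := by
    intro p q hpq
    obtain ⟨x, rfl⟩ := QuotientGroup.mk_surjective p
    have h1 : x⁻¹ • (QuotientGroup.mk x : G ⧸ N) = QuotientGroup.mk 1 := by
      rw [MulAction.Quotient.smul_mk, smul_eq_mul, inv_mul_cancel]
    have h2 : x⁻¹ • q ≠ QuotientGroup.mk 1 := by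
      rw [← h1]
      intro e
      exact hpq (MulAction.injective _ e).symm
    obtain ⟨k, hk, hkq⟩ := Ktrans _ h2
    refine ⟨k⁻¹ * x⁻¹, ?_, ?_⟩
    · rw [mul_smul, h1, inv_smul_eq_iff, Kfix k hk]
    · rw [mul_smul, ← hkq, inv_smul_smul]
  have three : ∀ g : G, ∀ a b c : G ⧸ N, a ≠ b → b ≠ c → a ≠ c → g • a = a → g • b = b →
      g • c = c → g = 1 := by
    intro g a b c hab' hbc hac ha hb hc
    obtain ⟨k, hka, hkb⟩ := move hab'
    obtain ⟨y, hy⟩ : ∃ y, y = k * g * k⁻¹ := ⟨_, rfl⟩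
    have fixy : ∀ p : G ⧸ N, g • p = p → y • (k • p) = k • p := by
      intro p hp
      rw [hy, mul_smul, mul_smul, inv_smul_smul, hp]
    have hy1 : y • (QuotientGroup.mk 1 : G ⧸ N) = QuotientGroup.mk 1 := by
      rw [← hka]; exact fixy a ha
    have hy2 : y • (QuotientGroup.mk u : G ⧸ N) = QuotientGroup.mk u := by
      rw [← hkb]; exact fixy b hb
    have hy3 := fixy c hc
    have hc1 : k • c ≠ QuotientGroup.mk 1 := by
      rw [← hka]; intro e; exact hac (MulAction.injective _ e).symm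
    have hc2 : k • c ≠ QuotientGroup.mk u := by
      rw [← hkb]; intro e; exact hbc (MulAction.injective _ e).symm
    obtain ⟨m, hm, hmc⟩ := Ktrans _ hc1
    have hm1 : m ≠ 1 := by
      rintro rfl
      rw [one_smul] at hmc
      exact hc2 hmc.symm
    have hyN : y ∈ N := (smul_mk_one_iff N y).mp hy1
    have hyu : u * y * u⁻¹ ∈ N := by
      have := (smul_mk_eq_iff N y u).mp hy2
      rw [hui] at this ⊢
      exact this
    have hcm : m⁻¹ * (y * m * y⁻¹) = 1 := by
      refine Kfree _ (mul_mem (inv_mem hm) (conj_mem hyN hm)) _ hab.symm ?_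
      have e1 : y⁻¹ • (QuotientGroup.mk u : G ⧸ N) = QuotientGroup.mk u := by
        rw [inv_smul_eq_iff, hy2]
      rw [mul_smul, mul_smul, mul_smul, e1, hmc, hy3, ← hmc, inv_smul_smul]
    have hcomm : y * m = m * y := by
      have : y * m * y⁻¹ = m := by
        rw [inv_mul_eq_one] at hcm
        exact hcm.symm
      rw [mul_inv_eq_iff_eq_mul] at this
      exact this
    have hy0 : y = 1 := h.free hu huN hyN hyu hm hm1 hcomm
    rw [hy] at hy0
    have := congrArg (fun w => k⁻¹ * w * k) hy0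
    simpa [mul_assoc] using this
  refine ⟨⟨?_, ?_, three⟩, hab, Kfix, ?_, Ktrans, Kfree⟩
  · intro g hg
    obtain ⟨m, hm, hm1⟩ := h.tic.exists_ne
    have h1 : m • (QuotientGroup.mk u : G ⧸ N) ≠ QuotientGroup.mk u := fun e =>
      hm1 (Kfree m hm _ hab.symm e)
    have h2 : m • (QuotientGroup.mk u : G ⧸ N) ≠ QuotientGroup.mk 1 := by
      intro e
      rw [← Kfix m hm] at e
      exact hab (MulAction.injective _ e).symm
    exact three g _ _ _ hab h1.symm h2.symm (hg _) (hg _) (hg _)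
  · intro a b c d hab' hcd
    obtain ⟨g₁, h1, h2⟩ := move hab'
    obtain ⟨g₂, h3, h4⟩ := move hcd
    refine ⟨g₂⁻¹ * g₁, ?_, ?_⟩
    · rw [mul_smul, h1, ← h3, inv_smul_smul]
    · rw [mul_smul, h2, ← h4, inv_smul_smul]
  · intro g hg k hk
    exact conj_mem ((smul_mk_one_iff N g).mp hg) hk

end Cfsg.Agent.Lib.Helper15.Bend
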