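import Mathlib
import Cfsg.Agent.Lib.Helper75.TIC2

/-!
# S3043 farm, piece F: three counting formulas
-/

set_option autoImplicit false

namespace Cfsg.Agent.Lib.Helper15.Bend

open Cfsg.Agent.Lib.Helper75.Bend
open scoped Classical

variable {G : Type*} [Group G] [Finite G] {M : Subgroup G} {z : G}

theorem card_compl (K : Subgroup G) : Nat.card G = Nat.card K + Nat.card {g : G // g ∉ K} := by
  rw [← Nat.card_sum]
  exact Nat.card_congr (Equiv.sumCompl (· ∈ K)).symm

theorem card_N (h : TIC M z) :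
    Nat.card ↥(Subgroup.normalizer (M : Set G)) =
      Nat.card M * Nat.card ↥(Subgroup.normalizer (M : Set G) ⊓ Subgroup.centralizer ({z} : Set G)) := by
  rw [← Nat.card_prod]
  symm
  let f : M × ↥(Subgroup.normalizer (M : Set G) ⊓ Subgroup.centralizer ({z} : Set G)) →
      ↥(Subgroup.normalizer (M : Set G)) := fun p =>
    ⟨p.1 * p.2, mul_mem (le_N p.1.2) p.2.2.1⟩
  refine Nat.card_congr (Equiv.ofBijective f ⟨?_, ?_⟩)
  · rintro ⟨⟨m, hm⟩, ⟨c, hcN, hcC⟩⟩ ⟨⟨m', hm'⟩, ⟨c', hcN', hcC'⟩⟩ he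
    have he' : m * c = m' * c' := congrArg Subtype.val he
    have h1 : m'⁻¹ * m = c' * c⁻¹ := by
      rw [eq_mul_inv_iff_mul_eq, mul_assoc, he', inv_mul_cancel_left]
    have h2 : m'⁻¹ * m ∈ Subgroup.centralizer ({z} : Set G) := by
      rw [h1]; exact mul_mem hcC' (inv_mem hcC)
    have h3 : m'⁻¹ * m = 1 := by
      refine h.eq_one_of_comm (mul_mem (inv_mem hm') hm) h.hz ?_
      exact (Subgroup.mem_centralizer_singleton_iff.mp h2).symm
    have h4 : m = m' := (inv_mul_eq_one.mp h3).symm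
    subst h4
    have h5 : c = c' := mul_left_cancel he'
    subst h5
    rfl
  · rintro ⟨n, hn⟩
    obtain ⟨m, hm, c, hc, hcz, rfl⟩ := h.fac n hn
    exact ⟨⟨⟨m, hm⟩, ⟨c, hc, Subgroup.mem_centralizer_singleton_iff.mpr hcz⟩⟩, rfl⟩

theorem card_G (h : TIS M z) :
    Nat.card G + Nat.card M ^ 2 *
        Nat.card ↥(Subgroup.normalizer (M : Set G) ⊓ Subgroup.centralizer ({z} : Set G)) =
      Nat.card ↥(Subgroup.normalizer (M : Set G)) +
        Nat.card M ^ 2 * Nat.card ↥(Subgroup.centralizer ({z} : Set G)) := by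
  set N := Subgroup.normalizer (M : Set G) with hN
  set C := Subgroup.centralizer ({z} : Set G) with hC
  have e1 := card_compl N
  have e2 : Nat.card C = Nat.card ↥(N ⊓ C) + Nat.card {c : C // (c : G) ∉ N} := by
    have h1 : Nat.card C = Nat.card {c : C // (c : G) ∈ N} + Nat.card {c : C // (c : G) ∉ N} := by
      rw [← Nat.card_sum]
      exact Nat.card_congr (Equiv.sumCompl (fun c : C => (c : G) ∈ N)).symm
    rw [h1]
    congr 1
    refine Nat.card_congr
      { toFun := fun c => ⟨c.1.1, c.2, c.1.2⟩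
        invFun := fun d => ⟨⟨d.1, d.2.2⟩, d.2.1⟩
        left_inv := fun _ => rfl
        right_inv := fun _ => rfl }
  have e3 : Nat.card {g : G // g ∉ N} = Nat.card M ^ 2 * Nat.card {c : C // (c : G) ∉ N} := by
    have : Nat.card (M × {c : C // (c : G) ∉ N} × M) =
        Nat.card M ^ 2 * Nat.card {c : C // (c : G) ∉ N} := by
      rw [Nat.card_prod, Nat.card_prod]; ring
    rw [← this]
    symm
    let f : M × {c : C // (c : G) ∉ N} × M → {g : G // g ∉ N} := fun p =>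
      ⟨p.1 * p.2.1.1 * p.2.2, fun hmem => p.2.1.2 (by
        have h1 : ((p.2.1.1 : C) : G) = (p.1 : G)⁻¹ * (p.1 * p.2.1.1 * p.2.2) * (p.2.2 : G)⁻¹ := by
          group
        rw [h1]
        exact mul_mem (mul_mem (inv_mem (le_N p.1.2)) hmem) (inv_mem (le_N p.2.2.2)))⟩
    refine Nat.card_congr (Equiv.ofBijective f ⟨?_, ?_⟩)
    · rintro ⟨⟨a, ha⟩, ⟨⟨w, hw⟩, hwN⟩, ⟨b, hb⟩⟩ ⟨⟨a', ha'⟩, ⟨⟨w', hw'⟩, hwN'⟩, ⟨b', hb'⟩⟩ he
      have he' : a * w * b = a' * w' * b' := congrArg Subtype.val he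
      obtain ⟨r1, r2, r3⟩ := h.decomp_unique ha hb ha' hb'
        (Subgroup.mem_centralizer_singleton_iff.mp hw)
        (Subgroup.mem_centralizer_singleton_iff.mp hw') hwN he'
      subst r1 r2 r3
      rfl
    · rintro ⟨g, hg⟩
      obtain ⟨a, ha, w, hwz, hwN, b, hb, rfl⟩ := h.decomp hg
      exact ⟨⟨⟨a, ha⟩, ⟨⟨w, Subgroup.mem_centralizer_singleton_iff.mpr hwz⟩, hwN⟩, ⟨b, hb⟩⟩, rfl⟩
  rw [e1, e2, e3]
  ring

theorem card_invol (h : TIS M z) :
    Nat.card G + Nat.card M ^ 2 =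
      Nat.card ↥(Subgroup.normalizer (M : Set G)) +
        Nat.card M * Nat.card {g : G // orderOf g = 2} := by
  set N := Subgroup.normalizer (M : Set G) with hN
  have e1 := card_compl N
  have e2 : Nat.card {g : G // orderOf g = 2} =
      Nat.card M + Nat.card {u : {g : G // orderOf g = 2} // (u : G) ∉ N} := by
    have h1 : Nat.card {g : G // orderOf g = 2} =
        Nat.card {u : {g : G // orderOf g = 2} // (u : G) ∈ N} +
          Nat.card {u : {g : G // orderOf g = 2} // (u : G) ∉ N} := by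
      rw [← Nat.card_sum]
      exact Nat.card_congr (Equiv.sumCompl (fun u : {g : G // orderOf g = 2} => (u : G) ∈ N)).symm
    rw [h1]
    congr 1
    symm
    let f : M → {u : {g : G // orderOf g = 2} // (u : G) ∈ N} := fun m =>
      ⟨⟨m * z, h.tic.orderOf_mul_z m.2⟩, mul_mem (le_N m.2) h.tic.zN⟩
    refine Nat.card_congr (Equiv.ofBijective f ⟨?_, ?_⟩)
    · intro m m' he
      have he' : (m : G) * z = m' * z := congrArg (fun u => ((u.1 : {g : G // orderOf g = 2}) : G)) he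
      exact Subtype.ext (mul_right_cancel he')
    · rintro ⟨⟨y, hy⟩, hyN⟩
      obtain ⟨m, hm, rfl⟩ := h.tic.invol_eq hyN hy
      exact ⟨⟨m, hm⟩, rfl⟩
  have e3 : Nat.card {g : G // g ∉ N} =
      Nat.card M * Nat.card {u : {g : G // orderOf g = 2} // (u : G) ∉ N} := by
    rw [← Nat.card_prod]
    symm
    let f : M × {u : {g : G // orderOf g = 2} // (u : G) ∉ N} → {g : G // g ∉ N} := fun p =>
      ⟨p.1 * p.2.1.1, fun hmem => p.2.2 (by
        have h1 : ((p.2.1 : {g : G // orderOf g = 2}) : G) = (p.1 : G)⁻¹ * (p.1 * p.2.1.1) := by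
          group
        rw [h1]
        exact mul_mem (inv_mem (le_N p.1.2)) hmem)⟩
    refine Nat.card_congr (Equiv.ofBijective f ⟨?_, ?_⟩)
    · rintro ⟨⟨m, hm⟩, ⟨⟨u, hu⟩, huN⟩⟩ ⟨⟨m', hm'⟩, ⟨⟨u', hu'⟩, huN'⟩⟩ he
      have he' : m * u = m' * u' := congrArg Subtype.val he
      have h1 : u * u'⁻¹ = m⁻¹ * m' := by
        rw [mul_inv_eq_iff_eq_mul, mul_assoc, ← he', inv_mul_cancel_left]
      have h2 : u = u' := h.tic.invol_unique hu hu' huN (by rw [h1]; exact mul_mem (inv_mem hm) hm')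
      subst h2
      have h3 : m = m' := mul_right_cancel he'
      subst h3
      rfl
    · rintro ⟨g, hg⟩
      obtain ⟨m, hm, ho⟩ := h.star g hg
      refine ⟨⟨⟨m⁻¹, inv_mem hm⟩, ⟨⟨m * g, ho⟩, fun hmem => hg ?_⟩⟩, ?_⟩
      · have h1 : g = m⁻¹ * (m * g) := by group
        rw [h1]
        exact mul_mem (inv_mem (le_N hm)) hmem
      · apply Subtype.ext
        show m⁻¹ * (m * g) = g
        group
  rw [e1, e2, e3]
  ring

end Cfsg.Agent.Lib.Helper15.Bend
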