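import Cfsg.Agent.Lib.Helper15.Glauberman5
import Cfsg.Agent.Lib.Helper81.Det
import Cfsg.Agent.S0867
import Cfsg.Agent.S0887
import Cfsg.Agent.Lib.Helper80.Constituent

/-!
# Counting characters of degree prime to the index of a normal Hall subgroup
-/

set_option autoImplicit false
set_option linter.unusedSectionVars false

namespace Cfsg.Agent.Lib.Helper15

open Cfsg Cfsg.Agent.Lib
open scoped ComplexConjugate

section count

variable {G : Type*} [Group G]

theorem orderOf_hom_dvd_card [Finite G] (f : G →* ℂˣ) : orderOf f ∣ Nat.card G := by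
  apply orderOf_dvd_of_pow_eq_one
  ext g
  rw [MonoidHom.pow_apply, ← map_pow, pow_card_eq_one', map_one, MonoidHom.one_apply]

theorem detOrder_dvd_card [Finite G] {χ : G → ℂ} (h : IsCharacter G χ) :
    detOrder χ ∣ Nat.card G := by
  obtain ⟨f, hf⟩ := Helper81.exists_detHom h
  unfold detOrder
  rw [hf, orderOf_toFn]
  exact orderOf_hom_dvd_card f

/-- an invariant irreducible character of a normal Hall subgroup extends -/
theorem exists_extension_of_coprime [Finite G] (K : Subgroup G) [hK : K.Normal]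
    (hcop : (Nat.card K).Coprime K.index) {ϑ : K → ℂ} (hϑ : IsIrrCharacter K ϑ)
    (hinv : ∀ (g : G) (n : K), ϑ ⟨g * n * g⁻¹, hK.conj_mem (n : G) n.2 g⟩ = ϑ n) :
    ∃ χ : G → ℂ, IsIrrCharacter G χ ∧ ∀ n : K, χ n = ϑ n := by
  have h1 : detOrder ϑ ∣ Nat.card K := detOrder_dvd_card (irr_char hϑ)
  have h2 : charDegree ϑ ∣ Nat.card K := Helper78.irr_charDegree_dvd_card ⟨ϑ, hϑ⟩
  have h3 : Nat.Coprime K.index (detOrder ϑ * charDegree ϑ) :=
    Nat.Coprime.mul_right (Nat.Coprime.coprime_dvd_right h1 hcop.symm)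
      (Nat.Coprime.coprime_dvd_right h2 hcop.symm)
  obtain ⟨χ, ⟨hχ, hχK, -⟩, -⟩ := Cfsg.Agent.S0867.result K ϑ hϑ hinv (charDegree ϑ)
    (Helper80.char_one_eq_charDegree (irr_char hϑ)) h3
  exact ⟨χ, hχ, hχK⟩

/-- the extensions of an invariant irreducible character of a normal Hall subgroup -/
theorem card_extensions [Finite G] (K : Subgroup G) [hK : K.Normal]
    (hcop : (Nat.card K).Coprime K.index) {ϑ : K → ℂ} (hϑ : IsIrrCharacter K ϑ)
    (hinv : ∀ (g : G) (n : K), ϑ ⟨g * n * g⁻¹, hK.conj_mem (n : G) n.2 g⟩ = ϑ n) :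
    Nat.card {χ : IrrCharacter G // ∀ n : K, (χ : G → ℂ) n = ϑ n}
      = Nat.card {f : G →* ℂˣ // K ≤ f.ker} := by
  classical
  have := Fintype.ofFinite G
  obtain ⟨χ₀, hχ₀, hχ₀K⟩ := exists_extension_of_coprime K hcop hϑ hinv
  have hres : (fun n : K => χ₀ n) = ϑ := funext hχ₀K
  have hgal := gallagher K hχ₀ (by rw [hres]; exact hϑ)
  rw [hres] at hgal
  have hsrc : ∀ f : {f : G →* ℂˣ // K ≤ f.ker},
      toFn f.1 ∈ {β : G → ℂ | IsIrrCharacter G β ∧ classInner (fun n : K => β n) (fun _ => 1) ≠ 0} := by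
    intro f
    refine ⟨Helper74.isIrrCharacter_of_hom f.1, ?_⟩
    have h1 : (fun n : K => toFn f.1 n) = fun _ => 1 := by
      funext n
      rw [toFn_apply, MonoidHom.mem_ker.1 (f.2 n.2)]
      rfl
    rw [h1, irr_inner_self irr_one]
    exact one_ne_zero
  symm
  apply Nat.card_congr
  refine Equiv.ofBijective (fun f => ⟨⟨toFn f.1 * χ₀, (hgal.mapsTo (hsrc f)).1⟩, ?_⟩) ⟨?_, ?_⟩
  · intro n
    change toFn f.1 n * χ₀ n = ϑ n
    rw [toFn_apply, MonoidHom.mem_ker.1 (f.2 n.2), hχ₀K]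
    simp
  · intro f f' hff'
    have h1 : toFn f.1 * χ₀ = toFn f'.1 * χ₀ := congrArg (fun x => (x.1 : G → ℂ)) hff'
    exact Subtype.ext (toFn_injective (hgal.injOn (hsrc f) (hsrc f') h1))
  · rintro ⟨χ, hχ⟩
    have hχres : (fun n : K => (χ : G → ℂ) n) = ϑ := funext hχ
    have hmem : (χ : G → ℂ) ∈ {ψ : G → ℂ | IsIrrCharacter G ψ ∧
        classInner (fun n : K => ψ n) ϑ ≠ 0} := by
      refine ⟨χ.2, ?_⟩
      rw [hχres, irr_inner_self hϑ]
      exact one_ne_zero
    obtain ⟨β, ⟨hβ, hβ1⟩, hβχ⟩ := hgal.surjOn hmem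
    have hβχ' : β * χ₀ = χ := hβχ
    have hdeg : β 1 = 1 := by
      have h1 := congrFun hβχ' 1
      rw [Pi.mul_apply] at h1
      have h2 : χ₀ 1 = ϑ 1 := hχ₀K 1
      have h3 : (χ : G → ℂ) 1 = ϑ 1 := hχ 1
      rw [h2, h3] at h1
      exact mul_right_cancel₀ (irr_one_ne_zero hϑ) (h1.trans (one_mul _).symm)
    obtain ⟨f, rfl⟩ := exists_toFn (irr_char hβ) hdeg
    have hker : K ≤ f.ker := by
      intro k hk
      have := (restrict_eq_of_inner_one_ne_zero K hβ hβ1).2 ⟨k, hk⟩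
      rw [hdeg] at this
      rw [MonoidHom.mem_ker]
      exact Units.ext this
    refine ⟨⟨f, hker⟩, ?_⟩
    apply Subtype.ext
    apply Subtype.ext
    exact hβχ'

/-- an irreducible character of degree prime to the index of `K` restricts irreducibly -/
theorem restrict_irr_of_coprime [Finite G] (K : Subgroup G) [hK : K.Normal]
    {χ : G → ℂ} (hχ : IsIrrCharacter G χ) (hcop : (charDegree χ).Coprime K.index) :
    IsIrrCharacter K (fun n : K => χ n) := by
  classical
  have := Fintype.ofFinite G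
  have hchar : IsCharacter K (fun n : K => χ n) := char_restrict (irr_char hχ) K
  have hne : (fun n : K => χ n) ≠ 0 := by
    intro h
    exact irr_one_ne_zero hχ (congrFun h 1)
  obtain ⟨ϑ, hϑ, h0⟩ := exists_constituent hchar hne
  obtain ⟨h1, h2⟩ := Cfsg.Agent.S0887.result K χ hχ ϑ hϑ h0 (charDegree χ) (charDegree ϑ)
    (Helper80.char_one_eq_charDegree (irr_char hχ)) (Helper80.char_one_eq_charDegree (irr_char hϑ))
  have h3 : charDegree χ / charDegree ϑ ∣ charDegree χ := Nat.div_dvd_of_dvd h1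
  have h4 : charDegree χ / charDegree ϑ = 1 := Nat.eq_one_of_dvd_coprimes hcop h3 h2
  have h5 : charDegree χ = charDegree ϑ := by
    have := Nat.div_mul_cancel h1
    rw [h4, one_mul] at this
    exact this.symm
  have h6 : charDegree (fun n : K => χ n) = charDegree ϑ := h5
  rw [Helper80.eq_of_constituent_of_degree hchar ⟨ϑ, hϑ⟩ h0 h6]
  exact hϑ

/-- **Counting characters of degree prime to the index of a normal Hall subgroup.** -/
theorem card_coprime_degree [Finite G] (K : Subgroup G) [hK : K.Normal]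
    (hcop : (Nat.card K).Coprime K.index) :
    Nat.card {χ : IrrCharacter G // (charDegree (χ : G → ℂ)).Coprime K.index}
      = Nat.card {ϑ : IrrCharacter K // ∀ (g : G) (n : K),
          (ϑ : K → ℂ) ⟨g * n * g⁻¹, hK.conj_mem (n : G) n.2 g⟩ = (ϑ : K → ℂ) n}
        * Nat.card {f : G →* ℂˣ // K ≤ f.ker} := by
  classical
  have := Fintype.ofFinite G
  have := Fintype.ofFinite (IrrCharacter K)
  let r : {χ : IrrCharacter G // (charDegree (χ : G → ℂ)).Coprime K.index} →
      {ϑ : IrrCharacter K // ∀ (g : G) (n : K),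
          (ϑ : K → ℂ) ⟨g * n * g⁻¹, hK.conj_mem (n : G) n.2 g⟩ = (ϑ : K → ℂ) n} :=
    fun χ => ⟨⟨fun n : K => (χ.1 : G → ℂ) n, restrict_irr_of_coprime K χ.1.2 χ.2⟩,
      fun g n => irr_cf χ.1.2 n g⟩
  rw [Nat.card_congr (Equiv.sigmaFiberEquiv r).symm, Nat.card_sigma]
  have hfib : ∀ ϑ, Nat.card {χ // r χ = ϑ} = Nat.card {f : G →* ℂˣ // K ≤ f.ker} := by
    intro ϑ
    rw [← card_extensions K hcop ϑ.1.2 ϑ.2]
    apply Nat.card_congr
    refine ⟨fun χ => ⟨χ.1.1, fun n => ?_⟩, fun χ => ⟨⟨χ.1, ?_⟩, ?_⟩, ?_, ?_⟩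
    · have := congrArg (fun x => (x.1 : K → ℂ) n) χ.2
      exact this
    · have h1 : charDegree (χ.1 : G → ℂ) = charDegree (ϑ.1 : K → ℂ) := by
        unfold charDegree
        rw [← χ.2 1]
        rfl
      rw [h1]
      exact Nat.Coprime.coprime_dvd_left (Helper78.irr_charDegree_dvd_card ϑ.1) hcop
    · apply Subtype.ext
      apply Subtype.ext
      funext n
      exact χ.2 n
    · intro χ
      rfl
    · intro χ
      rfl
  rw [Finset.sum_congr rfl (fun ϑ _ => hfib ϑ), Finset.sum_const, smul_eq_mul, Finset.card_univ,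
    ← Nat.card_eq_fintype_card]

theorem card_hom_ker (K : Subgroup G) [K.Normal] :
    Nat.card {f : G →* ℂˣ // K ≤ f.ker} = Nat.card (G ⧸ K →* ℂˣ) := by
  apply Nat.card_congr
  refine ⟨fun f => QuotientGroup.lift K f.1 f.2,
    fun g => ⟨g.comp (QuotientGroup.mk' K), ?_⟩, ?_, ?_⟩
  · intro k hk
    rw [MonoidHom.mem_ker, MonoidHom.comp_apply, QuotientGroup.mk'_apply,
      (QuotientGroup.eq_one_iff k).2 hk, map_one]
  · intro f
    apply Subtype.ext
    ext g
    rfl
  · intro g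
    ext x
    rfl

/-- the second isomorphism theorem, in the form needed here -/
noncomputable def quotEquivOfSup (K N : Subgroup G) [K.Normal] (h : K ⊔ N = ⊤) :
    N ⧸ K.subgroupOf N ≃* G ⧸ K := by
  let φ : N →* G ⧸ K := (QuotientGroup.mk' K).comp N.subtype
  have hφ : Function.Surjective φ := by
    intro x
    obtain ⟨g, rfl⟩ := QuotientGroup.mk_surjective x
    have hg : g ∈ (↑(K ⊔ N) : Set G) := by rw [h]; trivial
    rw [Subgroup.normal_mul] at hg
    obtain ⟨k, hk, n, hn, rfl⟩ := Set.mem_mul.1 hg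
    refine ⟨⟨n, hn⟩, ?_⟩
    change (QuotientGroup.mk n : G ⧸ K) = QuotientGroup.mk (k * n)
    rw [QuotientGroup.mk_mul, (QuotientGroup.eq_one_iff k).2 hk, one_mul]
  have hker : K.subgroupOf N = φ.ker := by
    ext n
    rw [Subgroup.mem_subgroupOf, MonoidHom.mem_ker]
    exact (QuotientGroup.eq_one_iff (n : G)).symm
  exact (QuotientGroup.quotientMulEquivOfEq hker).trans
    (QuotientGroup.quotientKerEquivOfSurjective φ hφ)

end count

end Cfsg.Agent.Lib.Helper15
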