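import Cfsg.Agent.Lib.Helper15.CoprimeCount
import Cfsg.Agent.Lib.Helper76.GaloisChar
import Cfsg.Agent.S0868
import Cfsg.Agent.S0188
import Cfsg.Agent.Lib.Helper26.Virtual

/-!
# The Glauberman correspondence for cyclic operator groups via canonical extensions
-/

set_option autoImplicit false
set_option linter.unusedSectionVars false

namespace Cfsg.Agent.Lib.Helper15

open Cfsg Cfsg.Agent.Lib
open scoped ComplexConjugate

section galois

variable {G : Type*} [Group G]

/-- the determinantal character of a Galois conjugate -/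
theorem detChar_map_ringHom [Finite G] {χ : G → ℂ} (h : IsCharacter G χ) (τ : ℂ →+* ℂ) :
    detChar (fun g => τ (χ g)) = fun g => τ (detChar χ g) := by
  obtain ⟨n, ρ, rfl⟩ := h
  let ρ' : Representation ℂ G (Fin n → ℂ) :=
    { toFun := fun g => Matrix.toLin' ((LinearMap.toMatrix' (ρ g)).map τ)
      map_one' := by
        rw [map_one, LinearMap.toMatrix'_one, Matrix.map_one τ (map_zero τ) (map_one τ),
          Matrix.toLin'_one]
        rfl
      map_mul' := by
        intro x y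
        rw [map_mul, LinearMap.toMatrix'_mul, Matrix.map_mul, Matrix.toLin'_mul]
        rfl }
  have h1 : (fun g => τ (ρ.character g)) = ρ'.character := by
    ext g
    symm
    show LinearMap.trace ℂ _ (Matrix.toLin' ((LinearMap.toMatrix' (ρ g)).map τ)) = τ (ρ.character g)
    rw [Matrix.trace_toLin'_eq, ← AddMonoidHom.map_trace τ, Representation.character,
      ← Matrix.trace_toLin'_eq, Matrix.toLin'_toMatrix']
  funext g
  rw [h1, Helper81.detChar_eq_det, Helper81.detChar_eq_det]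
  show LinearMap.det (Matrix.toLin' ((LinearMap.toMatrix' (ρ g)).map τ)) = τ (LinearMap.det (ρ g))
  rw [LinearMap.det_toLin', ← LinearMap.det_toMatrix' (ρ g), RingHom.map_det]
  rfl

theorem detOrder_map_ringEquiv [Finite G] {χ : G → ℂ} (h : IsCharacter G χ) (τ : ℂ ≃+* ℂ) :
    detOrder (fun g => τ (χ g)) = detOrder χ := by
  unfold detOrder
  have h1 := detChar_map_ringHom h τ.toRingHom
  have h2 : detChar (fun g => τ (χ g)) = (MonoidHom.compLeft τ.toMonoidHom G) (detChar χ) := h1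
  rw [h2]
  apply orderOf_injective
  intro a b hab
  funext g
  exact τ.injective (congrFun hab g)

/-- a character value fixed by all Galois conjugations is a rational integer -/
theorem exists_int_of_pow_eq [Finite G] {F : G → ℂ} (hF : IsCharacter G F) (s : G)
    (h : ∀ k : ℕ, k.Coprime (Nat.card G) → F (s ^ k) = F s) : ∃ z : ℤ, F s = z := by
  obtain ⟨n, ρ, rfl⟩ := hF
  obtain ⟨μ, h1, h2⟩ := Helper76.exists_char_eigenvalues ρ s (Nat.card G) Nat.card_pos
    (pow_card_eq_one')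
  have h3 : ρ.character s = ∑ i, μ i := by
    have := h2 1
    simpa using this
  obtain ⟨q, hq⟩ := Helper76.exists_rat_of_sum_pow_eq (Nat.card G) Nat.card_pos μ h1 (by
    intro k hk
    rw [← h2 k, h k hk, h3])
  have hint : IsIntegral ℤ (∑ i, μ i) := by
    apply IsIntegral.sum
    intro i _
    exact IsIntegral.of_pow Nat.card_pos (by rw [h1]; exact isIntegral_one)
  rw [hq] at hint
  have hint' : IsIntegral ℤ q := by
    have : (q : ℂ) = algebraMap ℚ ℂ q := rfl
    rw [this] at hint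
    exact (isIntegral_algebraMap_iff (algebraMap ℚ ℂ).injective).1 hint
  obtain ⟨z, hz⟩ := IsIntegrallyClosed.isIntegral_iff.mp hint'
  refine ⟨z, ?_⟩
  rw [h3, hq, ← hz]
  simp

/-- the canonical extension is fixed by the Galois automorphisms fixing the `|N|`-th roots of
unity -/
theorem canonical_pow [Finite G] (N : Subgroup G) [hN : N.Normal]
    (hcop : (Nat.card N).Coprime N.index) {χh : G → ℂ} (hχh : IsIrrCharacter G χh)
    (hres : IsIrrCharacter N (fun n : N => χh n)) (hdet : (detOrder χh).Coprime N.index)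
    (k : ℕ) (hk : k.Coprime (Nat.card G)) (hk1 : k ≡ 1 [MOD Nat.card N]) (x : G) :
    χh (x ^ k) = χh x := by
  have hinv : ∀ (g : G) (n : N), (fun n : N => χh n) ⟨g * n * g⁻¹, hN.conj_mem (n : G) n.2 g⟩
      = (fun n : N => χh n) n := fun g n => irr_cf hχh n g
  have h1 : detOrder (fun n : N => χh n) ∣ Nat.card N := detOrder_dvd_card (irr_char hres)
  have h2 : charDegree (fun n : N => χh n) ∣ Nat.card N :=
    Helper78.irr_charDegree_dvd_card ⟨_, hres⟩
  have h3 : Nat.Coprime N.index (detOrder (fun n : N => χh n) * charDegree (fun n : N => χh n)) :=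
    Nat.Coprime.mul_right (Nat.Coprime.coprime_dvd_right h1 hcop.symm)
      (Nat.Coprime.coprime_dvd_right h2 hcop.symm)
  obtain ⟨χ₀, -, huniq⟩ := Cfsg.Agent.S0867.result N (fun n : N => χh n) hres hinv
    (charDegree (fun n : N => χh n))
    (Helper80.char_one_eq_charDegree (χ := fun n : N => χh n) (irr_char hres)) h3
  obtain ⟨τ, hτ⟩ := Helper76.exists_ringAut_complex (Nat.card G) Nat.card_pos k hk
  have h4 : (fun g => τ (χh g)) = fun g => χh (g ^ k) := by
    ext g
    exact Helper76.IsCharacter.map_ringHom_apply (irr_char hχh) τ.toRingHom k hτ g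
  have h5 : IsIrrCharacter G (fun g => χh (g ^ k)) := by
    rw [← h4]
    exact Helper76.IsIrrCharacter.map_ringHom hχh τ.toRingHom
  have h6 : detOrder (fun g => χh (g ^ k)) = detOrder χh := by
    rw [← h4]
    exact detOrder_map_ringEquiv (irr_char hχh) τ
  have h7 := huniq χh hχh (fun n => rfl) hdet.symm
  have h8 := huniq (fun g => χh (g ^ k)) h5 (fun n => by
    have : (n : G) ^ k = n := by
      have h9 : (n : G) ^ k = (n : G) ^ 1 := by
        rw [pow_eq_pow_iff_modEq]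
        apply hk1.of_dvd
        rw [Subgroup.orderOf_coe]
        exact orderOf_dvd_natCard n
      rw [h9, pow_one]
    change χh ((n : G) ^ k) = χh n
    rw [this]) (by rw [h6]; exact hdet.symm)
  have := congrFun (h8.trans h7.symm) x
  exact this

end galois

section coset

variable {Γ : Type*} [Group Γ] [Fintype Γ] (G S : Subgroup Γ)

/-- the `S`-part of `c s` -/
theorem exists_pow_part (hcop : (Nat.card G).Coprime (Nat.card S)) (s : Γ)
    (hs : Subgroup.zpowers s = S) :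
    ∃ k : ℕ, ∀ c ∈ G ⊓ Subgroup.centralizer (S : Set Γ), (c * s) ^ k = s := by
  obtain ⟨k, hk0, hk1⟩ := Nat.chineseRemainder hcop 0 1
  refine ⟨k, fun c hc => ?_⟩
  have hsS : s ∈ S := hs ▸ Subgroup.mem_zpowers s
  have hcomm : Commute c s := (Subgroup.mem_centralizer_iff.1 hc.2 s hsS).symm
  rw [hcomm.mul_pow]
  have h1 : c ^ k = 1 := by
    rw [← orderOf_dvd_iff_pow_eq_one]
    have h2 : orderOf c ∣ Nat.card G := by
      have := orderOf_dvd_natCard (⟨c, hc.1⟩ : G)
      rwa [← Subgroup.orderOf_coe] at this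
    exact h2.trans ((Nat.modEq_zero_iff_dvd).1 hk0)
  have h2 : s ^ k = s := by
    have h3 : s ^ k = s ^ 1 := by
      rw [pow_eq_pow_iff_modEq, ← Nat.card_zpowers, hs]
      exact hk1
    rw [h3, pow_one]
  rw [h1, h2, one_mul]

theorem sum_coset_generator [Fintype G] [Fintype ↥(G ⊓ Subgroup.centralizer (S : Set Γ))]
    (hnorm : ∀ s ∈ S, ∀ g ∈ G, s * g * s⁻¹ ∈ G)
    (hcop : (Nat.card G).Coprime (Nat.card S)) (s : Γ) (hs : Subgroup.zpowers s = S)
    (f : Γ → ℂ) (hf : IsClassFunction Γ f) :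
    (Nat.card ↥(G ⊓ Subgroup.centralizer (S : Set Γ)) : ℂ) * ∑ g : G, f ((g : Γ) * s)
      = (Nat.card G : ℂ) * ∑ c : ↥(G ⊓ Subgroup.centralizer (S : Set Γ)), f ((c : Γ) * s) := by
  classical
  have hsS : s ∈ S := hs ▸ Subgroup.mem_zpowers s
  obtain ⟨k, hk⟩ := exists_pow_part G S hcop s hs
  let Φ : G × ↥(G ⊓ Subgroup.centralizer (S : Set Γ)) → G := fun x =>
    ⟨x.1 * x.2 * (s * (x.1 : Γ)⁻¹ * s⁻¹),
      G.mul_mem (G.mul_mem x.1.2 x.2.2.1) (hnorm s hsS _ (G.inv_mem x.1.2))⟩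
  have hΦ : ∀ x, ((Φ x : G) : Γ) * s = x.1 * (x.2 * s) * (x.1 : Γ)⁻¹ := by
    intro x
    change (x.1 : Γ) * x.2 * (s * (x.1 : Γ)⁻¹ * s⁻¹) * s = _
    group
  -- the fibres
  have hfib : ∀ x₀ : G × ↥(G ⊓ Subgroup.centralizer (S : Set Γ)),
      (Finset.univ.filter (fun x => Φ x = Φ x₀)).card
        = Nat.card ↥(G ⊓ Subgroup.centralizer (S : Set Γ)) := by
    intro x₀
    rw [Nat.card_eq_fintype_card, ← Finset.card_univ]
    symm
    apply Finset.card_bij (fun (h : ↥(G ⊓ Subgroup.centralizer (S : Set Γ))) _ =>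
      ((x₀.1 * ⟨(h : Γ)⁻¹, G.inv_mem h.2.1⟩, h * x₀.2 * h⁻¹) :
        G × ↥(G ⊓ Subgroup.centralizer (S : Set Γ))))
    · intro h _
      rw [Finset.mem_filter]
      refine ⟨Finset.mem_univ _, ?_⟩
      apply Subtype.ext
      apply mul_right_cancel (b := s)
      rw [hΦ, hΦ]
      have hc := Subgroup.mem_centralizer_iff.1 h.2.2 s hsS
      change (x₀.1 : Γ) * (h : Γ)⁻¹ * ((h : Γ) * x₀.2 * (h : Γ)⁻¹ * s) * ((x₀.1 : Γ) * (h : Γ)⁻¹)⁻¹
        = x₀.1 * (x₀.2 * s) * (x₀.1 : Γ)⁻¹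
      have h1 : (h : Γ)⁻¹ * s = s * (h : Γ)⁻¹ := by
        rw [eq_mul_inv_iff_mul_eq, mul_assoc, hc, inv_mul_cancel_left]
      calc (x₀.1 : Γ) * (h : Γ)⁻¹ * ((h : Γ) * x₀.2 * (h : Γ)⁻¹ * s) * ((x₀.1 : Γ) * (h : Γ)⁻¹)⁻¹
          = (x₀.1 : Γ) * x₀.2 * ((h : Γ)⁻¹ * s) * h * (x₀.1 : Γ)⁻¹ := by group
        _ = x₀.1 * (x₀.2 * s) * (x₀.1 : Γ)⁻¹ := by rw [h1]; group
    · intro h _ h' _ hh'
      have h1 := congrArg (fun x => ((x.1 : G) : Γ)) hh'
      change (x₀.1 : Γ) * (h : Γ)⁻¹ = (x₀.1 : Γ) * (h' : Γ)⁻¹ at h1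
      apply Subtype.ext
      exact inv_injective (mul_left_cancel h1)
    · intro x hx
      rw [Finset.mem_filter] at hx
      have h1 : (x.1 : Γ) * (x.2 * s) * (x.1 : Γ)⁻¹ = x₀.1 * (x₀.2 * s) * (x₀.1 : Γ)⁻¹ := by
        rw [← hΦ, ← hΦ, hx.2]
      -- `h = x.1⁻¹ x₀.1`
      have h2 : ((x.1 : Γ)⁻¹ * x₀.1) * (x₀.2 * s) * ((x.1 : Γ)⁻¹ * x₀.1)⁻¹ = x.2 * s := by
        have : (x.2 : Γ) * s = (x.1 : Γ)⁻¹ * ((x.1 : Γ) * (x.2 * s) * (x.1 : Γ)⁻¹) * x.1 := by group
        rw [this, h1]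
        group
      have h3 : ((x.1 : Γ)⁻¹ * x₀.1) * s * ((x.1 : Γ)⁻¹ * x₀.1)⁻¹ = s := by
        have := congrArg (fun y => y ^ k) h2
        simp only [conj_pow] at this
        rwa [hk _ x₀.2.2, hk _ x.2.2] at this
      have h4 : (x.1 : Γ)⁻¹ * x₀.1 ∈ G ⊓ Subgroup.centralizer (S : Set Γ) := by
        refine ⟨G.mul_mem (G.inv_mem x.1.2) x₀.1.2, ?_⟩
        apply Subgroup.mem_centralizer_iff.2
        intro t ht
        have ht' : t ∈ Subgroup.zpowers s := hs.symm ▸ ht
        obtain ⟨n, rfl⟩ := Subgroup.mem_zpowers_iff.1 ht'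
        have h5 : Commute ((x.1 : Γ)⁻¹ * x₀.1) s := by
          rw [mul_inv_eq_iff_eq_mul] at h3
          exact h3
        exact (h5.zpow_right n).symm
      refine ⟨⟨_, h4⟩, Finset.mem_univ _, ?_⟩
      apply Prod.ext
      · apply Subtype.ext
        change (x₀.1 : Γ) * ((x.1 : Γ)⁻¹ * x₀.1)⁻¹ = x.1
        group
      · apply Subtype.ext
        change ((x.1 : Γ)⁻¹ * x₀.1) * x₀.2 * ((x.1 : Γ)⁻¹ * x₀.1)⁻¹ = x.2
        apply mul_right_cancel (b := s)
        rw [← h2]
        have h5 : ((x.1 : Γ)⁻¹ * x₀.1)⁻¹ * s = s * ((x.1 : Γ)⁻¹ * x₀.1)⁻¹ := by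
          conv_lhs => rw [← h3]
          group
        rw [mul_assoc _ _ s, h5]
        group
  have hle : ∀ y : G, (Finset.univ.filter (fun x => Φ x = y)).card
      ≤ Nat.card ↥(G ⊓ Subgroup.centralizer (S : Set Γ)) := by
    intro y
    by_cases hne : (Finset.univ.filter (fun x => Φ x = y)).Nonempty
    · obtain ⟨x₀, hx₀⟩ := hne
      rw [Finset.mem_filter] at hx₀
      rw [← hx₀.2, hfib]
    · rw [Finset.not_nonempty_iff_eq_empty.1 hne]
      simp
  have htot : ∑ y : G, (Finset.univ.filter (fun x => Φ x = y)).card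
      = ∑ _y : G, Nat.card ↥(G ⊓ Subgroup.centralizer (S : Set Γ)) := by
    rw [← Finset.card_eq_sum_card_fiberwise (fun x _ => Finset.mem_coe.2 (Finset.mem_univ (Φ x))),
      Finset.card_univ, Fintype.card_prod, Finset.sum_const, Finset.card_univ, smul_eq_mul,
      Nat.card_eq_fintype_card]
  have hall := (Finset.sum_eq_sum_iff_of_le (fun y _ => hle y)).1 htot
  have hsum : ∑ x : G × ↥(G ⊓ Subgroup.centralizer (S : Set Γ)), f ((Φ x : Γ) * s)
      = ∑ y : G, (Nat.card ↥(G ⊓ Subgroup.centralizer (S : Set Γ)) : ℂ) * f ((y : Γ) * s) := by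
    rw [← Finset.sum_fiberwise Finset.univ Φ]
    apply Finset.sum_congr rfl
    intro y _
    rw [Finset.sum_congr rfl (g := fun _ => f ((y : Γ) * s))
      (fun x hx => by rw [(Finset.mem_filter.1 hx).2]), Finset.sum_const,
      hall y (Finset.mem_univ _), nsmul_eq_mul]
  have hsum' : ∑ x : G × ↥(G ⊓ Subgroup.centralizer (S : Set Γ)), f ((Φ x : Γ) * s)
      = ∑ x : G × ↥(G ⊓ Subgroup.centralizer (S : Set Γ)), f ((x.2 : Γ) * s) := by
    apply Finset.sum_congr rfl
    intro x _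
    rw [hΦ, hf]
  rw [Finset.mul_sum, ← hsum, hsum', Fintype.sum_prod_type]
  simp only [Finset.sum_const, Finset.card_univ, nsmul_eq_mul, Nat.card_eq_fintype_card]

end coset

section partInnerSec

variable {Γ : Type*} [Group Γ] (A B : Subgroup Γ) [Fintype A] [Fintype B]

/-- partial inner product of a function on `Γ` with a function on `A`, as a function on `B` -/
noncomputable def partInner (χ : Γ → ℂ) (φ : A → ℂ) : B → ℂ :=
  fun t => (Nat.card A : ℂ)⁻¹ * ∑ c : A, χ ((c : Γ) * t) * conj (φ c)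

theorem char_partInner (hcomm : ∀ a ∈ A, ∀ b ∈ B, a * b = b * a)
    {χ : Γ → ℂ} (hχ : IsCharacter Γ χ) {φ : A → ℂ} (hφ : IsIrrCharacter A φ) :
    IsCharacter B (partInner A B χ φ) := by
  rw [isChar_iff]
  constructor
  · intro t b
    unfold partInner
    congr 1
    apply Finset.sum_congr rfl
    intro c _
    congr 1
    rw [← char_cf hχ ((c : Γ) * t) b]
    apply congrArg
    change (c : Γ) * ((b : Γ) * t * (b : Γ)⁻¹) = b * (c * t) * (b : Γ)⁻¹
    rw [← mul_assoc (b : Γ), ← hcomm c c.2 b b.2]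
    group
  · intro lam hlam
    let f : A × B →* Γ := MonoidHom.noncommCoprod A.subtype B.subtype
      (fun a b => hcomm a a.2 b b.2)
    have h1 : IsCharacter (A × B) (fun x => χ (f x)) := Helper74.IsCharacter.comp hχ f
    have h2 : IsIrrCharacter (A × B) (fun x => φ x.1 * lam x.2) :=
      (Cfsg.Agent.S0188.result _).2 ⟨φ, lam, hφ, hlam, rfl⟩
    obtain ⟨n, hn⟩ := inner_nat h1 (irr_char h2)
    refine ⟨n, ?_⟩
    rw [← hn]
    unfold classInner partInner
    rw [Fintype.sum_prod_type, Finset.sum_comm, Nat.card_prod]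
    push_cast
    rw [mul_inv, mul_comm (Nat.card A : ℂ)⁻¹, mul_assoc]
    congr 1
    rw [Finset.mul_sum]
    apply Finset.sum_congr rfl
    intro t _
    rw [mul_assoc, Finset.sum_mul]
    congr 1
    apply Finset.sum_congr rfl
    intro c _
    change χ ((c : Γ) * t) * conj (φ c) * conj (lam t) = χ ((c : Γ) * t) * conj (φ c * lam t)
    rw [map_mul]
    ring

end partInnerSec

section main

variable {Γ : Type*} [Group Γ] [Fintype Γ] {G S C : Subgroup Γ}

theorem exists_pow_of_zpowers_eq {s s' : Γ} (h : Subgroup.zpowers s = Subgroup.zpowers s') :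
    ∃ k : ℕ, k.Coprime (orderOf s) ∧ s' = s ^ k := by
  have h1 : s' ∈ Subgroup.zpowers s := h ▸ Subgroup.mem_zpowers s'
  rw [← mem_powers_iff_mem_zpowers] at h1
  obtain ⟨k, rfl⟩ := h1
  refine ⟨k, ?_, rfl⟩
  have h2 : orderOf (s ^ k) = orderOf s := by
    rw [← Nat.card_zpowers, ← Nat.card_zpowers, h]
  rw [orderOf_pow] at h2
  rcases Nat.div_eq_self.1 h2 with h3 | h3
  · exact absurd h3 (orderOf_pos s).ne'
  · exact (Nat.coprime_comm.1 h3)

/-- the standing hypotheses -/
structure CycSetup (G S C : Subgroup Γ) : Prop where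
  hnorm : ∀ s ∈ S, ∀ g ∈ G, s * g * s⁻¹ ∈ G
  hcop : (Nat.card G).Coprime (Nat.card S)
  htop : G ⊔ S = ⊤
  hC : C = G ⊓ Subgroup.centralizer (S : Set Γ)

/-- canonical extensions -/
structure IsCanon (G S : Subgroup Γ) (χh : Γ → ℂ) : Prop where
  irr : IsIrrCharacter Γ χh
  res : IsIrrCharacter G (fun g : G => χh g)
  det : (detOrder χh).Coprime (Nat.card S)

namespace CycSetup

open scoped Pointwise

theorem normal (h : CycSetup G S C) : G.Normal := by
  rw [← Subgroup.normalizer_eq_top_iff, ← top_le_iff, ← h.htop]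
  refine sup_le Subgroup.le_normalizer (fun s hs => ?_)
  rw [Subgroup.mem_normalizer_iff]
  intro g
  refine ⟨h.hnorm s hs g, fun hg => ?_⟩
  have := h.hnorm s⁻¹ (S.inv_mem hs) _ hg
  simpa [mul_assoc] using this

theorem index_eq (h : CycSetup G S C) : G.index = Nat.card S := by
  have := h.normal
  have hdisj : Disjoint G S := Subgroup.disjoint_of_coprime_natCard h.hcop
  have hmul : (G : Set Γ) * (S : Set Γ) = Set.univ := by
    rw [← Subgroup.normal_mul, h.htop]; rfl
  exact (Subgroup.isComplement'_of_disjoint_and_mul_eq_univ hdisj hmul).symm.index_eq_card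

theorem card_top (h : CycSetup G S C) : Nat.card Γ = Nat.card G * Nat.card S := by
  rw [← h.index_eq, Subgroup.card_mul_index]

theorem mem_G (h : CycSetup G S C) {c : Γ} (hc : c ∈ C) : c ∈ G := by
  rw [h.hC] at hc; exact hc.1

theorem comm (h : CycSetup G S C) {c s : Γ} (hc : c ∈ C) (hs : s ∈ S) : c * s = s * c := by
  rw [h.hC] at hc
  exact (Subgroup.mem_centralizer_iff.1 hc.2 s hs).symm

theorem decomp (h : CycSetup G S C) (x : Γ) : ∃ g ∈ G, ∃ s ∈ S, x = g * s := by
  have := h.normal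
  have hx : x ∈ (G : Set Γ) * (S : Set Γ) := by
    rw [← Subgroup.normal_mul, h.htop]; trivial
  obtain ⟨g, hg, s, hs, rfl⟩ := Set.mem_mul.1 hx
  exact ⟨g, hg, s, hs, rfl⟩

theorem canon_pow (h : CycSetup G S C) {χh : Γ → ℂ} (hc : IsCanon G S χh) {c s : Γ} (hcC : c ∈ C)
    (hs : s ∈ S) (k : ℕ) (hk : k.Coprime (Nat.card S)) : χh (c * s ^ k) = χh (c * s) := by
  have := h.normal
  obtain ⟨k', hk1, hk2⟩ := Nat.chineseRemainder h.hcop 1 k
  have hcop' : k'.Coprime (Nat.card Γ) := by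
    rw [h.card_top]
    apply Nat.Coprime.mul_right
    · have := hk1.gcd_eq
      rw [Nat.gcd_one_left] at this
      exact this
    · have := hk2.gcd_eq
      rw [Nat.Coprime, this]
      exact hk
  have h1 := canonical_pow G (h.index_eq ▸ h.hcop) hc.irr hc.res (h.index_eq ▸ hc.det) k' hcop' hk1
    (c * s)
  rw [← h1, (show Commute c s from h.comm hcC hs).mul_pow]
  have h2 : c ^ k' = c := by
    have h3 : c ^ k' = c ^ 1 := by
      rw [pow_eq_pow_iff_modEq]
      apply hk1.of_dvd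
      have := orderOf_dvd_natCard (⟨c, h.mem_G hcC⟩ : G)
      rwa [← Subgroup.orderOf_coe] at this
    rw [h3, pow_one]
  have h3 : s ^ k' = s ^ k := by
    rw [pow_eq_pow_iff_modEq]
    apply hk2.of_dvd
    have := orderOf_dvd_natCard (⟨s, hs⟩ : S)
    rwa [← Subgroup.orderOf_coe] at this
  rw [h2, h3]

theorem canon_gen (h : CycSetup G S C) {χh : Γ → ℂ} (hc : IsCanon G S χh) {c s s' : Γ}
    (hcC : c ∈ C) (hs : Subgroup.zpowers s = S) (hs' : Subgroup.zpowers s' = S) :
    χh (c * s') = χh (c * s) := by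
  obtain ⟨k, hk, rfl⟩ := exists_pow_of_zpowers_eq (hs.trans hs'.symm)
  rw [← Nat.card_zpowers, hs] at hk
  exact h.canon_pow hc hcC (hs ▸ Subgroup.mem_zpowers s) k hk

theorem inner_int (h : CycSetup G S C) [Fintype C] {χh : Γ → ℂ} (hc : IsCanon G S χh) {s : Γ}
    (hs : Subgroup.zpowers s = S) {φ : C → ℂ} (hφ : IsIrrCharacter C φ) :
    ∃ z : ℤ, classInner (fun c : C => χh ((c : Γ) * s)) φ = z := by
  have := Fintype.ofFinite S
  have hsS : s ∈ S := hs ▸ Subgroup.mem_zpowers s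
  have hF : IsCharacter S (partInner C S χh φ) :=
    char_partInner C S (fun a ha b hb => h.comm ha hb) (irr_char hc.irr) hφ
  obtain ⟨z, hz⟩ := exists_int_of_pow_eq hF ⟨s, hsS⟩ (by
    intro k hk
    unfold partInner
    congr 1
    apply Finset.sum_congr rfl
    intro c _
    congr 1
    exact h.canon_pow hc c.2 hsS k hk)
  exact ⟨z, hz⟩

theorem cf_gen (h : CycSetup G S C) {χh : Γ → ℂ} (hc : IsClassFunction Γ χh) {s : Γ}
    (hs : s ∈ S) : IsClassFunction C (fun c : C => χh ((c : Γ) * s)) := by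
  intro c b
  change χh ((b : Γ) * c * (b : Γ)⁻¹ * s) = χh (c * s)
  rw [← hc ((c : Γ) * s) b]
  apply congrArg
  have h1 : (b : Γ)⁻¹ * s = s * (b : Γ)⁻¹ := h.comm (C.inv_mem b.2) hs
  rw [mul_assoc _ _ s, h1]
  group

theorem canon_unique (h : CycSetup G S C) {χh χh' : Γ → ℂ} (hc : IsCanon G S χh)
    (hc' : IsCanon G S χh') (heq : ∀ g : G, χh g = χh' g) : χh = χh' := by
  have hN := h.normal
  have hinv : ∀ (g : Γ) (n : G), (fun n : G => χh n) ⟨g * n * g⁻¹, hN.conj_mem (n : Γ) n.2 g⟩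
      = (fun n : G => χh n) n := fun g n => irr_cf hc.irr n g
  have h1 : detOrder (fun n : G => χh n) ∣ Nat.card G := detOrder_dvd_card (irr_char hc.res)
  have h2 : charDegree (fun n : G => χh n) ∣ Nat.card G :=
    Helper78.irr_charDegree_dvd_card ⟨_, hc.res⟩
  have hcop : (Nat.card G).Coprime G.index := h.index_eq ▸ h.hcop
  have h3 : Nat.Coprime G.index (detOrder (fun n : G => χh n) * charDegree (fun n : G => χh n)) :=
    Nat.Coprime.mul_right (Nat.Coprime.coprime_dvd_right h1 hcop.symm)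
      (Nat.Coprime.coprime_dvd_right h2 hcop.symm)
  obtain ⟨χ₀, -, huniq⟩ := Cfsg.Agent.S0867.result G (fun n : G => χh n) hc.res hinv
    (charDegree (fun n : G => χh n))
    (Helper80.char_one_eq_charDegree (χ := fun n : G => χh n) (irr_char hc.res)) h3
  rw [huniq χh hc.irr (fun n => rfl) (h.index_eq ▸ hc.det.symm),
    huniq χh' hc'.irr (fun n => (heq n).symm) (h.index_eq ▸ hc'.det.symm)]

theorem exists_canon (h : CycSetup G S C) {χ : G → ℂ} (hχ : IsIrrCharacter G χ)
    (hinv : InvUnder G S χ) : ∃ χh : Γ → ℂ, IsCanon G S χh ∧ ∀ g : G, χh g = χ g := by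
  have hN := h.normal
  have hinv' : ∀ (g : Γ) (n : G), χ ⟨g * n * g⁻¹, hN.conj_mem (n : Γ) n.2 g⟩ = χ n := by
    intro g n
    obtain ⟨k, hk, s, hs, rfl⟩ := h.decomp g
    have h1 := hinv s hs n ⟨s * n * s⁻¹, hN.conj_mem (n : Γ) n.2 s⟩ rfl
    rw [← h1, ← irr_cf hχ ⟨s * n * s⁻¹, hN.conj_mem (n : Γ) n.2 s⟩ ⟨k, hk⟩]
    refine congrArg _ (Subtype.ext ?_)
    change k * s * n * (k * s)⁻¹ = k * (s * n * s⁻¹) * k⁻¹
    group
  have h1 : detOrder χ ∣ Nat.card G := detOrder_dvd_card (irr_char hχ)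
  have h2 : charDegree χ ∣ Nat.card G := Helper78.irr_charDegree_dvd_card ⟨_, hχ⟩
  have hcop : (Nat.card G).Coprime G.index := h.index_eq ▸ h.hcop
  have h3 : Nat.Coprime G.index (detOrder χ * charDegree χ) :=
    Nat.Coprime.mul_right (Nat.Coprime.coprime_dvd_right h1 hcop.symm)
      (Nat.Coprime.coprime_dvd_right h2 hcop.symm)
  obtain ⟨χ₀, ⟨h4, h5, h6⟩, -⟩ := Cfsg.Agent.S0867.result G χ hχ hinv' (charDegree χ)
    (Helper80.char_one_eq_charDegree (irr_char hχ)) h3
  refine ⟨χ₀, ⟨h4, ?_, ?_⟩, h5⟩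
  · rw [show (fun g : G => χ₀ g) = χ from funext h5]
    exact hχ
  · rw [h6]
    exact Nat.Coprime.coprime_dvd_left h1 h.hcop

theorem inner_gen (h : CycSetup G S C) [Fintype G] [Fintype C] {χh χh' : Γ → ℂ}
    (hc : IsCanon G S χh) (hc' : IsCanon G S χh') {s : Γ} (hs : Subgroup.zpowers s = S) :
    classInner (fun c : C => χh ((c : Γ) * s)) (fun c : C => χh' ((c : Γ) * s))
      = if χh = χh' then 1 else 0 := by
  have hN := h.normal
  obtain ⟨-, h2, h3⟩ := Cfsg.Agent.S0868.result G χh' hc'.irr hc'.res χh hc.irr _ rfl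
  have hη : (Nat.card G : ℂ)⁻¹ * ∑ n : G, χh ((n : Γ) * s) * conj (χh' ((n : Γ) * s))
      = if χh = χh' then 1 else 0 := by
    split_ifs with heq
    · exact congrFun (h3 heq) s
    · have h4 : classInner (fun n : G => χh n) (fun n : G => χh' n) = 0 := by
        apply irr_inner_ne hc.res hc'.res
        intro h5
        exact heq (h.canon_unique hc hc' (fun g => congrFun h5 g))
      exact congrFun (h2 h4) s
  have hcf : IsClassFunction Γ (fun x => χh x * conj (χh' x)) := by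
    intro x y
    change χh (y * x * y⁻¹) * conj (χh' (y * x * y⁻¹)) = χh x * conj (χh' x)
    rw [irr_cf hc.irr, irr_cf hc'.irr]
  have hC := h.hC
  subst hC
  have hsum := sum_coset_generator G S h.hnorm h.hcop s hs _ hcf
  rw [← hη]
  unfold classInner
  have hG0 : (Nat.card G : ℂ) ≠ 0 := by
    have : Nat.card G ≠ 0 := Nat.card_pos.ne'
    exact_mod_cast this
  have hC0 : (Nat.card ↥(G ⊓ Subgroup.centralizer (S : Set Γ)) : ℂ) ≠ 0 := by
    have : Nat.card ↥(G ⊓ Subgroup.centralizer (S : Set Γ)) ≠ 0 := Nat.card_pos.ne'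
    exact_mod_cast this
  field_simp
  rw [mul_comm, ← hsum, mul_comm]

/-- existence of the correspondent -/
theorem exists_beta (h : CycSetup G S C) [Fintype G] [Fintype C] {χh : Γ → ℂ}
    (hc : IsCanon G S χh) {s : Γ} (hs : Subgroup.zpowers s = S) :
    ∃ (β : C → ℂ) (ε : ℤ), IsIrrCharacter C β ∧ (ε = 1 ∨ ε = -1) ∧
      ∀ c : C, χh ((c : Γ) * s) = (ε : ℂ) * β c := by
  have hsS : s ∈ S := hs ▸ Subgroup.mem_zpowers s
  have := Fintype.ofFinite (IrrCharacter C)
  have hgen : IsGeneralizedCharacter C (fun c : C => χh ((c : Γ) * s)) := by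
    rw [Helper3.isGeneralizedCharacter_iff]
    exact ⟨h.cf_gen (irr_cf hc.irr) hsS, fun φ => h.inner_int hc hs φ.2⟩
  have hnorm := h.inner_gen hc hc hs
  rw [if_pos rfl] at hnorm
  rcases Helper26.gen_norm_one hgen hnorm with h1 | h1
  · exact ⟨_, 1, h1, Or.inl rfl, fun c => by simp⟩
  · refine ⟨_, -1, h1, Or.inr rfl, fun c => ?_⟩
    simp

/-- the correspondent is a constituent of the restriction -/
theorem beta_constituent (h : CycSetup G S C) [Fintype C] {χh : Γ → ℂ}
    (hc : IsCanon G S χh) {s : Γ} (hs : s ∈ S) {β : C → ℂ} (hβ : IsIrrCharacter C β) {ε : ℂ}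
    (hε : ε ≠ 0) (hval : ∀ c : C, χh ((c : Γ) * s) = ε * β c) :
    classInner (fun c : C => χh (c : Γ)) β ≠ 0 := by
  have := Fintype.ofFinite S
  have hF : IsCharacter S (partInner C S χh β) :=
    char_partInner C S (fun a ha b hb => h.comm ha hb) (irr_char hc.irr) hβ
  have h1 : partInner C S χh β ⟨s, hs⟩ = ε := by
    have h2 : partInner C S χh β ⟨s, hs⟩ = classInner (fun c : C => χh ((c : Γ) * s)) β := rfl
    rw [h2, show (fun c : C => χh ((c : Γ) * s)) = ε • β from funext hval, classInner_smul_left,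
      irr_inner_self hβ, mul_one]
  have h2 : partInner C S χh β 1 = classInner (fun c : C => χh (c : Γ)) β := by
    unfold partInner classInner
    simp
  rw [← h2]
  intro h3
  have h4 := Helper80.eq_zero_of_char_one_eq_zero hF h3
  rw [h4] at h1
  exact hε h1.symm

end CycSetup

end main

end Cfsg.Agent.Lib.Helper15
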