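import Cfsg.Agent.Lib.Helper15.CyclicGl2
import Cfsg.Agent.Lib.Helper15.CoprimeCount
import Cfsg.Agent.Lib.Helper80.Inflation
import Cfsg.Agent.S0886
import Cfsg.Agent.S0868

/-!
# Fully ramified sections under a cyclic Frobenius action
-/

set_option autoImplicit false
set_option linter.unusedSectionVars false

namespace Cfsg.Agent.Lib.Helper15

open Cfsg Cfsg.Agent.Lib
open scoped ComplexConjugate

theorem ram_arith {S : Type*} [Fintype S] (a : S → ℕ) (m e : ℕ) (hm : 0 < m)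
    (hcard : Fintype.card S = m) (h1 : ∑ s, a s = e) (h2 : m * ∑ s, (a s) ^ 2 + 1 = e ^ 2 + m) :
    (m : ℤ) ∣ (e : ℤ) - 1 ∨ (m : ℤ) ∣ (e : ℤ) + 1 := by
  obtain ⟨b, u, hb, hu0, hum⟩ : ∃ b u : ℤ, (e : ℤ) = m * b + u ∧ 0 ≤ u ∧ u < m := by
    refine ⟨(e / m : ℕ), (e % m : ℕ), ?_, by positivity, ?_⟩
    · exact_mod_cast (Nat.div_add_mod e m).symm
    · exact_mod_cast Nat.mod_lt e hm
  have hnonneg : 0 ≤ ∑ s, ((a s : ℤ) - b) * ((a s : ℤ) - b - 1) := by
    apply Finset.sum_nonneg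
    intro s _
    rcases le_or_gt ((a s : ℤ) - b) 0 with h | h
    · nlinarith
    · nlinarith
  have h1' : ∑ s, (a s : ℤ) = e := by exact_mod_cast h1
  have h2' : (m : ℤ) * ∑ s, (a s : ℤ) ^ 2 + 1 = (e : ℤ) ^ 2 + m := by exact_mod_cast h2
  have hexp : ∑ s, ((a s : ℤ) - b) * ((a s : ℤ) - b - 1)
      = ∑ s, (a s : ℤ) ^ 2 - (2 * b + 1) * e + m * (b * (b + 1)) := by
    have : ∀ s, ((a s : ℤ) - b) * ((a s : ℤ) - b - 1)
        = (a s : ℤ) ^ 2 - (2 * b + 1) * (a s : ℤ) + b * (b + 1) := by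
      intro s; ring
    simp only [this]
    rw [Finset.sum_add_distrib, Finset.sum_sub_distrib, ← Finset.mul_sum, h1', Finset.sum_const,
      Finset.card_univ, hcard, nsmul_eq_mul]
  rw [hexp] at hnonneg
  have hm' : (0 : ℤ) < m := by exact_mod_cast hm
  have h3 : 0 ≤ (m : ℤ) * (∑ s, (a s : ℤ) ^ 2 - (2 * b + 1) * e + m * (b * (b + 1))) :=
    mul_nonneg hm'.le hnonneg
  have h4 : (m : ℤ) * (∑ s, (a s : ℤ) ^ 2 - (2 * b + 1) * e + m * (b * (b + 1)))
      = u * (u - m) + m - 1 := by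
    have : (m : ℤ) * ∑ s, (a s : ℤ) ^ 2 = (e : ℤ) ^ 2 + m - 1 := by linarith
    rw [mul_add, mul_sub, this, hb]
    ring
  rw [h4] at h3
  rcases eq_or_lt_of_le hu0 with h0 | h0
  · -- `u = 0`
    have h5 : (m : ℤ) ∣ 1 := by
      have : (1 : ℤ) = m * (m * b ^ 2 + 1 - ∑ s, (a s : ℤ) ^ 2) := by
        rw [hb, ← h0] at h2'
        linarith
      exact ⟨_, this⟩
    left
    exact h5.trans (one_dvd _)
  · have h5 : (u - 1) * (m - 1 - u) = 0 := by
      apply le_antisymm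
      · nlinarith
      · apply mul_nonneg <;> linarith
    rcases mul_eq_zero.1 h5 with h6 | h6
    · left
      exact ⟨b, by rw [hb]; linarith⟩
    · right
      exact ⟨b + 1, by rw [hb]; linarith⟩

section abstract

variable {T : Type*} [Group T] [Fintype T] (N : Subgroup T) [N.Normal] [Fintype N]

/-- characters over an extendible character, abelian quotient -/
theorem exists_equiv_over (hab : ∀ a b : T ⧸ N, a * b = b * a)
    {θh : T → ℂ} (hθh : IsIrrCharacter T θh) (hθN : IsIrrCharacter N (fun n : N => θh n)) :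
    Nat.card {ψ : IrrCharacter T //
        classInner (fun n : N => (ψ : T → ℂ) n) (fun n : N => θh n) ≠ 0} = N.index ∧
      ∀ ψ : IrrCharacter T, classInner (fun n : N => (ψ : T → ℂ) n) (fun n : N => θh n) ≠ 0 →
        (ψ : T → ℂ) 1 = θh 1 := by
  classical
  have hgal := gallagher N hθh hθN
  have hsrc : ∀ lam : IrrCharacter (T ⧸ N), (fun t : T => (lam : T ⧸ N → ℂ) (t : T ⧸ N)) ∈
      {β : T → ℂ | IsIrrCharacter T β ∧ classInner (fun n : N => β n) (fun _ => 1) ≠ 0} := by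
    intro lam
    refine ⟨Helper80.isIrrCharacter_inflate N lam.2, ?_⟩
    have h1 : (fun n : N => (lam : T ⧸ N → ℂ) ((n : T) : T ⧸ N)) = fun _ => 1 := by
      funext n
      rw [(QuotientGroup.eq_one_iff (n : T)).2 n.2]
      exact Helper80.char_one_eq_one_of_comm hab lam
    rw [h1, irr_inner_self irr_one]
    exact one_ne_zero
  have hsurj : ∀ ψ : IrrCharacter T,
      classInner (fun n : N => (ψ : T → ℂ) n) (fun n : N => θh n) ≠ 0 →
      ∃ lam : IrrCharacter (T ⧸ N),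
        (fun t : T => (lam : T ⧸ N → ℂ) (t : T ⧸ N)) * θh = (ψ : T → ℂ) := by
    intro ψ hψ
    obtain ⟨β, ⟨hβ, hβ1⟩, hβχ⟩ := hgal.surjOn (show (ψ : T → ℂ) ∈ _ from ⟨ψ.2, hψ⟩)
    obtain ⟨lam, hlam, hlam'⟩ := Helper80.exists_deflate_irr N hβ
      (fun n hn => (restrict_eq_of_inner_one_ne_zero N hβ hβ1).2 ⟨n, hn⟩)
    refine ⟨⟨lam, hlam⟩, ?_⟩
    rw [← hβχ]
    change _ = β * θh
    congr 1
    funext t
    exact hlam' t
  constructor
  · rw [Subgroup.index_eq_card, ← Helper80.card_irr_of_comm hab]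
    symm
    apply Nat.card_congr
    refine Equiv.ofBijective (fun lam => ⟨⟨_, (hgal.mapsTo (hsrc lam)).1⟩,
      (hgal.mapsTo (hsrc lam)).2⟩) ⟨?_, ?_⟩
    · intro lam lam' h
      have h1 := congrArg (fun x => (x.1 : T → ℂ)) h
      have h2 := hgal.injOn (hsrc lam) (hsrc lam') h1
      apply Subtype.ext
      funext x
      obtain ⟨t, rfl⟩ := QuotientGroup.mk_surjective x
      exact congrFun h2 t
    · rintro ⟨ψ, hψ⟩
      obtain ⟨lam, hlam⟩ := hsurj ψ hψ
      refine ⟨lam, ?_⟩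
      apply Subtype.ext
      apply Subtype.ext
      exact hlam
  · intro ψ hψ
    obtain ⟨lam, hlam⟩ := hsurj ψ hψ
    rw [← hlam, Pi.mul_apply]
    have : (lam : T ⧸ N → ℂ) ((1 : T) : T ⧸ N) = 1 := Helper80.char_one_eq_one_of_comm hab lam
    rw [this, one_mul]

theorem sum_off_normal [DecidablePred (· ∈ N)] (f : T → ℂ) (c : ℂ) (h : ∀ t : T, t ∉ N → ∑ n : N, f (n * t) = c) :
    (Nat.card N : ℂ) * ∑ g ∈ Finset.univ.filter (fun g : T => g ∉ N), f g
      = ((Nat.card T : ℂ) - Nat.card N) * c := by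
  classical
  have h1 : ∀ n : N, ∑ g ∈ Finset.univ.filter (fun g : T => g ∉ N), f g
      = ∑ g ∈ Finset.univ.filter (fun g : T => g ∉ N), f (n * g) := by
    intro n
    symm
    apply Finset.sum_bij (fun g _ => (n : T) * g)
    · intro g hg
      rw [Finset.mem_filter] at hg ⊢
      exact ⟨Finset.mem_univ _, fun h => hg.2 ((N.mul_mem_cancel_left n.2).1 h)⟩
    · intro g _ g' _ h
      exact mul_left_cancel h
    · intro g hg
      rw [Finset.mem_filter] at hg
      refine ⟨(n : T)⁻¹ * g, ?_, by group⟩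
      rw [Finset.mem_filter]
      exact ⟨Finset.mem_univ _, fun h => hg.2 ((N.mul_mem_cancel_left (N.inv_mem n.2)).1 h)⟩
    · intro g _; rfl
  have h2 : (Nat.card N : ℂ) * ∑ g ∈ Finset.univ.filter (fun g : T => g ∉ N), f g
      = ∑ n : N, ∑ g ∈ Finset.univ.filter (fun g : T => g ∉ N), f (n * g) := by
    rw [← Finset.sum_congr rfl (fun n _ => h1 n), Finset.sum_const, Finset.card_univ,
      nsmul_eq_mul, Nat.card_eq_fintype_card]
  rw [h2, Finset.sum_comm, Finset.sum_congr rfl (fun g hg => h g (Finset.mem_filter.1 hg).2),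
    Finset.sum_const, nsmul_eq_mul]
  congr 1
  have h3 : (Finset.univ.filter (fun g : T => g ∉ N)).card + Nat.card N = Nat.card T := by
    have := Finset.card_filter_add_card_filter_not (s := (Finset.univ : Finset T))
      (fun g : T => g ∈ N)
    rw [Finset.card_univ, ← Nat.card_eq_fintype_card] at this
    rw [← this, add_comm]
    congr 1
    rw [Nat.card_eq_fintype_card, Fintype.card_subtype]
  rw [← h3]
  push_cast
  ring

theorem ram_abstract (hab : ∀ a b : T ⧸ N, a * b = b * a)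
    {θh : T → ℂ} (hθh : IsIrrCharacter T θh) (hθN : IsIrrCharacter N (fun n : N => θh n))
    {Ψ : T → ℂ} (hΨ : IsCharacter T Ψ) (e : ℕ) (hΨN : ∀ n : N, Ψ n = e * θh n)
    (hsum : ∀ t : T, t ∉ N → ∑ n : N, Ψ (n * t) * conj (Ψ (n * t)) = Nat.card N) :
    (N.index : ℤ) ∣ (e : ℤ) - 1 ∨ (N.index : ℤ) ∣ (e : ℤ) + 1 := by
  classical
  obtain ⟨a, ha1, ha2, -⟩ := Helper80.exists_mult_spec hΨ
  obtain ⟨hcard, hdeg⟩ := exists_equiv_over N hab hθh hθN
  have hres : (fun n : N => Ψ n) = (e : ℂ) • (fun n : N => θh n) := by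
    funext n
    rw [Pi.smul_apply, smul_eq_mul, hΨN]
  have hzero : ∀ ψ : IrrCharacter T,
      classInner (fun n : N => (ψ : T → ℂ) n) (fun n : N => θh n) = 0 → a ψ = 0 := by
    intro ψ hψ
    by_contra h0
    have hne : (fun n : N => (ψ : T → ℂ) n) ≠ 0 := by
      intro h
      exact irr_one_ne_zero ψ.2 (congrFun h 1)
    obtain ⟨φ, hφ, hφ1⟩ := exists_constituent (char_restrict (irr_char ψ.2) N) hne
    have h1 := inner_ne_zero_of_constituent (resLin N) (fun γ hγ => char_restrict hγ N) hΨ ψ.2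
      (by rw [ha1]; exact_mod_cast h0) (irr_char hφ) hφ1
    rw [resLin_apply, hres, classInner_smul_left] at h1
    have h2 : classInner (fun n : N => θh n) φ ≠ 0 := fun h => h1 (by rw [h, mul_zero])
    have h3 := irr_eq_of_inner_ne_zero hθN hφ h2
    rw [← h3] at hφ1
    exact hφ1 hψ
  have hN0 : (Nat.card N : ℂ) ≠ 0 := card_ne_zero N
  -- the sum of the multiplicities
  have hA : ∑ ψ : IrrCharacter T, a ψ = e := by
    have h1 : Ψ 1 = (∑ ψ : IrrCharacter T, (a ψ : ℂ)) * θh 1 := by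
      conv_lhs => rw [ha2]
      rw [Finset.sum_apply, Finset.sum_mul]
      apply Finset.sum_congr rfl
      intro ψ _
      rw [Pi.smul_apply, smul_eq_mul]
      by_cases h : classInner (fun n : N => (ψ : T → ℂ) n) (fun n : N => θh n) = 0
      · rw [hzero ψ h]; simp
      · rw [hdeg ψ h]
    have h2 : Ψ 1 = e * θh 1 := hΨN 1
    rw [h2] at h1
    have h3 := mul_right_cancel₀ (irr_one_ne_zero hθh) h1
    exact_mod_cast h3.symm
  have hB : classInner Ψ Ψ = ∑ ψ : IrrCharacter T, (a ψ : ℂ) ^ 2 := by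
    nth_rewrite 2 [ha2]
    rw [classInner_sum_right]
    apply Finset.sum_congr rfl
    intro ψ _
    rw [classInner_smul_right, ha1, Complex.conj_natCast, sq]
  have hC : (N.index : ℂ) * classInner Ψ Ψ = (e : ℂ) ^ 2 + N.index - 1 := by
    have h1 := card_mul_norm_split N Ψ
    have h2 := sum_off_normal N (fun t => Ψ t * conj (Ψ t)) _ hsum
    rw [hres, classInner_smul_left, classInner_smul_right, irr_inner_self hθN,
      Complex.conj_natCast] at h1
    have h3 : (Nat.card T : ℂ) = Nat.card N * N.index := by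
      rw [← N.card_mul_index]; push_cast; ring
    rw [h3] at h1 h2
    apply mul_left_cancel₀ hN0
    apply mul_left_cancel₀ hN0
    calc (Nat.card N : ℂ) * (Nat.card N * (N.index * classInner Ψ Ψ))
        = Nat.card N * (Nat.card N * N.index * classInner Ψ Ψ) := by ring
      _ = Nat.card N * (Nat.card N * (e * (e * 1))) + (Nat.card N : ℂ) *
          ∑ g ∈ Finset.univ.filter (fun g : T => g ∉ N), Ψ g * conj (Ψ g) := by rw [h1]; ring
      _ = _ := by rw [h2]; ring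
  rw [hB] at hC
  have hpos : 0 < N.index := Nat.pos_of_ne_zero Subgroup.index_ne_zero_of_finite
  have hC' : N.index * ∑ ψ : IrrCharacter T, (a ψ) ^ 2 + 1 = e ^ 2 + N.index := by
    have : (N.index : ℂ) * ∑ ψ : IrrCharacter T, (a ψ : ℂ) ^ 2 + 1 = (e : ℂ) ^ 2 + N.index := by
      rw [hC]; ring
    exact_mod_cast this
  -- pass to the subtype
  have hsub : ∀ f : ℕ → ℕ, f 0 = 0 → ∑ s : {ψ : IrrCharacter T //
      classInner (fun n : N => (ψ : T → ℂ) n) (fun n : N => θh n) ≠ 0}, f (a s.1)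
        = ∑ ψ : IrrCharacter T, f (a ψ) := by
    intro f hf
    rw [← Fintype.sum_subtype_add_sum_subtype (fun ψ : IrrCharacter T =>
      classInner (fun n : N => (ψ : T → ℂ) n) (fun n : N => θh n) ≠ 0) (fun ψ => f (a ψ))]
    symm
    apply add_eq_left.2
    apply Finset.sum_eq_zero
    intro s _
    rw [hzero s.1 (not_not.1 s.2), hf]
  apply ram_arith (fun s : {ψ : IrrCharacter T //
      classInner (fun n : N => (ψ : T → ℂ) n) (fun n : N => θh n) ≠ 0} => a s.1) N.index e hpos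
  · rw [← Nat.card_eq_fintype_card, hcard]
  · rw [hsub (fun x => x) rfl, hA]
  · rw [hsub (fun x => x ^ 2) (by simp), hC']

end abstract

section frob

variable {Γ : Type*} [Group Γ] (G N : Subgroup Γ) [hG : G.Normal] [hN : N.Normal]
  [Fintype G] [Fintype N]

/-- if `t` acts fixed point freely on `G / N`, every element of `G t` is conjugate into `N t` -/
theorem sum_coset_frob (t : Γ)
    (hfrob : ∀ g : Γ, g ∈ G → t * g * t⁻¹ * g⁻¹ ∈ N → g ∈ N)
    (hNG : N ≤ G) (f : Γ → ℂ) (hf : IsClassFunction Γ f) :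
    (Nat.card N : ℂ) * ∑ g : G, f ((g : Γ) * t) = (Nat.card G : ℂ) * ∑ n : N, f ((n : Γ) * t) := by
  classical
  let Φ : G × N → G := fun x =>
    ⟨x.1 * x.2 * (t * (x.1 : Γ)⁻¹ * t⁻¹),
      G.mul_mem (G.mul_mem x.1.2 (hNG x.2.2)) (hG.conj_mem _ (G.inv_mem x.1.2) t)⟩
  have hΦ : ∀ x, ((Φ x : G) : Γ) * t = x.1 * (x.2 * t) * (x.1 : Γ)⁻¹ := by
    intro x
    change (x.1 : Γ) * x.2 * (t * (x.1 : Γ)⁻¹ * t⁻¹) * t = _
    group
  have hfib : ∀ x₀ : G × N, (Finset.univ.filter (fun x => Φ x = Φ x₀)).card = Nat.card N := by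
    intro x₀
    rw [Nat.card_eq_fintype_card, ← Finset.card_univ]
    symm
    apply Finset.card_bij (fun (h : N) _ =>
      ((x₀.1 * ⟨(h : Γ)⁻¹, G.inv_mem (hNG h.2)⟩,
        ⟨h * x₀.2 * (t * (h : Γ)⁻¹ * t⁻¹),
          N.mul_mem (N.mul_mem h.2 x₀.2.2) (hN.conj_mem _ (N.inv_mem h.2) t)⟩) : G × N))
    · intro h _
      rw [Finset.mem_filter]
      refine ⟨Finset.mem_univ _, ?_⟩
      apply Subtype.ext
      apply mul_right_cancel (b := t)
      rw [hΦ, hΦ]
      change (x₀.1 : Γ) * (h : Γ)⁻¹ * ((h : Γ) * x₀.2 * (t * (h : Γ)⁻¹ * t⁻¹) * t)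
        * ((x₀.1 : Γ) * (h : Γ)⁻¹)⁻¹ = x₀.1 * (x₀.2 * t) * (x₀.1 : Γ)⁻¹
      group
    · intro h _ h' _ hh'
      have h1 := congrArg (fun x => ((x.1 : G) : Γ)) hh'
      change (x₀.1 : Γ) * (h : Γ)⁻¹ = (x₀.1 : Γ) * (h' : Γ)⁻¹ at h1
      apply Subtype.ext
      exact inv_injective (mul_left_cancel h1)
    · intro x hx
      rw [Finset.mem_filter] at hx
      have h1 : (x.1 : Γ) * (x.2 * t) * (x.1 : Γ)⁻¹ = x₀.1 * (x₀.2 * t) * (x₀.1 : Γ)⁻¹ := by
        rw [← hΦ, ← hΦ, hx.2]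
      have h2 : ((x.1 : Γ)⁻¹ * x₀.1) * (x₀.2 * t) * ((x.1 : Γ)⁻¹ * x₀.1)⁻¹ = x.2 * t := by
        have : (x.2 : Γ) * t = (x.1 : Γ)⁻¹ * ((x.1 : Γ) * (x.2 * t) * (x.1 : Γ)⁻¹) * x.1 := by group
        rw [this, h1]
        group
      have hG' : (x.1 : Γ)⁻¹ * x₀.1 ∈ G := G.mul_mem (G.inv_mem x.1.2) x₀.1.2
      have h3 : t * ((x.1 : Γ)⁻¹ * x₀.1)⁻¹ * t⁻¹ * (((x.1 : Γ)⁻¹ * x₀.1)⁻¹)⁻¹
          = (x₀.2 : Γ)⁻¹ * (((x.1 : Γ)⁻¹ * x₀.1)⁻¹ * x.2 * (((x.1 : Γ)⁻¹ * x₀.1)⁻¹)⁻¹) := by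
        have : (x.2 : Γ) = ((x.1 : Γ)⁻¹ * x₀.1) * (x₀.2 * t) * ((x.1 : Γ)⁻¹ * x₀.1)⁻¹ * t⁻¹ := by
          rw [h2]; group
        conv_rhs => rw [this]
        group
      have h4 : (x.1 : Γ)⁻¹ * x₀.1 ∈ N := by
        have := hfrob _ (G.inv_mem hG') (by
          rw [h3]
          exact N.mul_mem (N.inv_mem x₀.2.2) (hN.conj_mem _ x.2.2 _))
        exact (N.inv_mem_iff).1 this
      refine ⟨⟨_, h4⟩, Finset.mem_univ _, ?_⟩
      apply Prod.ext
      · apply Subtype.ext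
        change (x₀.1 : Γ) * ((x.1 : Γ)⁻¹ * x₀.1)⁻¹ = x.1
        group
      · apply Subtype.ext
        change ((x.1 : Γ)⁻¹ * x₀.1) * x₀.2 * (t * ((x.1 : Γ)⁻¹ * x₀.1)⁻¹ * t⁻¹) = x.2
        apply mul_right_cancel (b := t)
        rw [← h2]
        group
  have hle : ∀ y : G, (Finset.univ.filter (fun x => Φ x = y)).card ≤ Nat.card N := by
    intro y
    by_cases hne : (Finset.univ.filter (fun x => Φ x = y)).Nonempty
    · obtain ⟨x₀, hx₀⟩ := hne
      rw [Finset.mem_filter] at hx₀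
      rw [← hx₀.2, hfib]
    · rw [Finset.not_nonempty_iff_eq_empty.1 hne]
      simp
  have htot : ∑ y : G, (Finset.univ.filter (fun x => Φ x = y)).card = ∑ _y : G, Nat.card N := by
    rw [← Finset.card_eq_sum_card_fiberwise (fun x _ => Finset.mem_coe.2 (Finset.mem_univ (Φ x))),
      Finset.card_univ, Fintype.card_prod, Finset.sum_const, Finset.card_univ, smul_eq_mul,
      Nat.card_eq_fintype_card]
  have hall := (Finset.sum_eq_sum_iff_of_le (fun y _ => hle y)).1 htot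
  have hsum : ∑ x : G × N, f ((Φ x : Γ) * t) = ∑ y : G, (Nat.card N : ℂ) * f ((y : Γ) * t) := by
    rw [← Finset.sum_fiberwise Finset.univ Φ]
    apply Finset.sum_congr rfl
    intro y _
    rw [Finset.sum_congr rfl (g := fun _ => f ((y : Γ) * t))
      (fun x hx => by rw [(Finset.mem_filter.1 hx).2]), Finset.sum_const,
      hall y (Finset.mem_univ _), nsmul_eq_mul]
  have hsum' : ∑ x : G × N, f ((Φ x : Γ) * t) = ∑ x : G × N, f ((x.2 : Γ) * t) := by
    apply Finset.sum_congr rfl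
    intro x _
    rw [hΦ, hf]
  rw [Finset.mul_sum, ← hsum, hsum', Fintype.sum_prod_type]
  simp only [Finset.sum_const, Finset.card_univ, nsmul_eq_mul, Nat.card_eq_fintype_card]

end frob

end Cfsg.Agent.Lib.Helper15
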