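import Cfsg.Agent.Lib.Helper15.LinearMul
import Cfsg.Agent.Lib.Helper78.MinMax
import Cfsg.Agent.Lib.Helper78.DefectZero
import Cfsg.Agent.Lib.Helper78.ClassAlg
import Cfsg.Agent.Lib.Helper16.OrbitSum

/-!
# The Glauberman correspondence for `p`-groups of operators (Brauer-map proof)
-/

set_option autoImplicit false
set_option linter.unusedSectionVars false

namespace Cfsg.Agent.Lib.Helper15

open Cfsg Cfsg.Agent.Lib
open scoped ComplexConjugate

section fixedpoint

variable {M : Ideal AlgInt}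

/-- Fixed point principle modulo the local ideal, as a congruence of sums. -/
theorem sum_sub_sum_fixed {p : ℕ} (h : IsPModular p M) {Γ X : Type*} [Group Γ]
    [MulAction Γ X] [Fintype X] (hΓ : IsPGroup p Γ) (w : X → ℂ)
    (hw : ∀ (γ : Γ) (x : X), w (γ • x) = w x) (hR : ∀ x, MemLocalRing M (w x))
    [DecidablePred (fun x : X => x ∈ MulAction.fixedPoints Γ X)] :
    MemLocalIdeal M (∑ x, w x - ∑ x with x ∈ MulAction.fixedPoints Γ X, w x) := by
  classical
  have hM := Helper78.pmod_isPrime h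
  have : Fact p.Prime := ⟨h.1⟩
  have hfixinv : ∀ (γ : Γ) (x : X), γ • x ∈ MulAction.fixedPoints Γ X ↔
      x ∈ MulAction.fixedPoints Γ X := by
    intro γ x
    constructor
    · intro h γ'
      have h1 := h (γ * γ' * γ⁻¹)
      rw [← mul_smul, inv_mul_cancel_right, mul_smul] at h1
      exact smul_left_cancel γ h1
    · intro h γ'
      rw [h γ, h γ']
  obtain ⟨r, hr, hsum'⟩ := Helper16.sum_mem_mul_of_dvd_orbit (Γ := Γ) (Helper78.localRing M hM)
    (fun x => if x ∈ MulAction.fixedPoints Γ X then 0 else w x)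
    (by
      intro γ x
      simp only [hfixinv, hw])
    (by
      intro x
      by_cases hx : x ∈ MulAction.fixedPoints Γ X
      · simp only [hx, if_true]; exact Helper78.memLocalRing_zero hM
      · simp only [hx, if_false]; exact hR x)
    p
    (by
      intro x hx
      have hx' : x ∉ MulAction.fixedPoints Γ X := by
        intro hfix
        simp [hfix] at hx
      obtain ⟨n, hn⟩ := hΓ.card_orbit x
      have hn0 : n ≠ 0 := by
        rintro rfl
        apply hx'
        rw [pow_zero] at hn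
        rw [MulAction.mem_fixedPoints_iff_card_orbit_eq_one, ← Nat.card_eq_fintype_card]
        exact hn
      rw [hn]
      exact dvd_pow_self p hn0)
  have e : ∑ x, w x - ∑ x with x ∈ MulAction.fixedPoints Γ X, w x
      = ∑ x, (if x ∈ MulAction.fixedPoints Γ X then 0 else w x) := by
    rw [Finset.sum_filter, ← Finset.sum_sub_distrib]
    apply Finset.sum_congr rfl
    intro x _
    split_ifs <;> simp
  rw [e, hsum']
  exact Helper78.MemLocalIdeal.mul_right hM (Helper78.memLocalIdeal_p h) hr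

end fixedpoint

section orth

variable {G : Type*} [Group G] [Fintype G]

theorem omega_inv_irr {χ φ : G → ℂ} (hχ : IsIrrCharacter G χ) (hφ : IsIrrCharacter G φ)
    (hne : φ ≠ χ) : Helper78.omega φ (fun x => χ x⁻¹) = 0 := by
  unfold Helper78.omega
  have h := irr_inner_ne hφ hχ hne
  unfold classInner at h
  have hc : (Nat.card G : ℂ)⁻¹ ≠ 0 := inv_ne_zero (card_ne_zero G)
  have h2 := (mul_eq_zero.1 h).resolve_left hc
  have h3 : ∑ g : G, χ g⁻¹ * φ g = ∑ g : G, φ g * conj (χ g) := by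
    apply Finset.sum_congr rfl
    intro g _
    rw [Helper3.IsCharacter.apply_inv (irr_char hχ), mul_comm]
  rw [h3, h2, zero_div]

theorem cf_inv {χ : G → ℂ} (hχ : IsClassFunction G χ) : IsClassFunction G (fun x => χ x⁻¹) := by
  intro g h
  have : (h * g * h⁻¹)⁻¹ = h * g⁻¹ * h⁻¹ := by group
  simp only [this]
  exact hχ _ _

/-- generalized orthogonality (off-diagonal) -/
theorem conv_inv_irr_ne {χ χ' : G → ℂ} (hχ : IsIrrCharacter G χ) (hχ' : IsIrrCharacter G χ')
    (hne : χ ≠ χ') (d : G) : ∑ x : G, χ x⁻¹ * χ' (d⁻¹ * x) = 0 := by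
  have ha : IsClassFunction G (fun x => χ x⁻¹) := cf_inv (irr_cf hχ)
  have hb : IsClassFunction G (fun x => χ' x⁻¹) := cf_inv (irr_cf hχ')
  have h0 : IsClassFunction G (0 : G → ℂ) := fun _ _ => rfl
  have key : Helper78.conv (fun x => χ x⁻¹) (fun x => χ' x⁻¹) = 0 := by
    apply Helper78.eq_of_omega_eq (Helper78.conv_isClassFunction ha hb) h0
    intro φ
    rw [Helper78.omega_conv φ.2 _ hb, Helper78.omega_zero]
    by_cases h : (φ : G → ℂ) = χ
    · have h' : (φ : G → ℂ) ≠ χ' := fun h'' => hne (h.symm.trans h'')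
      rw [omega_inv_irr hχ' φ.2 h', mul_zero]
    · rw [omega_inv_irr hχ φ.2 h, zero_mul]
  have := congrFun key d
  unfold Helper78.conv at this
  rw [Pi.zero_apply] at this
  rw [← this]
  apply Finset.sum_congr rfl
  intro x _
  congr 2
  group

end orth

/-- the action on irreducible characters induced by an action on the group -/
@[instance_reducible] def irrMulAction (A G : Type*) [Group A] [Group G] [Finite G]
    [MulDistribMulAction A G] : MulAction A (IrrCharacter G) where
  smul a χ := ⟨fun g => (χ : G → ℂ) (a⁻¹ • g),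
    irr_comp_equiv (MulDistribMulAction.toMulEquiv G a⁻¹) χ.2⟩
  one_smul χ := by
    apply Subtype.ext
    funext g
    change (χ : G → ℂ) ((1 : A)⁻¹ • g) = (χ : G → ℂ) g
    rw [inv_one, one_smul]
  mul_smul a b χ := by
    apply Subtype.ext
    funext g
    change (χ : G → ℂ) ((a * b)⁻¹ • g) = (χ : G → ℂ) (b⁻¹ • a⁻¹ • g)
    rw [mul_inv_rev, mul_smul]

/-- hypotheses of the Glauberman correspondence for a `p`-group `A` acting on `G`, with fixed points
the image of `ι : C →* G` -/
structure GlSetup (p : ℕ) (M : Ideal AlgInt) (A : Type*) {G C : Type*} [Group A] [Group G] [Group C]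
    [MulDistribMulAction A G] (ι : C →* G) : Prop where
  hM : IsPModular p M
  hA : IsPGroup p A
  hp : ¬ p ∣ Nat.card G
  inj : Function.Injective ι
  fix : ∀ g : G, (∀ a : A, a • g = g) ↔ ∃ c, ι c = g

namespace GlSetup

variable {p : ℕ} {M : Ideal AlgInt} {A G C : Type*} [Group A] [Group G] [Group C]
  [MulDistribMulAction A G] {ι : C →* G} [Fintype G] [Fintype C]

theorem sum_congr (S : GlSetup p M A ι) (f : G → ℂ) (hf : ∀ (a : A) (g : G), f (a • g) = f g)
    (hR : ∀ g, MemLocalRing M (f g)) : MemLocalIdeal M (∑ g, f g - ∑ c, f (ι c)) := by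
  classical
  have h := sum_sub_sum_fixed S.hM S.hA f hf hR
  have e : ∑ x with x ∈ MulAction.fixedPoints A G, f x = ∑ c, f (ι c) := by
    have e1 : ∑ c, f (ι c) = ∑ x ∈ Finset.univ.map ⟨ι, S.inj⟩, f x := by
      rw [Finset.sum_map]; rfl
    rw [e1]
    apply Finset.sum_congr _ (fun _ _ => rfl)
    ext x
    simp only [Finset.mem_filter, Finset.mem_univ, true_and, MulAction.mem_fixedPoints,
      Finset.mem_map, Function.Embedding.coeFn_mk]
    exact S.fix x
  rwa [e] at h

theorem smul_ι (S : GlSetup p M A ι) (a : A) (c : C) : a • ι c = ι c :=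
  (S.fix (ι c)).2 ⟨c, rfl⟩ a

theorem not_dvd_card_C (S : GlSetup p M A ι) : ¬ p ∣ Nat.card C := fun h =>
  S.hp (h.trans (Subgroup.card_dvd_of_injective ι S.inj))

theorem sum_inv_mul {β : C → ℂ} (hβ : IsCharacter C β) (φ : C → ℂ) :
    ∑ c, φ c⁻¹ * β c = (Nat.card C : ℂ) * classInner φ β := by
  unfold classInner
  rw [← mul_assoc, mul_inv_cancel₀ (card_ne_zero C), one_mul, ← Equiv.sum_comp (Equiv.inv C)]
  apply Finset.sum_congr rfl
  intro c _
  simp only [Equiv.inv_apply, inv_inv]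
  rw [Helper3.IsCharacter.apply_inv hβ]

theorem memR_char {X : Type*} [Group X] [Finite X] (hMp : M.IsPrime) {χ : X → ℂ}
    (hχ : IsCharacter X χ) (g : X) : MemLocalRing M (χ g) :=
  Helper78.memLocalRing_of_isIntegral hMp (Helper3.IsCharacter.isIntegral hχ g)

/-- two distinct invariant irreducible characters cannot both contain `β` with multiplicity prime
to `p` -/
theorem F1 (S : GlSetup p M A ι) {χ χ' : G → ℂ} (hχ : IsIrrCharacter G χ)
    (hχ' : IsIrrCharacter G χ')
    (hinv : ∀ (a : A) (g : G), χ (a • g) = χ g) (hinv' : ∀ (a : A) (g : G), χ' (a • g) = χ' g)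
    (hne : χ ≠ χ') {β : C → ℂ} (hβ : IsIrrCharacter C β) {m m' : ℕ}
    (hm : classInner (χ ∘ ι) β = m) (hm' : classInner (χ' ∘ ι) β = m') : p ∣ m * m' := by
  have hMp := Helper78.pmod_isPrime S.hM
  have hpp := S.hM.1
  set a : C → ℂ := fun c => χ (ι c⁻¹) with ha
  set b : C → ℂ := fun c => χ' (ι c⁻¹) with hb'
  have hb : IsClassFunction C b := by
    intro g h
    simp only [hb']
    have : ι (h * g * h⁻¹)⁻¹ = ι h * ι g⁻¹ * (ι h)⁻¹ := by
      rw [← map_inv ι h, ← map_mul, ← map_mul]; congr 1; group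
    rw [this]
    exact irr_cf hχ' _ _
  have hsa : ∑ c, a c * β c = (Nat.card C : ℂ) * m := by
    rw [← hm]; exact sum_inv_mul (irr_char hβ) (χ ∘ ι)
  have hsb : ∑ c, b c * β c = (Nat.card C : ℂ) * m' := by
    rw [← hm']; exact sum_inv_mul (irr_char hβ) (χ' ∘ ι)
  have hconv : ∀ d, MemLocalIdeal M (Helper78.conv a b d) := by
    intro d
    have h1 := S.sum_congr (fun x => χ x⁻¹ * χ' ((ι d)⁻¹ * x))
      (by
        intro s g
        have e1 : (s • g)⁻¹ = s • g⁻¹ := (smul_inv' s g).symm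
        have e2 : (ι d)⁻¹ * s • g = s • ((ι d)⁻¹ * g) := by
          rw [smul_mul', smul_inv', S.smul_ι]
        simp only [e1, e2, hinv, hinv'])
      (fun g => Helper78.MemLocalRing.mul hMp (memR_char hMp (irr_char hχ) _)
        (memR_char hMp (irr_char hχ') _))
    rw [conv_inv_irr_ne hχ hχ' hne, zero_sub] at h1
    have h2 := Helper78.MemLocalIdeal.neg h1
    rw [neg_neg] at h2
    have e : Helper78.conv a b d = ∑ c, χ (ι c)⁻¹ * χ' ((ι d)⁻¹ * ι c) := by
      unfold Helper78.conv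
      apply Finset.sum_congr rfl
      intro c _
      simp only [ha, hb']
      rw [map_inv]
      congr 2
      rw [← map_inv, ← map_mul]
      congr 1
      group
    rw [e]
    exact h2
  have hom := Helper78.omega_conv hβ a hb
  unfold Helper78.omega at hom
  rw [hsa, hsb] at hom
  have hβ1 : β 1 ≠ 0 := irr_one_ne_zero hβ
  have hkey : (Nat.card C : ℂ) * m * ((Nat.card C : ℂ) * m')
      = β 1 * ∑ g, Helper78.conv a b g * β g := by
    field_simp at hom
    linear_combination -hom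
  have hmem : MemLocalIdeal M ((Nat.card C : ℂ) * m * ((Nat.card C : ℂ) * m')) := by
    rw [hkey]
    apply Helper78.MemLocalIdeal.mul_left hMp (memR_char hMp (irr_char hβ) _)
    apply Helper78.MemLocalIdeal.sum hMp
    intro g _
    exact Helper78.MemLocalIdeal.mul_right hMp (hconv g) (memR_char hMp (irr_char hβ) _)
  have hcast : ((Nat.card C : ℂ) * m * ((Nat.card C : ℂ) * m'))
      = ((Nat.card C * m * (Nat.card C * m') : ℕ) : ℂ) := by push_cast; ring
  rw [hcast, Helper78.memLocalIdeal_natCast_iff S.hM] at hmem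
  have hC := S.not_dvd_card_C
  rcases (Nat.Prime.dvd_mul hpp).1 hmem with h | h
  · rcases (Nat.Prime.dvd_mul hpp).1 h with h | h
    · exact absurd h hC
    · exact Dvd.dvd.mul_right h _
  · rcases (Nat.Prime.dvd_mul hpp).1 h with h | h
    · exact absurd h hC
    · exact Dvd.dvd.mul_left h _

/-- the "induced character" as a combination of irreducible characters -/
noncomputable def Psi (ι : C →* G) (β : C → ℂ) : G → ℂ :=
  fun g => ∑ χ : IrrCharacter G, classInner β ((χ : G → ℂ) ∘ ι) * (χ : G → ℂ) g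

open Classical in
theorem sum_ite_extend (hinj : Function.Injective ι) (β : C → ℂ) (y : G) :
    ∑ c, (if (ι c)⁻¹ * y = 1 then β c else 0) = Function.extend ι β 0 y := by
  by_cases hy : ∃ c, ι c = y
  · obtain ⟨c₀, rfl⟩ := hy
    rw [hinj.extend_apply]
    have : ∀ c, (if (ι c)⁻¹ * ι c₀ = 1 then β c else 0) = if c = c₀ then β c else 0 := by
      intro c
      have hiff : (ι c)⁻¹ * ι c₀ = 1 ↔ c = c₀ := by
        rw [inv_mul_eq_one]
        exact hinj.eq_iff
      simp only [hiff]
    simp_rw [this]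
    simp
  · rw [Function.extend_apply' _ _ _ hy]
    apply Finset.sum_eq_zero
    intro c _
    rw [if_neg]
    intro h
    exact hy ⟨c, inv_mul_eq_one.1 h⟩

theorem Psi_eq (hinj : Function.Injective ι) (β : C → ℂ) (g : G) :
    Psi ι β g = (Nat.card C : ℂ)⁻¹ * ∑ t : G, Function.extend ι β 0 (t * g * t⁻¹) := by
  classical
  unfold Psi classInner
  have h1 : ∀ χ : IrrCharacter G,
      (Nat.card C : ℂ)⁻¹ * (∑ c, β c * conj (((χ : G → ℂ) ∘ ι) c)) * (χ : G → ℂ) g
      = (Nat.card C : ℂ)⁻¹ * ∑ c, β c * ((χ : G → ℂ) (ι c)⁻¹ * (χ : G → ℂ) g) := by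
    intro χ
    rw [mul_assoc, Finset.sum_mul]
    congr 1
    apply Finset.sum_congr rfl
    intro c _
    rw [Function.comp_apply, ← Helper3.IsCharacter.apply_inv (irr_char χ.2), mul_assoc]
  simp_rw [h1]
  rw [← Finset.mul_sum, Finset.sum_comm]
  congr 1
  simp_rw [← Finset.mul_sum, Helper78.sum_irr_mul, Finset.card_filter]
  push_cast
  simp_rw [Finset.mul_sum]
  rw [Finset.sum_comm]
  apply Finset.sum_congr rfl
  intro t _
  rw [← sum_ite_extend hinj]
  apply Finset.sum_congr rfl
  intro c _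
  split_ifs <;> simp

theorem extend_smul (S : GlSetup p M A ι) (β : C → ℂ) (a : A) (y : G) :
    Function.extend ι β 0 (a • y) = Function.extend ι β 0 y := by
  by_cases hy : ∃ c, ι c = y
  · obtain ⟨c₀, rfl⟩ := hy
    rw [S.smul_ι]
  · have hy' : ¬ ∃ c, ι c = a • y := by
      rintro ⟨c, hc⟩
      apply hy
      refine ⟨c, ?_⟩
      have : a⁻¹ • ι c = y := by rw [hc, inv_smul_smul]
      rw [← this, S.smul_ι]
    rw [Function.extend_apply' _ _ _ hy, Function.extend_apply' _ _ _ hy']
    rfl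

theorem Psi_congr (S : GlSetup p M A ι) {β : C → ℂ} (hβ : IsCharacter C β) (c' : C) :
    MemLocalIdeal M (Psi ι β (ι c') - β c') := by
  have hMp := Helper78.pmod_isPrime S.hM
  have h1 := S.sum_congr (fun t => Function.extend ι β 0 (t * ι c' * t⁻¹))
    (by
      intro a t
      have e : a • t * ι c' * (a • t)⁻¹ = a • (t * ι c' * t⁻¹) := by
        rw [smul_mul', smul_mul', smul_inv', S.smul_ι]
      simp only [e]
      exact S.extend_smul β a _)
    (by
      intro t
      by_cases hy : ∃ c, ι c = t * ι c' * t⁻¹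
      · obtain ⟨c₀, hc₀⟩ := hy
        simp only [← hc₀]
        rw [S.inj.extend_apply]
        exact memR_char hMp hβ _
      · rw [Function.extend_apply' _ _ _ hy]
        exact Helper78.memLocalRing_zero hMp)
  have e2 : ∑ c, Function.extend ι β 0 (ι c * ι c' * (ι c)⁻¹) = (Nat.card C : ℂ) * β c' := by
    have : ∀ c, Function.extend ι β 0 (ι c * ι c' * (ι c)⁻¹) = β c' := by
      intro c
      rw [← map_inv, ← map_mul, ← map_mul, S.inj.extend_apply]
      exact char_cf hβ _ _
    simp_rw [this]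
    rw [Finset.sum_const, Finset.card_univ, nsmul_eq_mul, Nat.card_eq_fintype_card]
  rw [e2] at h1
  rw [Psi_eq S.inj]
  have h2 := Helper78.MemLocalIdeal.mul_left hMp
    (Helper78.memLocalRing_inv_natCast S.hM S.not_dvd_card_C) h1
  rw [mul_sub, ← mul_assoc, inv_mul_cancel₀ (card_ne_zero C), one_mul] at h2
  exact h2

theorem char_comp {χ : G → ℂ} (hχ : IsCharacter G χ) (ι : C →* G) : IsCharacter C (χ ∘ ι) :=
  Helper3.IsCharacter.comp_hom hχ ι

theorem mem_fixedPoints_irr (χ : IrrCharacter G) :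
    (∀ a : A, (irrMulAction A G).smul a χ = χ) ↔
      ∀ (a : A) (g : G), (χ : G → ℂ) (a • g) = (χ : G → ℂ) g := by
  constructor
  · intro h a g
    have := congrFun (congrArg Subtype.val (h a⁻¹)) g
    change (χ : G → ℂ) (a⁻¹⁻¹ • g) = (χ : G → ℂ) g at this
    rwa [inv_inv] at this
  · intro h a
    apply Subtype.ext
    funext g
    exact h a⁻¹ g

open Classical in
/-- column orthogonality modulo `p` of the multiplicity matrix -/
theorem G2 (S : GlSetup p M A ι) {β β' : C → ℂ} (hβ : IsIrrCharacter C β)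
    (hβ' : IsIrrCharacter C β') :
    MemLocalIdeal M ((∑ χ ∈ Finset.univ.filter (fun χ : IrrCharacter G =>
        ∀ (a : A) (g : G), (χ : G → ℂ) (a • g) = (χ : G → ℂ) g),
      classInner ((χ : G → ℂ) ∘ ι) β * classInner ((χ : G → ℂ) ∘ ι) β') - classInner β β') := by
  have hMp := Helper78.pmod_isPrime S.hM
  have htot : ∑ χ : IrrCharacter G,
      classInner ((χ : G → ℂ) ∘ ι) β * classInner ((χ : G → ℂ) ∘ ι) β'
      = classInner (Psi ι β ∘ ι) β' := by
    have : Psi ι β ∘ ι = ∑ χ : IrrCharacter G,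
        classInner β ((χ : G → ℂ) ∘ ι) • ((χ : G → ℂ) ∘ ι) := by
      funext c
      simp [Psi]
    rw [this, classInner_sum_left]
    apply Finset.sum_congr rfl
    intro χ _
    rw [classInner_smul_left, inner_comm_of_char (char_comp (irr_char χ.2) ι) (irr_char hβ)]
  have h1 : MemLocalIdeal M (classInner (Psi ι β ∘ ι) β' - classInner β β') := by
    rw [← classInner_sub_left]
    unfold classInner
    apply Helper78.MemLocalIdeal.mul_left hMp
      (Helper78.memLocalRing_inv_natCast S.hM S.not_dvd_card_C)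
    apply Helper78.MemLocalIdeal.sum hMp
    intro c _
    apply Helper78.MemLocalIdeal.mul_right hMp
    · exact S.Psi_congr (irr_char hβ) c
    · rw [← Helper3.IsCharacter.apply_inv (irr_char hβ')]
      exact memR_char hMp (irr_char hβ') _
  let inst := irrMulAction A G
  have h2 := sum_sub_sum_fixed (Γ := A) (X := IrrCharacter G) S.hM S.hA
    (fun χ => classInner ((χ : G → ℂ) ∘ ι) β * classInner ((χ : G → ℂ) ∘ ι) β')
    (by
      intro a χ
      have e : ((a • χ : IrrCharacter G) : G → ℂ) ∘ ι = (χ : G → ℂ) ∘ ι := by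
        funext c
        change (χ : G → ℂ) (a⁻¹ • ι c) = (χ : G → ℂ) (ι c)
        rw [S.smul_ι]
      simp only [e])
    (by
      intro χ
      obtain ⟨n, hn⟩ := inner_nat (char_comp (irr_char χ.2) ι) (irr_char hβ)
      obtain ⟨n', hn'⟩ := inner_nat (char_comp (irr_char χ.2) ι) (irr_char hβ')
      simp only [hn, hn']
      exact Helper78.MemLocalRing.mul hMp (Helper78.memLocalRing_natCast hMp _)
        (Helper78.memLocalRing_natCast hMp _))
  rw [htot] at h2
  have e3 : (∑ χ : IrrCharacter G with χ ∈ MulAction.fixedPoints A (IrrCharacter G),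
      classInner ((χ : G → ℂ) ∘ ι) β * classInner ((χ : G → ℂ) ∘ ι) β')
      = ∑ χ ∈ Finset.univ.filter (fun χ : IrrCharacter G =>
        ∀ (a : A) (g : G), (χ : G → ℂ) (a • g) = (χ : G → ℂ) g),
      classInner ((χ : G → ℂ) ∘ ι) β * classInner ((χ : G → ℂ) ∘ ι) β' := by
    apply Finset.sum_congr _ (fun _ _ => rfl)
    ext χ
    simp only [Finset.mem_filter, Finset.mem_univ, true_and]
    exact mem_fixedPoints_irr χ
  rw [e3] at h2
  have h3 := Helper78.MemLocalIdeal.sub hMp h1 h2
  have e4 : ∀ x y z : ℂ, x - y - (x - z) = z - y := fun x y z => by ring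
  rw [e4] at h3
  exact h3

theorem F3 (S : GlSetup p M A ι) {χ : G → ℂ} (hχ : IsIrrCharacter G χ) :
    ∃ β : IrrCharacter C, ∃ m : ℕ, classInner (χ ∘ ι) (β : C → ℂ) = m ∧ ¬ p ∣ m := by
  by_contra hcon
  push Not at hcon
  have hch := char_comp (irr_char hχ) ι
  have hm : ∀ β : IrrCharacter C, ∃ n : ℕ, classInner (χ ∘ ι) (β : C → ℂ) = n :=
    fun β => inner_nat hch (irr_char β.2)
  choose μ hμ using hm
  have h1 := congrFun (cf_expansion (char_cf hch)) 1
  rw [Finset.sum_apply] at h1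
  simp only [Pi.smul_apply, smul_eq_mul, Function.comp_apply, map_one] at h1
  have h2 : (charDegree χ : ℂ) = ((∑ β : IrrCharacter C, μ β * charDegree (β : C → ℂ) : ℕ) : ℂ) := by
    rw [← Helper80.char_one_eq_charDegree (irr_char hχ), h1]
    push_cast
    apply Finset.sum_congr rfl
    intro β _
    rw [← hμ β, ← Helper80.char_one_eq_charDegree (irr_char β.2)]
  have h3 : charDegree χ = ∑ β : IrrCharacter C, μ β * charDegree (β : C → ℂ) := by
    exact_mod_cast h2
  have h4 : p ∣ charDegree χ := by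
    rw [h3]
    apply Finset.dvd_sum
    intro β _
    exact Dvd.dvd.mul_right (hcon β (μ β) (hμ β)) _
  exact S.hp (h4.trans (Helper78.irr_charDegree_dvd_card ⟨χ, hχ⟩))

open Classical in
/-- key congruence -/
theorem key (S : GlSetup p M A ι) {χ : IrrCharacter G}
    (hinv : ∀ (a : A) (g : G), (χ : G → ℂ) (a • g) = (χ : G → ℂ) g) (β β' : IrrCharacter C)
    {m m' : ℕ} (hm : classInner ((χ : G → ℂ) ∘ ι) (β : C → ℂ) = m) (hpm : ¬ p ∣ m)
    (hm' : classInner ((χ : G → ℂ) ∘ ι) (β' : C → ℂ) = m') :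
    (p : ℤ) ∣ (m : ℤ) * m' - (if β = β' then 1 else 0) := by
  have hMp := Helper78.pmod_isPrime S.hM
  have hpp := S.hM.1
  have h := S.G2 β.2 β'.2
  have hmem : χ ∈ Finset.univ.filter (fun χ : IrrCharacter G =>
        ∀ (a : A) (g : G), (χ : G → ℂ) (a • g) = (χ : G → ℂ) g) := by
    simp only [Finset.mem_filter, Finset.mem_univ, true_and]
    exact hinv
  rw [← Finset.add_sum_erase _ _ hmem, hm, hm'] at h
  have hrest : MemLocalIdeal M (∑ x ∈ (Finset.univ.filter (fun χ : IrrCharacter G =>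
        ∀ (a : A) (g : G), (χ : G → ℂ) (a • g) = (χ : G → ℂ) g)).erase χ,
        classInner ((x : G → ℂ) ∘ ι) (β : C → ℂ) * classInner ((x : G → ℂ) ∘ ι) (β' : C → ℂ)) := by
    apply Helper78.MemLocalIdeal.sum hMp
    intro x hx
    rw [Finset.mem_erase, Finset.mem_filter] at hx
    obtain ⟨n, hn⟩ := inner_nat (char_comp (irr_char x.2) ι) (irr_char β.2)
    obtain ⟨n', hn'⟩ := inner_nat (char_comp (irr_char x.2) ι) (irr_char β'.2)
    have hne : (χ : G → ℂ) ≠ (x : G → ℂ) := fun h => hx.1 (Subtype.ext h.symm)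
    have hd := S.F1 χ.2 x.2 hinv hx.2.2 hne β.2 hm hn
    have hd' : p ∣ n := ((Nat.Prime.dvd_mul hpp).1 hd).resolve_left hpm
    rw [hn, hn']
    exact Helper78.MemLocalIdeal.mul_right hMp ((Helper78.memLocalIdeal_natCast_iff S.hM n).2 hd')
      (Helper78.memLocalRing_natCast hMp _)
  have h2 := Helper78.MemLocalIdeal.sub hMp h hrest
  have hββ : classInner (β : C → ℂ) (β' : C → ℂ) = if β = β' then 1 else 0 := by
    split_ifs with hb
    · rw [hb]; exact irr_inner_self β'.2
    · exact irr_inner_ne β.2 β'.2 (fun h => hb (Subtype.ext h))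
  rw [hββ] at h2
  rw [← Helper78.memLocalIdeal_intCast_iff S.hM]
  convert h2 using 1
  split_ifs <;> push_cast <;> ring

/-- **Glauberman correspondence for `p`-groups** (abstract form). -/
theorem main (S : GlSetup p M A ι) :
    (∀ χ : IrrCharacter G, (∀ (a : A) (g : G), (χ : G → ℂ) (a • g) = (χ : G → ℂ) g) →
      ∃! β : IrrCharacter C, ∃ m : ℕ,
        classInner ((χ : G → ℂ) ∘ ι) (β : C → ℂ) = (m : ℂ) ∧ ¬ p ∣ m) ∧
    (∀ χ : IrrCharacter G, (∀ (a : A) (g : G), (χ : G → ℂ) (a • g) = (χ : G → ℂ) g) →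
      ∀ β : IrrCharacter C, ∀ m : ℕ, classInner ((χ : G → ℂ) ∘ ι) (β : C → ℂ) = (m : ℂ) →
        ¬ p ∣ m → ((m : ℤ) ≡ 1 [ZMOD p] ∨ (m : ℤ) ≡ -1 [ZMOD p])) ∧
    (∀ χ χ' : IrrCharacter G, (∀ (a : A) (g : G), (χ : G → ℂ) (a • g) = (χ : G → ℂ) g) →
      (∀ (a : A) (g : G), (χ' : G → ℂ) (a • g) = (χ' : G → ℂ) g) →
      ∀ β : IrrCharacter C, ∀ m m' : ℕ, classInner ((χ : G → ℂ) ∘ ι) (β : C → ℂ) = (m : ℂ) →
        ¬ p ∣ m → classInner ((χ' : G → ℂ) ∘ ι) (β : C → ℂ) = (m' : ℂ) → ¬ p ∣ m' → χ = χ') ∧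
    (∀ β : IrrCharacter C, ∃ χ : IrrCharacter G,
      (∀ (a : A) (g : G), (χ : G → ℂ) (a • g) = (χ : G → ℂ) g) ∧ ∃ m : ℕ,
        classInner ((χ : G → ℂ) ∘ ι) (β : C → ℂ) = (m : ℂ) ∧ ¬ p ∣ m) := by
  classical
  have hMp := Helper78.pmod_isPrime S.hM
  have hpp := S.hM.1
  have hppZ : Prime (p : ℤ) := Nat.prime_iff_prime_int.1 hpp
  refine ⟨?_, ?_, ?_, ?_⟩
  · intro χ hinv
    obtain ⟨β, m, hm, hpm⟩ := S.F3 χ.2
    refine ⟨β, ⟨m, hm, hpm⟩, ?_⟩
    rintro β' ⟨m', hm', hpm'⟩
    by_contra hne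
    have h := S.key hinv β β' hm hpm hm'
    rw [if_neg (fun h => hne h.symm), sub_zero] at h
    rcases hppZ.dvd_or_dvd h with h | h
    · exact hpm (Int.natCast_dvd_natCast.1 h)
    · exact hpm' (Int.natCast_dvd_natCast.1 h)
  · intro χ hinv β m hm hpm
    have h := S.key hinv β β hm hpm hm
    rw [if_pos rfl] at h
    have e : (m : ℤ) * m - 1 = (m - 1) * (m + 1) := by ring
    rw [e] at h
    rcases hppZ.dvd_or_dvd h with h | h
    · left
      exact (Int.modEq_iff_dvd.2 h).symm
    · right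
      apply Int.ModEq.symm
      rw [Int.modEq_iff_dvd]
      simpa using h
  · intro χ χ' hinv hinv' β m m' hm hpm hm' hpm'
    by_contra hne
    have hne' : (χ : G → ℂ) ≠ (χ' : G → ℂ) := fun h => hne (Subtype.ext h)
    have h := S.F1 χ.2 χ'.2 hinv hinv' hne' β.2 hm hm'
    rcases (Nat.Prime.dvd_mul hpp).1 h with h | h
    · exact hpm h
    · exact hpm' h
  · intro β
    by_contra hcon
    push Not at hcon
    have h := S.G2 β.2 β.2
    rw [irr_inner_self β.2] at h
    have hsum : MemLocalIdeal M (∑ χ ∈ Finset.univ.filter (fun χ : IrrCharacter G =>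
        ∀ (a : A) (g : G), (χ : G → ℂ) (a • g) = (χ : G → ℂ) g),
        classInner ((χ : G → ℂ) ∘ ι) (β : C → ℂ) * classInner ((χ : G → ℂ) ∘ ι) (β : C → ℂ)) := by
      apply Helper78.MemLocalIdeal.sum hMp
      intro x hx
      rw [Finset.mem_filter] at hx
      obtain ⟨n, hn⟩ := inner_nat (char_comp (irr_char x.2) ι) (irr_char β.2)
      have hd := hcon x hx.2 n hn
      rw [hn]
      exact Helper78.MemLocalIdeal.mul_right hMp
        ((Helper78.memLocalIdeal_natCast_iff S.hM n).2 hd) (Helper78.memLocalRing_natCast hMp _)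
    have h1 := Helper78.MemLocalIdeal.sub hMp hsum h
    rw [sub_sub_cancel] at h1
    exact Helper78.not_memLocalIdeal_one hMp h1

end GlSetup

end Cfsg.Agent.Lib.Helper15
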