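import Cfsg.Agent.Lib.Helper15.Glauberman

/-!
# The Glauberman correspondence for `p`-groups: subgroups of an ambient group
-/

set_option autoImplicit false
set_option linter.unusedSectionVars false

namespace Cfsg.Agent.Lib.Helper15

open Cfsg Cfsg.Agent.Lib
open scoped ComplexConjugate

section bij

variable {G C : Type*} [Group G] [Group C] [Fintype G] [Fintype C]

theorem inner_comp_bij (ι : C →* G) (hb : Function.Bijective ι) (χ : IrrCharacter G) :
    IsIrrCharacter C ((χ : G → ℂ) ∘ ι) :=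
  irr_comp_equiv (MulEquiv.ofBijective ι hb) χ.2

/-- the trivial case of the correspondence: `ι` bijective -/
theorem main_bij (ι : C →* G) (hb : Function.Bijective ι) (p : ℕ) (hp : p.Prime) :
    (∀ χ : IrrCharacter G,
      ∃! β : IrrCharacter C, ∃ m : ℕ,
        classInner ((χ : G → ℂ) ∘ ι) (β : C → ℂ) = (m : ℂ) ∧ ¬ p ∣ m) ∧
    (∀ χ : IrrCharacter G,
      ∀ β : IrrCharacter C, ∀ m : ℕ, classInner ((χ : G → ℂ) ∘ ι) (β : C → ℂ) = (m : ℂ) →
        ¬ p ∣ m → ((m : ℤ) ≡ 1 [ZMOD p] ∨ (m : ℤ) ≡ -1 [ZMOD p])) ∧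
    (∀ χ χ' : IrrCharacter G,
      ∀ β : IrrCharacter C, ∀ m m' : ℕ, classInner ((χ : G → ℂ) ∘ ι) (β : C → ℂ) = (m : ℂ) →
        ¬ p ∣ m → classInner ((χ' : G → ℂ) ∘ ι) (β : C → ℂ) = (m' : ℂ) → ¬ p ∣ m' → χ = χ') ∧
    (∀ β : IrrCharacter C, ∃ χ : IrrCharacter G, ∃ m : ℕ,
        classInner ((χ : G → ℂ) ∘ ι) (β : C → ℂ) = (m : ℂ) ∧ ¬ p ∣ m) := by
  have hone : ¬ p ∣ 1 := fun h => hp.one_lt.ne' (Nat.dvd_one.1 h)
  have heq : ∀ (χ : IrrCharacter G) (β : IrrCharacter C) (m : ℕ),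
      classInner ((χ : G → ℂ) ∘ ι) (β : C → ℂ) = (m : ℂ) → ¬ p ∣ m →
      (χ : G → ℂ) ∘ ι = (β : C → ℂ) := by
    intro χ β m hm hpm
    apply irr_eq_of_inner_ne_zero (inner_comp_bij ι hb χ) β.2
    rw [hm]
    intro h0
    have : m = 0 := by exact_mod_cast h0
    exact hpm (this ▸ dvd_zero p)
  refine ⟨?_, ?_, ?_, ?_⟩
  · intro χ
    refine ⟨⟨_, inner_comp_bij ι hb χ⟩, ⟨1, by
      rw [irr_inner_self (inner_comp_bij ι hb χ)]; simp, hone⟩, ?_⟩
    rintro β ⟨m, hm, hpm⟩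
    exact Subtype.ext (heq χ β m hm hpm).symm
  · intro χ β m hm hpm
    have h := heq χ β m hm hpm
    rw [h, irr_inner_self β.2] at hm
    have : m = 1 := by exact_mod_cast hm.symm
    left
    rw [this]
    rfl
  · intro χ χ' β m m' hm hpm hm' hpm'
    have h := (heq χ β m hm hpm).trans (heq χ' β m' hm' hpm').symm
    apply Subtype.ext
    funext g
    obtain ⟨c, rfl⟩ := hb.2 g
    exact congrFun h c
  · intro β
    let e := MulEquiv.ofBijective ι hb
    refine ⟨⟨(β : C → ℂ) ∘ e.symm, irr_comp_equiv e.symm β.2⟩, 1, ?_, hone⟩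
    have : ((β : C → ℂ) ∘ e.symm) ∘ ι = (β : C → ℂ) := by
      funext c
      simp only [Function.comp_apply]
      exact congrArg _ (e.symm_apply_apply c)
    simp only [this]
    rw [irr_inner_self β.2]
    simp

end bij

section ambient

variable {Γ : Type*} [Group Γ]

/-- conjugation action of a subgroup `S` on a subgroup `G` it normalises -/
@[instance_reducible] def conjAct (G S : Subgroup Γ)
    (hnorm : ∀ s ∈ S, ∀ g ∈ G, s * g * s⁻¹ ∈ G) : MulDistribMulAction S G where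
  smul s g := ⟨s * g * s⁻¹, hnorm s s.2 g g.2⟩
  one_smul g := Subtype.ext (by
    change ((1 : S) : Γ) * g * ((1 : S) : Γ)⁻¹ = g
    simp)
  mul_smul s t g := Subtype.ext (by
    change ((s * t : S) : Γ) * g * ((s * t : S) : Γ)⁻¹ = s * (t * g * (t : Γ)⁻¹) * (s : Γ)⁻¹
    simp [mul_assoc])
  smul_mul s g h := Subtype.ext (by
    change (s : Γ) * ((g * h : G) : Γ) * (s : Γ)⁻¹
      = (s * g * (s : Γ)⁻¹) * (s * h * (s : Γ)⁻¹)
    simp [mul_assoc])
  smul_one s := Subtype.ext (by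
    change (s : Γ) * ((1 : G) : Γ) * (s : Γ)⁻¹ = 1
    simp)

/-- invariance of a function on `G` under conjugation by `S`, in the shape used in the statements -/
def InvUnder (G S : Subgroup Γ) (χ : G → ℂ) : Prop :=
  ∀ s ∈ S, ∀ g g' : G, (g' : Γ) = s * g * s⁻¹ → χ g' = χ g

theorem invUnder_iff (G S : Subgroup Γ) (hnorm : ∀ s ∈ S, ∀ g ∈ G, s * g * s⁻¹ ∈ G) (χ : G → ℂ) :
    InvUnder G S χ ↔ ∀ (a : S) (g : G), χ ((conjAct G S hnorm).smul a g) = χ g := by
  constructor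
  · intro h a g
    exact h a a.2 g _ rfl
  · intro h s hs g g' hg'
    have := h ⟨s, hs⟩ g
    rw [← this]
    congr 1
    exact Subtype.ext hg'

theorem glSetup_ambient [Finite Γ] (G S C : Subgroup Γ)
    (hnorm : ∀ s ∈ S, ∀ g ∈ G, s * g * s⁻¹ ∈ G) {p : ℕ} {M : Ideal AlgInt} (hM : IsPModular p M)
    (hS : IsPGroup p S) (hpG : ¬ p ∣ Nat.card G)
    (hC : C = G ⊓ Subgroup.centralizer (S : Set Γ)) (hCG : C ≤ G) :
    @GlSetup p M S G C _ _ _ (conjAct G S hnorm) (Subgroup.inclusion hCG) := by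
  let inst := conjAct G S hnorm
  refine ⟨hM, hS, hpG, Subgroup.inclusion_injective hCG, ?_⟩
  intro g
  constructor
  · intro h
    refine ⟨⟨g, ?_⟩, rfl⟩
    rw [hC]
    refine Subgroup.mem_inf.2 ⟨g.2, ?_⟩
    rw [Subgroup.mem_centralizer_iff]
    intro s hs
    have := congrArg Subtype.val (h ⟨s, hs⟩)
    change s * g * s⁻¹ = g at this
    exact mul_inv_eq_iff_eq_mul.1 this
  · rintro ⟨c, rfl⟩ a
    apply Subtype.ext
    change (a : Γ) * c * (a : Γ)⁻¹ = c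
    have hc : (c : Γ) ∈ G ⊓ Subgroup.centralizer (S : Set Γ) := hC ▸ c.2
    have := (Subgroup.mem_centralizer_iff.1 hc.2) a a.2
    rw [this, mul_inv_cancel_right]

/-- **Glauberman correspondence for `p`-groups** inside an ambient group. -/
theorem glauberman_ambient [Fintype Γ] (G S : Subgroup Γ) [Fintype G]
    (hnorm : ∀ s ∈ S, ∀ g ∈ G, s * g * s⁻¹ ∈ G) (hcop : (Nat.card G).Coprime (Nat.card S))
    (p : ℕ) (hp : p.Prime) (hS : IsPGroup p S) (C : Subgroup Γ) [Fintype C]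
    (hC : C = G ⊓ Subgroup.centralizer (S : Set Γ)) (hCG : C ≤ G) :
    (∀ χ : IrrCharacter G, InvUnder G S χ →
      ∃! β : IrrCharacter C, ∃ m : ℕ,
        classInner (fun c : C => (χ : G → ℂ) ⟨c, hCG c.2⟩) (β : C → ℂ) = (m : ℂ) ∧ ¬ p ∣ m) ∧
    (∀ χ : IrrCharacter G, InvUnder G S χ →
      ∀ β : IrrCharacter C, ∀ m : ℕ,
        classInner (fun c : C => (χ : G → ℂ) ⟨c, hCG c.2⟩) (β : C → ℂ) = (m : ℂ) →
        ¬ p ∣ m → ((m : ℤ) ≡ 1 [ZMOD p] ∨ (m : ℤ) ≡ -1 [ZMOD p])) ∧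
    (∀ χ χ' : IrrCharacter G, InvUnder G S χ → InvUnder G S χ' →
      ∀ β : IrrCharacter C, ∀ m m' : ℕ,
        classInner (fun c : C => (χ : G → ℂ) ⟨c, hCG c.2⟩) (β : C → ℂ) = (m : ℂ) →
        ¬ p ∣ m → classInner (fun c : C => (χ' : G → ℂ) ⟨c, hCG c.2⟩) (β : C → ℂ) = (m' : ℂ) →
        ¬ p ∣ m' → χ = χ') ∧
    (∀ β : IrrCharacter C, ∃ χ : IrrCharacter G, InvUnder G S χ ∧ ∃ m : ℕ,
        classInner (fun c : C => (χ : G → ℂ) ⟨c, hCG c.2⟩) (β : C → ℂ) = (m : ℂ) ∧ ¬ p ∣ m) := by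
  have : Fact p.Prime := ⟨hp⟩
  by_cases hS1 : Nat.card S = 1
  · -- trivial action
    have hSbot : S = ⊥ := (Subgroup.card_eq_one).1 hS1
    have hCeq : C = G := by
      rw [hC, hSbot]
      apply inf_eq_left.2
      intro g _
      rw [Subgroup.mem_centralizer_iff]
      intro h hh
      have : h = 1 := hh
      rw [this, one_mul, mul_one]
    have hb : Function.Bijective (Subgroup.inclusion hCG) := by
      refine ⟨Subgroup.inclusion_injective hCG, ?_⟩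
      intro g
      exact ⟨⟨g, hCeq.ge g.2⟩, rfl⟩
    have hall : ∀ χ : G → ℂ, InvUnder G S χ := by
      intro χ s hs g g' hg'
      rw [hSbot, Subgroup.mem_bot] at hs
      subst hs
      congr 1
      apply Subtype.ext
      simpa using hg'
    obtain ⟨h1, h2, h3, h4⟩ := main_bij (Subgroup.inclusion hCG) hb p hp
    refine ⟨fun χ _ => h1 χ, fun χ _ => h2 χ, fun χ χ' _ _ => h3 χ χ', fun β => ?_⟩
    obtain ⟨χ, hχ⟩ := h4 β
    exact ⟨χ, hall _, hχ⟩
  · have hpS : p ∣ Nat.card S := by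
      obtain ⟨n, hn⟩ := IsPGroup.iff_card.1 hS
      rw [hn]
      apply dvd_pow_self
      rintro rfl
      exact hS1 (by rw [hn, pow_zero])
    have hpG : ¬ p ∣ Nat.card G := by
      intro h
      have := Nat.dvd_gcd h hpS
      rw [hcop] at this
      exact hp.one_lt.ne' (Nat.dvd_one.1 this)
    obtain ⟨M, hM⟩ := Helper78.exists_isPModular p hp
    let inst := conjAct G S hnorm
    have S0 := glSetup_ambient G S C hnorm hM hS hpG hC hCG
    obtain ⟨h1, h2, h3, h4⟩ := S0.main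
    refine ⟨fun χ hχ => h1 χ ((invUnder_iff G S hnorm _).1 hχ),
      fun χ hχ => h2 χ ((invUnder_iff G S hnorm _).1 hχ),
      fun χ χ' hχ hχ' => h3 χ χ' ((invUnder_iff G S hnorm _).1 hχ)
        ((invUnder_iff G S hnorm _).1 hχ'), fun β => ?_⟩
    obtain ⟨χ, hχ, hm⟩ := h4 β
    exact ⟨χ, (invUnder_iff G S hnorm _).2 hχ, hm⟩

end ambient

end Cfsg.Agent.Lib.Helper15
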