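import Cfsg.Agent.Lib.Helper15.Glauberman2

/-!
# Glauberman correspondence: groups acting *as* `p`-groups; equivariance; counting
-/

set_option autoImplicit false
set_option linter.unusedSectionVars false

namespace Cfsg.Agent.Lib.Helper15

open Cfsg Cfsg.Agent.Lib
open scoped ComplexConjugate

section range

variable {p : ℕ} {M : Ideal AlgInt} {T G C : Type*} [Group T] [Group G] [Group C]
  [MulDistribMulAction T G] {ι : C →* G}

theorem range_smul_iff (P : G → G → Prop) :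
    (∀ (a : (MulDistribMulAction.toMulAut T G).range) (g : G), P (a • g) g) ↔
      ∀ (t : T) (g : G), P (t • g) g := by
  constructor
  · intro h t g
    exact h ⟨MulDistribMulAction.toMulAut T G t, ⟨t, rfl⟩⟩ g
  · rintro h ⟨_, ⟨t, rfl⟩⟩ g
    exact h t g

/-- only the induced group of automorphisms matters -/
theorem GlSetup.of_range (hM : IsPModular p M)
    (hT : ∀ t : T, ∃ k : ℕ, ∀ g : G, (t ^ p ^ k) • g = g) (hp : ¬ p ∣ Nat.card G)
    (inj : Function.Injective ι) (fix : ∀ g : G, (∀ t : T, t • g = g) ↔ ∃ c, ι c = g) :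
    GlSetup p M (MulDistribMulAction.toMulAut T G).range ι := by
  refine ⟨hM, ?_, hp, inj, ?_⟩
  · rintro ⟨_, ⟨t, rfl⟩⟩
    obtain ⟨k, hk⟩ := hT t
    refine ⟨k, ?_⟩
    apply Subtype.ext
    rw [Subgroup.coe_pow, Subgroup.coe_one, ← map_pow]
    exact MulEquiv.ext hk
  · intro g
    rw [← fix g]
    constructor
    · intro h t
      exact h ⟨MulDistribMulAction.toMulAut T G t, ⟨t, rfl⟩⟩
    · rintro h ⟨_, ⟨t, rfl⟩⟩
      exact h t

end range

section ambient

variable {Γ : Type*} [Group Γ]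

/-- **Glauberman correspondence** inside an ambient group, for a subgroup `T` acting on `G` as a
`p`-group. -/
theorem glauberman_ambient' [Fintype Γ] (G T : Subgroup Γ) [Fintype G]
    (hnorm : ∀ s ∈ T, ∀ g ∈ G, s * g * s⁻¹ ∈ G)
    (p : ℕ) (hp : p.Prime) (hpG : ¬ p ∣ Nat.card G)
    (hT : ∀ t ∈ T, ∃ k : ℕ, ∀ g ∈ G, t ^ p ^ k * g = g * t ^ p ^ k) (C : Subgroup Γ) [Fintype C]
    (hC : C = G ⊓ Subgroup.centralizer (T : Set Γ)) (hCG : C ≤ G) :
    (∀ χ : IrrCharacter G, InvUnder G T χ →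
      ∃! β : IrrCharacter C, ∃ m : ℕ,
        classInner (fun c : C => (χ : G → ℂ) ⟨c, hCG c.2⟩) (β : C → ℂ) = (m : ℂ) ∧ ¬ p ∣ m) ∧
    (∀ χ : IrrCharacter G, InvUnder G T χ →
      ∀ β : IrrCharacter C, ∀ m : ℕ,
        classInner (fun c : C => (χ : G → ℂ) ⟨c, hCG c.2⟩) (β : C → ℂ) = (m : ℂ) →
        ¬ p ∣ m → ((m : ℤ) ≡ 1 [ZMOD p] ∨ (m : ℤ) ≡ -1 [ZMOD p])) ∧
    (∀ χ χ' : IrrCharacter G, InvUnder G T χ → InvUnder G T χ' →
      ∀ β : IrrCharacter C, ∀ m m' : ℕ,
        classInner (fun c : C => (χ : G → ℂ) ⟨c, hCG c.2⟩) (β : C → ℂ) = (m : ℂ) →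
        ¬ p ∣ m → classInner (fun c : C => (χ' : G → ℂ) ⟨c, hCG c.2⟩) (β : C → ℂ) = (m' : ℂ) →
        ¬ p ∣ m' → χ = χ') ∧
    (∀ β : IrrCharacter C, ∃ χ : IrrCharacter G, InvUnder G T χ ∧ ∃ m : ℕ,
        classInner (fun c : C => (χ : G → ℂ) ⟨c, hCG c.2⟩) (β : C → ℂ) = (m : ℂ) ∧ ¬ p ∣ m) := by
  obtain ⟨M, hM⟩ := Helper78.exists_isPModular p hp
  let inst := conjAct G T hnorm
  have S0 : GlSetup p M (MulDistribMulAction.toMulAut T G).range (Subgroup.inclusion hCG) := by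
    apply GlSetup.of_range hM _ hpG (Subgroup.inclusion_injective hCG)
    · intro g
      constructor
      · intro h
        refine ⟨⟨g, ?_⟩, rfl⟩
        rw [hC]
        refine Subgroup.mem_inf.2 ⟨g.2, ?_⟩
        rw [Subgroup.mem_centralizer_iff]
        intro s hs
        have := congrArg Subtype.val (h ⟨s, hs⟩)
        change s * g * s⁻¹ = g at this
        exact mul_inv_eq_iff_eq_mul.1 this
      · rintro ⟨c, rfl⟩ a
        apply Subtype.ext
        change (a : Γ) * c * (a : Γ)⁻¹ = c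
        have hc : (c : Γ) ∈ G ⊓ Subgroup.centralizer (T : Set Γ) := hC ▸ c.2
        have := (Subgroup.mem_centralizer_iff.1 hc.2) a a.2
        rw [this, mul_inv_cancel_right]
    · intro t
      obtain ⟨k, hk⟩ := hT t t.2
      refine ⟨k, fun g => ?_⟩
      apply Subtype.ext
      change ((t ^ p ^ k : T) : Γ) * g * ((t ^ p ^ k : T) : Γ)⁻¹ = g
      rw [Subgroup.coe_pow, hk g g.2, mul_inv_cancel_right]
  have hiff : ∀ χ : G → ℂ, InvUnder G T χ ↔
      ∀ (a : (MulDistribMulAction.toMulAut T G).range) (g : G), χ (a • g) = χ g := by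
    intro χ
    rw [invUnder_iff G T hnorm, range_smul_iff (fun x y => χ x = χ y)]
    rfl
  obtain ⟨h1, h2, h3, h4⟩ := S0.main
  refine ⟨fun χ hχ => h1 χ ((hiff _).1 hχ), fun χ hχ => h2 χ ((hiff _).1 hχ),
    fun χ χ' hχ hχ' => h3 χ χ' ((hiff _).1 hχ) ((hiff _).1 hχ'), fun β => ?_⟩
  obtain ⟨χ, hχ, hm⟩ := h4 β
  exact ⟨χ, (hiff _).2 hχ, hm⟩

end ambient

section count

/-- an equivariant "relation bijection" restricts to a bijection of fixed points -/
theorem card_fixed_eq {A X Y : Type*} [Group A] [MulAction A X] [MulAction A Y]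
    (R : X → Y → Prop) (PX : X → Prop)
    (hR : ∀ (a : A) x y, R x y → R (a • x) (a • y)) (hP : ∀ (a : A) x, PX x → PX (a • x))
    (h1 : ∀ x, PX x → ∃! y, R x y)
    (h3 : ∀ x x' y, PX x → PX x' → R x y → R x' y → x = x') (h4 : ∀ y, ∃ x, PX x ∧ R x y)
    (hI : ∀ x, (∀ a : A, a • x = x) → PX x) :
    Nat.card {x : X // ∀ a : A, a • x = x} = Nat.card {y : Y // ∀ a : A, a • y = y} := by
  classical
  have hex : ∀ x : {x : X // ∀ a : A, a • x = x}, ∃ y, R x.1 y :=
    fun x => (h1 x.1 (hI x.1 x.2)).exists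
  choose f hf using hex
  have hfinv : ∀ x (a : A), a • f x = f x := by
    intro x a
    have h := hR a _ _ (hf x)
    rw [x.2 a] at h
    exact (h1 x.1 (hI x.1 x.2)).unique h (hf x)
  apply Nat.card_congr
  refine Equiv.ofBijective (fun x => ⟨f x, hfinv x⟩) ⟨?_, ?_⟩
  · intro x x' hxx'
    have h : f x = f x' := congrArg Subtype.val hxx'
    apply Subtype.ext
    apply h3 x.1 x'.1 (f x) (hI _ x.2) (hI _ x'.2) (hf x)
    rw [h]
    exact hf x'
  · intro y
    obtain ⟨x, hPx, hRx⟩ := h4 y.1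
    have hxinv : ∀ a : A, a • x = x := by
      intro a
      have h := hR a _ _ hRx
      rw [y.2 a] at h
      exact h3 _ _ _ (hP a x hPx) hPx h hRx
    refine ⟨⟨x, hxinv⟩, ?_⟩
    apply Subtype.ext
    exact (h1 x hPx).unique (hf ⟨x, hxinv⟩) hRx

end count

end Cfsg.Agent.Lib.Helper15
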