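import Cfsg.Agent.Lib.Helper15.Glauberman3
import Cfsg.Agent.Lib.Helper1.MinimalNormal
import Cfsg.Agent.Lib.Helper29.Glauberman

/-!
# Counting invariant characters under a solvable coprime group of operators
-/

set_option autoImplicit false
set_option linter.unusedSectionVars false

namespace Cfsg.Agent.Lib.Helper15

open Cfsg Cfsg.Agent.Lib
open scoped ComplexConjugate

variable {Γ : Type*} [Group Γ]

/-- A solvable group `S` acting nontrivially on `G` has a normal subgroup `T` acting nontrivially and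
as a `p`-group. -/
theorem exists_pAction [Finite Γ] (G S : Subgroup Γ) (hnorm : ∀ s ∈ S, ∀ g ∈ G, s * g * s⁻¹ ∈ G)
    (hsolv : Group.IsSolvable S) (hne : ¬ G ≤ Subgroup.centralizer (S : Set Γ)) :
    ∃ (p : ℕ) (T : Subgroup Γ), p.Prime ∧ p ∣ Nat.card S ∧ T ≤ S ∧
      (∀ s ∈ S, ∀ t ∈ T, s * t * s⁻¹ ∈ T) ∧
      (∀ t ∈ T, ∃ k : ℕ, ∀ g ∈ G, t ^ p ^ k * g = g * t ^ p ^ k) ∧
      ¬ G ≤ Subgroup.centralizer (T : Set Γ) := by
  let inst := conjAct G S hnorm
  let φ : S →* MulAut G := MulDistribMulAction.toMulAut S G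
  have hφ : ∀ (s : S) (g : G), ((φ s g : G) : Γ) = s * g * (s : Γ)⁻¹ := fun s g => rfl
  have hsolvQ : Group.IsSolvable φ.range :=
    Group.isSolvable_of_surjective φ.rangeRestrict_surjective
  have hfinQ : Finite φ.range := Finite.of_surjective _ φ.rangeRestrict_surjective
  have hnt : Nontrivial φ.range := by
    by_contra hcon
    rw [not_nontrivial_iff_subsingleton] at hcon
    apply hne
    intro g hg
    rw [Subgroup.mem_centralizer_iff]
    intro s hs
    have h1 : φ.rangeRestrict ⟨s, hs⟩ = 1 := Subsingleton.elim _ _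
    have h2 : φ ⟨s, hs⟩ = 1 := congrArg Subtype.val h1
    have h3 := hφ ⟨s, hs⟩ ⟨g, hg⟩
    rw [h2] at h3
    exact (mul_inv_eq_iff_eq_mul.1 h3.symm)
  obtain ⟨p, N, hp, hNn, hNne, hNp, -, -⟩ :=
    Helper1.exists_normal_pSubgroup_of_solvable (G := φ.range)
  have : Fact p.Prime := ⟨hp⟩
  let T' : Subgroup S := N.comap φ.rangeRestrict
  have hT'n : T'.Normal := hNn.comap _
  refine ⟨p, T'.map S.subtype, hp, ?_, ?_, ?_, ?_, ?_⟩
  · obtain ⟨n, hn⟩ := IsPGroup.iff_card.1 hNp
    have hn0 : n ≠ 0 := by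
      rintro rfl
      rw [pow_zero] at hn
      exact hNne ((Subgroup.card_eq_one).1 hn)
    have h1 : p ∣ Nat.card N := by rw [hn]; exact dvd_pow_self p hn0
    exact h1.trans ((Subgroup.card_subgroup_dvd_card N).trans (Subgroup.card_range_dvd φ))
  · exact Subgroup.map_subtype_le T'
  · rintro s hs _ ⟨t, ht, rfl⟩
    exact ⟨⟨s, hs⟩ * t * ⟨s, hs⟩⁻¹, hT'n.conj_mem t ht ⟨s, hs⟩, rfl⟩
  · rintro _ ⟨t, ht, rfl⟩
    obtain ⟨k, hk⟩ := hNp ⟨φ.rangeRestrict t, ht⟩
    refine ⟨k, fun g hg => ?_⟩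
    have h1 : φ.rangeRestrict t ^ p ^ k = 1 := congrArg Subtype.val hk
    have h2 : φ (t ^ p ^ k) = 1 := by
      rw [map_pow]
      exact congrArg Subtype.val h1
    have h3 := hφ (t ^ p ^ k) ⟨g, hg⟩
    rw [h2] at h3
    have h4 := mul_inv_eq_iff_eq_mul.1 h3.symm
    simpa using h4
  · intro hle
    apply hNne
    rw [eq_bot_iff]
    intro n hn
    obtain ⟨t, rfl⟩ := φ.rangeRestrict_surjective n
    rw [Subgroup.mem_bot]
    apply Subtype.ext
    change φ t = 1
    apply MulEquiv.ext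
    intro g
    apply Subtype.ext
    rw [hφ]
    have h1 := (Subgroup.mem_centralizer_iff.1 (hle g.2)) t ⟨t, hn, rfl⟩
    rw [h1, mul_inv_cancel_right]
    rfl

theorem invUnder_mono {G S T : Subgroup Γ} (h : T ≤ S) {χ : G → ℂ} (hχ : InvUnder G S χ) :
    InvUnder G T χ := fun s hs => hχ s (h hs)

/-- the fixed points of the action on `IrrCharacter G` are the invariant characters -/
theorem fixed_irr_iff [Finite Γ] (G S : Subgroup Γ) (hnorm : ∀ s ∈ S, ∀ g ∈ G, s * g * s⁻¹ ∈ G)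
    (χ : IrrCharacter G) :
    (∀ a : S, (@irrMulAction S G _ _ _ (conjAct G S hnorm)).smul a χ = χ) ↔
      InvUnder G S (χ : G → ℂ) := by
  let inst := conjAct G S hnorm
  have := Fintype.ofFinite G
  rw [invUnder_iff G S hnorm]
  exact GlSetup.mem_fixedPoints_irr χ

/-- one step: pass from `G` to the centraliser of a normal subgroup `T` of `S` acting as a
`p`-group -/
theorem card_inv_step [Fintype Γ] (G S T B : Subgroup Γ)
    (hnorm : ∀ s ∈ S, ∀ g ∈ G, s * g * s⁻¹ ∈ G) (hTS : T ≤ S)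
    (hTn : ∀ s ∈ S, ∀ t ∈ T, s * t * s⁻¹ ∈ T) (p : ℕ) (hp : p.Prime) (hpG : ¬ p ∣ Nat.card G)
    (hT : ∀ t ∈ T, ∃ k : ℕ, ∀ g ∈ G, t ^ p ^ k * g = g * t ^ p ^ k)
    (hB : B = G ⊓ Subgroup.centralizer (T : Set Γ))
    (hnormB : ∀ s ∈ S, ∀ g ∈ B, s * g * s⁻¹ ∈ B) :
    Nat.card {χ : IrrCharacter G // InvUnder G S (χ : G → ℂ)}
      = Nat.card {β : IrrCharacter B // InvUnder B S (β : B → ℂ)} := by
  classical
  have hBG : B ≤ G := hB ▸ inf_le_left
  let instG := conjAct G S hnorm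
  let instB := conjAct B S hnormB
  let iG := irrMulAction S G
  let iB := irrMulAction S B
  have := Fintype.ofFinite G
  have := Fintype.ofFinite B
  obtain ⟨h1, -, h3, h4⟩ := glauberman_ambient' G T (fun s hs => hnorm s (hTS hs)) p hp hpG hT B hB hBG
  have key := card_fixed_eq (A := S) (X := IrrCharacter G) (Y := IrrCharacter B)
    (fun χ β => ∃ m : ℕ,
        classInner (fun c : B => (χ : G → ℂ) ⟨c, hBG c.2⟩) (β : B → ℂ) = (m : ℂ) ∧ ¬ p ∣ m)
    (fun χ => InvUnder G T (χ : G → ℂ))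
    (by
      rintro a χ β ⟨m, hm, hpm⟩
      refine ⟨m, ?_, hpm⟩
      rw [← hm]
      exact classInner_comp_equiv (MulDistribMulAction.toMulEquiv B a⁻¹)
        (fun c : B => (χ : G → ℂ) ⟨c, hBG c.2⟩) (β : B → ℂ))
    (by
      intro a χ hχ t ht g g' hg'
      change (χ : G → ℂ) (a⁻¹ • g') = (χ : G → ℂ) (a⁻¹ • g)
      apply hχ ((a : Γ)⁻¹ * t * a) (by
        have := hTn (a : Γ)⁻¹ (S.inv_mem a.2) t ht
        rwa [inv_inv] at this)
      change ((a⁻¹ : S) : Γ) * g' * ((a⁻¹ : S) : Γ)⁻¹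
        = (a : Γ)⁻¹ * t * a * (((a⁻¹ : S) : Γ) * g * ((a⁻¹ : S) : Γ)⁻¹) * ((a : Γ)⁻¹ * t * a)⁻¹
      rw [hg']
      simp only [Subgroup.coe_inv]
      group)
    h1
    (by
      rintro χ χ' β hχ hχ' ⟨m, hm, hpm⟩ ⟨m', hm', hpm'⟩
      exact h3 χ χ' hχ hχ' β m m' hm hpm hm' hpm')
    h4
    (by
      intro χ hχ
      exact invUnder_mono hTS ((fixed_irr_iff G S hnorm χ).1 hχ))
  rw [Nat.card_congr (Equiv.subtypeEquivRight (fun χ => (fixed_irr_iff G S hnorm χ).symm)),
    Nat.card_congr (Equiv.subtypeEquivRight (fun χ => (fixed_irr_iff B S hnormB χ).symm))]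
  exact key

/-- **Counting invariant characters**: for a solvable group `S` of operators of coprime order, the
number of `S`-invariant irreducible characters of `G` is the number of irreducible characters of
`C_G(S)`. -/
theorem card_inv_eq [Fintype Γ] (S : Subgroup Γ) (hsolv : Group.IsSolvable S) :
    ∀ (n : ℕ) (G : Subgroup Γ), Nat.card G = n → (∀ s ∈ S, ∀ g ∈ G, s * g * s⁻¹ ∈ G) →
      (Nat.card G).Coprime (Nat.card S) →
      Nat.card {χ : IrrCharacter G // InvUnder G S (χ : G → ℂ)}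
        = Nat.card (IrrCharacter ↥(G ⊓ Subgroup.centralizer (S : Set Γ))) := by
  intro n
  induction n using Nat.strong_induction_on with
  | _ n ih =>
    intro G hn hnorm hcop
    by_cases hcen : G ≤ Subgroup.centralizer (S : Set Γ)
    · rw [inf_eq_left.2 hcen]
      apply Nat.card_congr
      apply Equiv.subtypeUnivEquiv
      intro χ s hs g g' hg'
      have : g' = g := by
        apply Subtype.ext
        rw [hg', (Subgroup.mem_centralizer_iff.1 (hcen g.2)) s hs, mul_inv_cancel_right]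
      rw [this]
    · obtain ⟨p, T, hp, hpS, hTS, hTn, hT, hTne⟩ := exists_pAction G S hnorm hsolv hcen
      have hpG : ¬ p ∣ Nat.card G := by
        intro h
        have := Nat.dvd_gcd h hpS
        rw [hcop] at this
        exact hp.one_lt.ne' (Nat.dvd_one.1 this)
      have hBG : G ⊓ Subgroup.centralizer (T : Set Γ) ≤ G := inf_le_left
      have hnormB : ∀ s ∈ S, ∀ g ∈ G ⊓ Subgroup.centralizer (T : Set Γ),
          s * g * s⁻¹ ∈ G ⊓ Subgroup.centralizer (T : Set Γ) := by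
        intro s hs b hb
        refine Subgroup.mem_inf.2 ⟨hnorm s hs b hb.1, ?_⟩
        rw [Subgroup.mem_centralizer_iff]
        intro t ht
        have ht' : s⁻¹ * t * s ∈ T := by
          have := hTn s⁻¹ (S.inv_mem hs) t ht
          rwa [inv_inv] at this
        have h1 := (Subgroup.mem_centralizer_iff.1 hb.2) _ ht'
        calc t * (s * b * s⁻¹) = s * ((s⁻¹ * t * s) * b) * s⁻¹ := by group
          _ = s * (b * (s⁻¹ * t * s)) * s⁻¹ := by rw [h1]
          _ = s * b * s⁻¹ * t := by group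
      have hlt : Nat.card ↥(G ⊓ Subgroup.centralizer (T : Set Γ)) < n := by
        rw [← hn]
        by_contra hge
        push Not at hge
        have := Subgroup.eq_of_le_of_card_ge hBG hge
        exact hTne (inf_eq_left.1 this)
      have hcopB : (Nat.card ↥(G ⊓ Subgroup.centralizer (T : Set Γ))).Coprime (Nat.card S) :=
        Nat.Coprime.coprime_dvd_left (Subgroup.card_dvd_of_le hBG) hcop
      rw [card_inv_step G S T _ hnorm hTS hTn p hp hpG hT rfl hnormB,
        ih _ hlt _ rfl hnormB hcopB]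
      have hcc : Subgroup.centralizer (S : Set Γ) ≤ Subgroup.centralizer (T : Set Γ) :=
        Subgroup.centralizer_le hTS
      have : G ⊓ Subgroup.centralizer (T : Set Γ) ⊓ Subgroup.centralizer (S : Set Γ)
          = G ⊓ Subgroup.centralizer (S : Set Γ) := by
        rw [inf_assoc, inf_eq_right.2 hcc]
      rw [this]

/-- invariance of a conjugacy class of `G` under `S`, in the shape used in the statements -/
def ClsInv (G S : Subgroup Γ) (K : ConjClasses G) : Prop :=
  ∀ s ∈ S, ∀ g g' : G, (g' : Γ) = s * g * s⁻¹ → ConjClasses.mk g = K → ConjClasses.mk g' = K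

/-- `G` acts on a conjugacy class -/
@[instance_reducible] def clsActG (G : Subgroup Γ) (K : ConjClasses G) :
    MulAction G {x : G // ConjClasses.mk x = K} where
  smul g x := ⟨g * x * g⁻¹, by
    refine Eq.trans ?_ x.2
    rw [ConjClasses.mk_eq_mk_iff_isConj]
    exact (isConj_iff.2 ⟨g, rfl⟩).symm⟩
  one_smul x := Subtype.ext (by
    change (1 : G) * x * (1 : G)⁻¹ = x
    simp)
  mul_smul g h x := Subtype.ext (by
    change (g * h) * x * (g * h)⁻¹ = g * (h * x * h⁻¹) * g⁻¹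
    group)

/-- `S` acts on an invariant conjugacy class -/
@[instance_reducible] def clsActS (G S : Subgroup Γ) (hnorm : ∀ s ∈ S, ∀ g ∈ G, s * g * s⁻¹ ∈ G)
    (K : ConjClasses G) (hK : ClsInv G S K) :
    MulAction S {x : G // ConjClasses.mk x = K} where
  smul s x := ⟨⟨s * x * (s : Γ)⁻¹, hnorm s s.2 x x.1.2⟩, hK s s.2 x.1 _ rfl x.2⟩
  one_smul x := Subtype.ext (Subtype.ext (by
    change ((1 : S) : Γ) * x * ((1 : S) : Γ)⁻¹ = x
    simp))
  mul_smul g h x := Subtype.ext (Subtype.ext (by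
    change ((g * h : S) : Γ) * x * ((g * h : S) : Γ)⁻¹ = g * (h * x * (h : Γ)⁻¹) * (g : Γ)⁻¹
    simp [mul_assoc]))

theorem card_inv_classes [Finite Γ] (G S : Subgroup Γ)
    (hnorm : ∀ s ∈ S, ∀ g ∈ G, s * g * s⁻¹ ∈ G) (hcop : (Nat.card G).Coprime (Nat.card S))
    (hsolv : Group.IsSolvable S) :
    Nat.card {K : ConjClasses G // ClsInv G S K}
      = Nat.card (ConjClasses ↥(G ⊓ Subgroup.centralizer (S : Set Γ))) := by
  have hCG : G ⊓ Subgroup.centralizer (S : Set Γ) ≤ G := inf_le_left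
  have hSN : S ≤ Subgroup.normalizer (G : Set Γ) := by
    intro s hs
    apply Subgroup.mem_normalizer_fintype
    intro g hg
    exact hnorm s hs g hg
  -- the consequences of Glauberman's lemma for an invariant class
  have hgl : ∀ (K : ConjClasses G) (hK : ClsInv G S K),
      (∃ x : G, ConjClasses.mk x = K ∧ (x : Γ) ∈ Subgroup.centralizer (S : Set Γ)) ∧
      ∀ x y : G, ConjClasses.mk x = K → ConjClasses.mk y = K →
        (x : Γ) ∈ Subgroup.centralizer (S : Set Γ) → (y : Γ) ∈ Subgroup.centralizer (S : Set Γ) →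
        ∃ k : G, (k : Γ) ∈ Subgroup.centralizer (S : Set Γ) ∧ k * x * k⁻¹ = y := by
    intro K hK
    let i1 := clsActG G K
    let i2 := clsActS G S hnorm K hK
    have hne : Nonempty {x : G // ConjClasses.mk x = K} := by
      obtain ⟨x, hx⟩ := ConjClasses.exists_rep K
      exact ⟨⟨x, hx⟩⟩
    have hfix : ∀ x : {x : G // ConjClasses.mk x = K},
        (∀ a : S, a • x = x) ↔ ((x : G) : Γ) ∈ Subgroup.centralizer (S : Set Γ) := by
      intro x
      rw [Subgroup.mem_centralizer_iff]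
      constructor
      · intro h s hs
        have := congrArg (fun z : {x : G // ConjClasses.mk x = K} => ((z : G) : Γ)) (h ⟨s, hs⟩)
        change s * x * s⁻¹ = x at this
        exact mul_inv_eq_iff_eq_mul.1 this
      · intro h a
        apply Subtype.ext
        apply Subtype.ext
        change (a : Γ) * x * (a : Γ)⁻¹ = x
        rw [h a a.2, mul_inv_cancel_right]
    obtain ⟨h1, h2⟩ := Helper29.glauberman' S G hSN hcop.symm (Or.inl hsolv)
      (X := {x : G // ConjClasses.mk x = K})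
      (by
        intro a k k' x hk'
        apply Subtype.ext
        apply Subtype.ext
        change (a : Γ) * (k * x * (k : Γ)⁻¹) * (a : Γ)⁻¹
          = k' * (a * x * (a : Γ)⁻¹) * (k' : Γ)⁻¹
        rw [hk']
        group)
      (by
        intro x y
        have h : IsConj (x : G) (y : G) := by
          rw [← ConjClasses.mk_eq_mk_iff_isConj, x.2, y.2]
        obtain ⟨k, hk⟩ := isConj_iff.1 h
        exact ⟨k, Subtype.ext hk⟩)
    constructor
    · obtain ⟨x, hx⟩ := h1
      exact ⟨x.1, x.2, (hfix x).1 hx⟩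
    · intro x y hx hy hxc hyc
      obtain ⟨k, hk, hkxy⟩ := h2 ⟨x, hx⟩ ⟨y, hy⟩ ((hfix ⟨x, hx⟩).2 hxc) ((hfix ⟨y, hy⟩).2 hyc)
      exact ⟨k, hk, congrArg Subtype.val hkxy⟩
  -- classes meeting the centraliser are invariant
  have hinv : ∀ c : ↥(G ⊓ Subgroup.centralizer (S : Set Γ)),
      ClsInv G S (ConjClasses.mk (Subgroup.inclusion hCG c)) := by
    intro c s hs g g' hg' hg
    rw [ConjClasses.mk_eq_mk_iff_isConj] at hg ⊢
    obtain ⟨x, hx⟩ := isConj_iff.1 hg
    rw [isConj_iff]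
    refine ⟨⟨s * x * s⁻¹, hnorm s hs _ x.2⟩, ?_⟩
    apply Subtype.ext
    have hx' : (x : Γ) * g * (x : Γ)⁻¹ = c := congrArg Subtype.val hx
    have hc := (Subgroup.mem_centralizer_iff.1 c.2.2) s hs
    change s * x * s⁻¹ * g' * (s * x * s⁻¹)⁻¹ = c
    rw [hg']
    calc s * x * s⁻¹ * (s * g * s⁻¹) * (s * x * s⁻¹)⁻¹ = s * ((x : Γ) * g * (x : Γ)⁻¹) * s⁻¹ := by
          group
      _ = c := by rw [hx', hc, mul_inv_cancel_right]
  have hinv' : ∀ L : ConjClasses ↥(G ⊓ Subgroup.centralizer (S : Set Γ)),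
      ClsInv G S (ConjClasses.map (Subgroup.inclusion hCG) L) := by
    intro L
    obtain ⟨c, rfl⟩ := ConjClasses.exists_rep L
    exact hinv c
  symm
  apply Nat.card_congr
  refine Equiv.ofBijective (fun L => ⟨ConjClasses.map (Subgroup.inclusion hCG) L, hinv' L⟩) ⟨?_, ?_⟩
  · intro L L' hLL'
    obtain ⟨c, rfl⟩ := ConjClasses.exists_rep L
    obtain ⟨c', rfl⟩ := ConjClasses.exists_rep L'
    have h : ConjClasses.mk (Subgroup.inclusion hCG c') = ConjClasses.mk (Subgroup.inclusion hCG c) :=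
      (congrArg Subtype.val hLL').symm
    obtain ⟨k, hk, hkc⟩ := (hgl _ (hinv c)).2 (Subgroup.inclusion hCG c) (Subgroup.inclusion hCG c')
      rfl h c.2.2 c'.2.2
    rw [ConjClasses.mk_eq_mk_iff_isConj, isConj_iff]
    refine ⟨⟨k, Subgroup.mem_inf.2 ⟨k.2, hk⟩⟩, ?_⟩
    apply Subtype.ext
    exact congrArg (fun z : G => (z : Γ)) hkc
  · rintro ⟨K, hK⟩
    obtain ⟨x, hx, hxc⟩ := (hgl K hK).1
    refine ⟨ConjClasses.mk ⟨x, Subgroup.mem_inf.2 ⟨x.2, hxc⟩⟩, ?_⟩
    apply Subtype.ext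
    exact hx

end Cfsg.Agent.Lib.Helper15
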