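import Cfsg.Agent.Lib.Helper15.Glauberman4
import Cfsg.Agent.Lib.Helper15.Relative

/-!
# Glauberman correspondence and normal subgroups; invariant characters over invariant characters
-/

set_option autoImplicit false
set_option linter.unusedSectionVars false

namespace Cfsg.Agent.Lib.Helper15

open Cfsg Cfsg.Agent.Lib
open scoped ComplexConjugate

section innerNat

variable {X : Type*} [Group X] [Fintype X]

/-- the inner product of two characters as a natural number -/
noncomputable def innerNat (α β : X → ℂ) : ℕ := ⌊(classInner α β).re⌋₊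

theorem innerNat_spec {α β : X → ℂ} (hα : IsCharacter X α) (hβ : IsCharacter X β) :
    classInner α β = innerNat α β := by
  obtain ⟨n, hn⟩ := inner_nat hα hβ
  unfold innerNat
  rw [hn]
  simp

theorem innerNat_eq {α β : X → ℂ} {n : ℕ} (h : classInner α β = n) : innerNat α β = n := by
  unfold innerNat
  rw [h]
  simp

end innerNat

variable {Γ : Type*} [Group Γ]

section tw

variable [Finite Γ]

/-- twisting an irreducible character of `G` by an element of `S` -/
noncomputable def tw (G S : Subgroup Γ) (hnorm : ∀ s ∈ S, ∀ g ∈ G, s * g * s⁻¹ ∈ G) (a : S)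
    (χ : IrrCharacter G) : IrrCharacter G :=
  (@irrMulAction S G _ _ _ (conjAct G S hnorm)).smul a χ

theorem tw_fixed_iff (G S : Subgroup Γ) (hnorm : ∀ s ∈ S, ∀ g ∈ G, s * g * s⁻¹ ∈ G)
    (χ : IrrCharacter G) : (∀ a : S, tw G S hnorm a χ = χ) ↔ InvUnder G S (χ : G → ℂ) :=
  fixed_irr_iff G S hnorm χ

theorem inner_tw {H K : Subgroup Γ} (hHK : H ≤ K) [Fintype H] (S : Subgroup Γ)
    (hnK : ∀ s ∈ S, ∀ g ∈ K, s * g * s⁻¹ ∈ K) (hnH : ∀ s ∈ S, ∀ g ∈ H, s * g * s⁻¹ ∈ H) (a : S)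
    (χ : IrrCharacter K) (β : IrrCharacter H) :
    classInner (resFun hHK (tw K S hnK a χ : K → ℂ)) (tw H S hnH a β : H → ℂ)
      = classInner (resFun hHK (χ : K → ℂ)) (β : H → ℂ) := by
  let instH := conjAct H S hnH
  exact classInner_comp_equiv (MulDistribMulAction.toMulEquiv H a⁻¹)
    (resFun hHK (χ : K → ℂ)) (β : H → ℂ)

theorem invUnder_tw (G S T : Subgroup Γ) (hnorm : ∀ s ∈ S, ∀ g ∈ G, s * g * s⁻¹ ∈ G)
    (hTn : ∀ s ∈ S, ∀ t ∈ T, s * t * s⁻¹ ∈ T) (a : S) {χ : IrrCharacter G}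
    (hχ : InvUnder G T (χ : G → ℂ)) : InvUnder G T (tw G S hnorm a χ : G → ℂ) := by
  let instG := conjAct G S hnorm
  intro t ht g g' hg'
  change (χ : G → ℂ) (a⁻¹ • g') = (χ : G → ℂ) (a⁻¹ • g)
  apply hχ ((a : Γ)⁻¹ * t * a) (by
    have := hTn (a : Γ)⁻¹ (S.inv_mem a.2) t ht
    rwa [inv_inv] at this)
  change ((a⁻¹ : S) : Γ) * g' * ((a⁻¹ : S) : Γ)⁻¹
    = (a : Γ)⁻¹ * t * a * (((a⁻¹ : S) : Γ) * g * ((a⁻¹ : S) : Γ)⁻¹) * ((a : Γ)⁻¹ * t * a)⁻¹
  rw [hg']
  simp only [Subgroup.coe_inv]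
  group

end tw

section expand

theorem inner_res_expand {H K : Subgroup Γ} (hHK : H ≤ K) [Fintype H] [Fintype K] {α : K → ℂ}
    (hα : IsClassFunction K α) (φ : H → ℂ) :
    classInner (resFun hHK α) φ
      = ∑ κ : IrrCharacter K, classInner α (κ : K → ℂ) * classInner (resFun hHK (κ : K → ℂ)) φ := by
  have h : resFun hHK α = ∑ κ : IrrCharacter K,
      classInner α (κ : K → ℂ) • resFun hHK (κ : K → ℂ) := by
    funext x
    have := congrFun (cf_expansion hα) ⟨(x : Γ), hHK x.2⟩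
    rw [resFun_apply, this]
    simp [resFun_apply]
  rw [h, classInner_sum_left]
  apply Finset.sum_congr rfl
  intro κ _
  rw [classInner_smul_left]

theorem innerNat_res_expand {H K : Subgroup Γ} (hHK : H ≤ K) [Fintype H] [Fintype K] {α : K → ℂ}
    (hα : IsCharacter K α) {φ : H → ℂ} (hφ : IsCharacter H φ) :
    innerNat (resFun hHK α) φ
      = ∑ κ : IrrCharacter K, innerNat α (κ : K → ℂ) * innerNat (resFun hHK (κ : K → ℂ)) φ := by
  have h := inner_res_expand hHK (char_cf hα) φ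
  rw [innerNat_spec (char_resFun hHK hα) hφ] at h
  have h2 : ∀ κ : IrrCharacter K,
      classInner α (κ : K → ℂ) * classInner (resFun hHK (κ : K → ℂ)) φ
      = ((innerNat α (κ : K → ℂ) * innerNat (resFun hHK (κ : K → ℂ)) φ : ℕ) : ℂ) := by
    intro κ
    rw [innerNat_spec hα (irr_char κ.2), innerNat_spec (char_resFun hHK (irr_char κ.2)) hφ]
    push_cast
    rfl
  simp_rw [h2] at h
  exact_mod_cast h

end expand

section paction

/-- fixed point principle in characteristic `p` for a group acting *as* a `p`-group -/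
theorem sum_eq_sum_fixed_of_pAction {Δ X A : Type*} [Group Δ] [MulAction Δ X] [Fintype X]
    [AddCommMonoid A] (p : ℕ) [Fact p.Prime] (hΔ : ∀ γ : Δ, ∃ k : ℕ, ∀ x : X, γ ^ p ^ k • x = x)
    (hA : ∀ a : A, p • a = 0) (w : X → A) (hw : ∀ (γ : Δ) (x : X), w (γ • x) = w x)
    [DecidablePred (fun x : X => ∀ γ : Δ, γ • x = x)] :
    ∑ x, w x = ∑ x with (∀ γ : Δ, γ • x = x), w x := by
  classical
  let Q := (MulAction.toPermHom Δ X).range
  have hQ : IsPGroup p Q := by
    rintro ⟨_, ⟨γ, rfl⟩⟩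
    obtain ⟨k, hk⟩ := hΔ γ
    refine ⟨k, ?_⟩
    apply Subtype.ext
    rw [Subgroup.coe_pow, Subgroup.coe_one, ← map_pow]
    exact Equiv.ext hk
  have h := Helper16.sum_eq_sum_fixedPoints (Γ := Q) (X := X) p hQ hA w (by
    rintro ⟨_, ⟨γ, rfl⟩⟩ x
    exact hw γ x)
  rw [h]
  apply Finset.sum_congr _ (fun _ _ => rfl)
  ext x
  simp only [Finset.mem_filter, Finset.mem_univ, true_and, MulAction.mem_fixedPoints]
  constructor
  · intro hx γ
    exact hx ⟨MulAction.toPermHom Δ X γ, ⟨γ, rfl⟩⟩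
  · rintro hx ⟨_, ⟨γ, rfl⟩⟩
    exact hx γ

end paction

section congr

variable [Fintype Γ]

/-- compatibility of the correspondence with subgroups, modulo `p` -/
theorem glauberman_congr (G N T : Subgroup Γ) (hNG : N ≤ G)
    (hnG : ∀ s ∈ T, ∀ g ∈ G, s * g * s⁻¹ ∈ G) (hnN : ∀ s ∈ T, ∀ g ∈ N, s * g * s⁻¹ ∈ N)
    (p : ℕ) (hp : p.Prime) (hpG : ¬ p ∣ Nat.card G)
    (hT : ∀ t ∈ T, ∃ k : ℕ, ∀ g ∈ G, t ^ p ^ k * g = g * t ^ p ^ k)
    (B D : Subgroup Γ) (hB : B = G ⊓ Subgroup.centralizer (T : Set Γ))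
    (hD : D = N ⊓ Subgroup.centralizer (T : Set Γ))
    [Fintype G] [Fintype N] [Fintype B] [Fintype D]
    (hBG : B ≤ G) (hDN : D ≤ N) (hDB : D ≤ B)
    (χ : IrrCharacter G) (hχ : InvUnder G T (χ : G → ℂ)) (β : IrrCharacter B)
    (hβ : ¬ p ∣ innerNat (resFun hBG (χ : G → ℂ)) (β : B → ℂ))
    (ϑ : IrrCharacter N) (hϑ : InvUnder N T (ϑ : N → ℂ)) (φ : IrrCharacter D)
    (hφ : ¬ p ∣ innerNat (resFun hDN (ϑ : N → ℂ)) (φ : D → ℂ)) :
    ((innerNat (resFun hBG (χ : G → ℂ)) (β : B → ℂ)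
        * innerNat (resFun hDB (β : B → ℂ)) (φ : D → ℂ) : ℕ) : ZMod p)
      = ((innerNat (resFun hNG (χ : G → ℂ)) (ϑ : N → ℂ)
        * innerNat (resFun hDN (ϑ : N → ℂ)) (φ : D → ℂ) : ℕ) : ZMod p) := by
  classical
  have : Fact p.Prime := ⟨hp⟩
  have hpN : ¬ p ∣ Nat.card N := fun h => hpG (h.trans (Subgroup.card_dvd_of_le hNG))
  have hTN : ∀ t ∈ T, ∃ k : ℕ, ∀ g ∈ N, t ^ p ^ k * g = g * t ^ p ^ k := by
    intro t ht
    obtain ⟨k, hk⟩ := hT t ht
    exact ⟨k, fun g hg => hk g (hNG hg)⟩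
  obtain ⟨g1, -, -, -⟩ := glauberman_ambient' G T hnG p hp hpG hT B hB hBG
  obtain ⟨-, -, n3, -⟩ := glauberman_ambient' N T hnN p hp hpN hTN D hD hDN
  have hχB := char_resFun hBG (irr_char χ.2)
  have hχN := char_resFun hNG (irr_char χ.2)
  -- first expansion
  have e1 := innerNat_res_expand hDB hχB (irr_char φ.2)
  have e2 := innerNat_res_expand hDN hχN (irr_char φ.2)
  have e12 : resFun hDB (resFun hBG (χ : G → ℂ)) = resFun hDN (resFun hNG (χ : G → ℂ)) := rfl
  rw [e12, e2] at e1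
  have e3 := congrArg (fun n : ℕ => (n : ZMod p)) e1
  simp only [Nat.cast_sum] at e3
  -- the sum over Irr(B)
  have s1 : ∑ κ : IrrCharacter B, ((innerNat (resFun hBG (χ : G → ℂ)) (κ : B → ℂ)
        * innerNat (resFun hDB (κ : B → ℂ)) (φ : D → ℂ) : ℕ) : ZMod p)
      = ((innerNat (resFun hBG (χ : G → ℂ)) (β : B → ℂ)
        * innerNat (resFun hDB (β : B → ℂ)) (φ : D → ℂ) : ℕ) : ZMod p) := by
    apply Finset.sum_eq_single β
    · intro κ _ hκ
      rw [ZMod.natCast_eq_zero_iff]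
      apply Dvd.dvd.mul_right
      by_contra hnd
      apply hκ
      exact (g1 χ hχ).unique ⟨_, innerNat_spec hχB (irr_char κ.2), hnd⟩
        ⟨_, innerNat_spec hχB (irr_char β.2), hβ⟩
    · intro h
      exact absurd (Finset.mem_univ β) h
  -- the sum over Irr(N)
  let instN := conjAct N T hnN
  let iN := irrMulAction T N
  have hnD : ∀ s ∈ T, ∀ g ∈ D, s * g * s⁻¹ ∈ D := by
    intro s hs g hg
    have hg' : g ∈ N ⊓ Subgroup.centralizer (T : Set Γ) := hD ▸ hg
    rw [(Subgroup.mem_centralizer_iff.1 hg'.2) s hs, mul_inv_cancel_right]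
    exact hg
  have hφinv : InvUnder D T (φ : D → ℂ) := by
    intro s hs g g' hg'
    have hg : (g : Γ) ∈ N ⊓ Subgroup.centralizer (T : Set Γ) := hD ▸ g.2
    have : g' = g := by
      apply Subtype.ext
      rw [hg', (Subgroup.mem_centralizer_iff.1 hg.2) s hs, mul_inv_cancel_right]
    rw [this]
  have s2 := sum_eq_sum_fixed_of_pAction (Δ := T) (X := IrrCharacter N) (A := ZMod p) p
    (by
      intro t
      obtain ⟨k, hk⟩ := hTN t t.2
      refine ⟨k, fun κ => ?_⟩
      apply Subtype.ext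
      funext n
      change (κ : N → ℂ) ((t ^ p ^ k)⁻¹ • n) = (κ : N → ℂ) n
      have : (t ^ p ^ k)⁻¹ • n = n := by
        apply Subtype.ext
        change (((t ^ p ^ k)⁻¹ : T) : Γ) * n * (((t ^ p ^ k)⁻¹ : T) : Γ)⁻¹ = n
        simp only [Subgroup.coe_inv, Subgroup.coe_pow, inv_inv]
        rw [mul_assoc, ← hk n n.2, inv_mul_cancel_left]
      rw [this])
    (by
      intro a
      simp)
    (fun κ => ((innerNat (resFun hNG (χ : G → ℂ)) (κ : N → ℂ)
        * innerNat (resFun hDN (κ : N → ℂ)) (φ : D → ℂ) : ℕ) : ZMod p))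
    (by
      intro a κ
      have h1 : innerNat (resFun hNG (χ : G → ℂ)) ((a • κ : IrrCharacter N) : N → ℂ)
          = innerNat (resFun hNG (χ : G → ℂ)) (κ : N → ℂ) := by
        have hh := inner_tw hNG T hnG hnN a χ κ
        rw [(tw_fixed_iff G T hnG χ).2 hχ a] at hh
        unfold innerNat
        exact congrArg (fun z : ℂ => ⌊z.re⌋₊) hh
      have h2 : innerNat (resFun hDN ((a • κ : IrrCharacter N) : N → ℂ)) (φ : D → ℂ)
          = innerNat (resFun hDN (κ : N → ℂ)) (φ : D → ℂ) := by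
        have hh := inner_tw hDN T hnN hnD a κ φ
        rw [(tw_fixed_iff D T hnD φ).2 hφinv a] at hh
        unfold innerNat
        exact congrArg (fun z : ℂ => ⌊z.re⌋₊) hh
      simp only [h1, h2])
  have s3 : ∑ κ : IrrCharacter N with (∀ γ : T, γ • κ = κ),
      ((innerNat (resFun hNG (χ : G → ℂ)) (κ : N → ℂ)
        * innerNat (resFun hDN (κ : N → ℂ)) (φ : D → ℂ) : ℕ) : ZMod p)
      = ((innerNat (resFun hNG (χ : G → ℂ)) (ϑ : N → ℂ)
        * innerNat (resFun hDN (ϑ : N → ℂ)) (φ : D → ℂ) : ℕ) : ZMod p) := by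
    apply Finset.sum_eq_single ϑ
    · intro κ hκ hne
      rw [Finset.mem_filter] at hκ
      have hκinv : InvUnder N T (κ : N → ℂ) := (tw_fixed_iff N T hnN κ).1 hκ.2
      rw [ZMod.natCast_eq_zero_iff]
      apply Dvd.dvd.mul_left
      by_contra hnd
      apply hne
      exact n3 κ ϑ hκinv hϑ φ _ _ (innerNat_spec (char_resFun hDN (irr_char κ.2)) (irr_char φ.2)) hnd
        (innerNat_spec (char_resFun hDN (irr_char ϑ.2)) (irr_char φ.2)) hφ
    · intro h
      exfalso
      apply h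
      rw [Finset.mem_filter]
      exact ⟨Finset.mem_univ _, (tw_fixed_iff N T hnN ϑ).2 hϑ⟩
  rw [← s1, ← s3, ← s2]
  exact e3.symm

end congr

section degree

/-- the ramification index divides the degree -/
theorem ramification_dvd_degree {X : Type*} [Group X] [Fintype X] (N : Subgroup X) [N.Normal]
    [Fintype N] {χ : X → ℂ} (hχ : IsIrrCharacter X χ) {θ : N → ℂ} (hθ : IsIrrCharacter N θ)
    (h1 : classInner (fun n : N => χ n) θ ≠ 0) :
    innerNat (fun n : N => χ n) θ ∣ charDegree χ := by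
  classical
  have h := congrFun (clifford_theorem N hχ hθ h1) 1
  rw [innerNat_spec (char_restrict (irr_char hχ) N) (irr_char hθ)] at h
  simp only [Pi.smul_apply, Finset.sum_apply, smul_eq_mul, Subgroup.coe_one] at h
  rw [Helper80.char_one_eq_charDegree (irr_char hχ)] at h
  have h2 : ∑ φ ∈ Finset.univ.image (fun g : X => cj N g θ), φ 1
      = ((∑ φ ∈ Finset.univ.image (fun g : X => cj N g θ), charDegree φ : ℕ) : ℂ) := by
    push_cast
    apply Finset.sum_congr rfl
    intro φ hφ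
    obtain ⟨g, -, rfl⟩ := Finset.mem_image.1 hφ
    exact Helper80.char_one_eq_charDegree (irr_char (irr_cj N g hθ))
  rw [h2] at h
  refine ⟨∑ φ ∈ Finset.univ.image (fun g : X => cj N g θ), charDegree φ, ?_⟩
  exact_mod_cast h

variable [Fintype Γ]

theorem ramification_dvd_degree_ambient {D B : Subgroup Γ} (hDB : D ≤ B)
    (hn : ∀ b ∈ B, ∀ d ∈ D, b * d * b⁻¹ ∈ D) [Fintype D] [Fintype B] (β : IrrCharacter B)
    (φ : IrrCharacter D) (h1 : classInner (resFun hDB (β : B → ℂ)) (φ : D → ℂ) ≠ 0) :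
    innerNat (resFun hDB (β : B → ℂ)) (φ : D → ℂ) ∣ charDegree (β : B → ℂ) := by
  have hnormal : (D.subgroupOf B).Normal := by
    constructor
    intro d hd b
    rw [Subgroup.mem_subgroupOf] at hd ⊢
    exact hn b b.2 d hd
  have := Fintype.ofFinite (D.subgroupOf B)
  have e : classInner (fun n : D.subgroupOf B => (β : B → ℂ) n) (downFun D B (φ : D → ℂ))
      = classInner (resFun hDB (β : B → ℂ)) (φ : D → ℂ) := by
    rw [← downFun_resFun hDB, classInner_downFun hDB]
  have h := ramification_dvd_degree (D.subgroupOf B) β.2 (irr_downFun hDB φ.2) (by rw [e]; exact h1)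
  unfold innerNat at h ⊢
  rw [e] at h
  exact h

theorem exists_irr_over {N G : Subgroup Γ} (hNG : N ≤ G) [Fintype N] [Fintype G]
    (ϑ : IrrCharacter N) :
    ∃ χ : IrrCharacter G, classInner (resFun hNG (χ : G → ℂ)) (ϑ : N → ℂ) ≠ 0 := by
  have := Fintype.ofFinite (N.subgroupOf G)
  have hirr := irr_downFun hNG ϑ.2
  obtain ⟨χ, hχ, hne⟩ := exists_constituent (char_indFun (N.subgroupOf G) (irr_char hirr))
    (indFun_ne_zero_of_irr (N.subgroupOf G) hirr)
  refine ⟨⟨χ, hχ⟩, ?_⟩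
  rw [classInner_indFun_downFun_left hNG _ _ (irr_cf hχ)] at hne
  rw [inner_comm_of_char (char_resFun hNG (irr_char hχ)) (irr_char ϑ.2)]
  exact hne

end degree

section main

variable [Fintype Γ]

/-- **Isaacs 13.31 (solvable operators).** An invariant irreducible character of an invariant normal
subgroup lies under an invariant irreducible character. -/
theorem exists_invariant_over (S : Subgroup Γ) (hsolv : Group.IsSolvable S) :
    ∀ (n : ℕ) (G N : Subgroup Γ), Nat.card G = n → ∀ (hNG : N ≤ G),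
      (∀ g ∈ G, ∀ x ∈ N, g * x * g⁻¹ ∈ N) →
      (∀ s ∈ S, ∀ g ∈ G, s * g * s⁻¹ ∈ G) → (∀ s ∈ S, ∀ g ∈ N, s * g * s⁻¹ ∈ N) →
      (Nat.card G).Coprime (Nat.card S) → ∀ [Fintype G] [Fintype N] (ϑ : IrrCharacter N),
      InvUnder N S (ϑ : N → ℂ) →
      ∃ χ : IrrCharacter G, classInner (resFun hNG (χ : G → ℂ)) (ϑ : N → ℂ) ≠ 0 ∧
        InvUnder G S (χ : G → ℂ) := by
  intro n
  induction n using Nat.strong_induction_on with
  | _ n ih =>
    intro G N hn hNG hNn hnG hnN hcop _ _ ϑ hϑ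
    by_cases hcen : G ≤ Subgroup.centralizer (S : Set Γ)
    · obtain ⟨χ, hχ⟩ := exists_irr_over hNG ϑ
      refine ⟨χ, hχ, ?_⟩
      intro s hs g g' hg'
      have : g' = g := by
        apply Subtype.ext
        rw [hg', (Subgroup.mem_centralizer_iff.1 (hcen g.2)) s hs, mul_inv_cancel_right]
      rw [this]
    · obtain ⟨p, T, hp, hpS, hTS, hTn, hT, hTne⟩ := exists_pAction G S hnG hsolv hcen
      have hpG : ¬ p ∣ Nat.card G := by
        intro h
        have := Nat.dvd_gcd h hpS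
        rw [hcop] at this
        exact hp.one_lt.ne' (Nat.dvd_one.1 this)
      have hpN : ¬ p ∣ Nat.card N := fun h => hpG (h.trans (Subgroup.card_dvd_of_le hNG))
      have hTN : ∀ t ∈ T, ∃ k : ℕ, ∀ g ∈ N, t ^ p ^ k * g = g * t ^ p ^ k := by
        intro t ht
        obtain ⟨k, hk⟩ := hT t ht
        exact ⟨k, fun g hg => hk g (hNG hg)⟩
      -- the subgroups B and D
      obtain ⟨B, hB⟩ : ∃ B, B = G ⊓ Subgroup.centralizer (T : Set Γ) := ⟨_, rfl⟩
      obtain ⟨D, hD⟩ : ∃ D, D = N ⊓ Subgroup.centralizer (T : Set Γ) := ⟨_, rfl⟩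
      have hBG : B ≤ G := hB ▸ inf_le_left
      have hDN : D ≤ N := hD ▸ inf_le_left
      have hDB : D ≤ B := by
        rw [hB, hD]
        exact inf_le_inf_right _ hNG
      have hcentS : ∀ s ∈ S, ∀ b ∈ Subgroup.centralizer (T : Set Γ),
          s * b * s⁻¹ ∈ Subgroup.centralizer (T : Set Γ) := by
        intro s hs b hb
        rw [Subgroup.mem_centralizer_iff]
        intro t ht
        have ht' : s⁻¹ * t * s ∈ T := by
          have := hTn s⁻¹ (S.inv_mem hs) t ht
          rwa [inv_inv] at this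
        have h1 := (Subgroup.mem_centralizer_iff.1 hb) _ ht'
        calc t * (s * b * s⁻¹) = s * ((s⁻¹ * t * s) * b) * s⁻¹ := by group
          _ = s * (b * (s⁻¹ * t * s)) * s⁻¹ := by rw [h1]
          _ = s * b * s⁻¹ * t := by group
      have hnB : ∀ s ∈ S, ∀ g ∈ B, s * g * s⁻¹ ∈ B := by
        intro s hs b hb
        rw [hB] at hb ⊢
        exact Subgroup.mem_inf.2 ⟨hnG s hs b hb.1, hcentS s hs b hb.2⟩
      have hnD : ∀ s ∈ S, ∀ g ∈ D, s * g * s⁻¹ ∈ D := by
        intro s hs b hb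
        rw [hD] at hb ⊢
        exact Subgroup.mem_inf.2 ⟨hnN s hs b hb.1, hcentS s hs b hb.2⟩
      have hDn : ∀ g ∈ B, ∀ x ∈ D, g * x * g⁻¹ ∈ D := by
        intro g hg x hx
        rw [hB] at hg
        rw [hD] at hx ⊢
        exact Subgroup.mem_inf.2 ⟨hNn g hg.1 x hx.1,
          Subgroup.mul_mem _ (Subgroup.mul_mem _ hg.2 hx.2) (Subgroup.inv_mem _ hg.2)⟩
      have hlt : Nat.card B < n := by
        rw [← hn]
        by_contra hge
        push Not at hge
        have := Subgroup.eq_of_le_of_card_ge hBG hge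
        rw [hB] at this
        exact hTne (inf_eq_left.1 this)
      have hcopB : (Nat.card B).Coprime (Nat.card S) :=
        Nat.Coprime.coprime_dvd_left (Subgroup.card_dvd_of_le hBG) hcop
      have := Fintype.ofFinite B
      have := Fintype.ofFinite D
      have hnGT : ∀ s ∈ T, ∀ g ∈ G, s * g * s⁻¹ ∈ G := fun s hs => hnG s (hTS hs)
      have hnNT : ∀ s ∈ T, ∀ g ∈ N, s * g * s⁻¹ ∈ N := fun s hs => hnN s (hTS hs)
      obtain ⟨-, -, g3, g4⟩ := glauberman_ambient' G T hnGT p hp hpG hT B hB hBG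
      obtain ⟨n1, -, -, -⟩ := glauberman_ambient' N T hnNT p hp hpN hTN D hD hDN
      -- the correspondent of ϑ
      obtain ⟨φ, ⟨m', hm', hpm'⟩, hφuniq⟩ := n1 ϑ (invUnder_mono hTS hϑ)
      have hφS : InvUnder D S (φ : D → ℂ) := by
        rw [← tw_fixed_iff D S hnD]
        intro a
        apply hφuniq
        refine ⟨m', ?_, hpm'⟩
        have h := inner_tw hDN S hnN hnD a ϑ φ
        rw [(tw_fixed_iff N S hnN ϑ).2 hϑ a] at h
        exact h.trans hm'
      obtain ⟨β, hβφ, hβS⟩ := ih _ hlt B D rfl hDB hDn hnB hnD hcopB φ hφS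
      obtain ⟨χ, hχT, m, hm, hpm⟩ := g4 β
      have hχS : InvUnder G S (χ : G → ℂ) := by
        rw [← tw_fixed_iff G S hnG]
        intro a
        apply g3 _ _ (invUnder_tw G S T hnG hTn a hχT) hχT β m m _ hpm hm hpm
        have h := inner_tw hBG S hnG hnB a χ β
        rw [(tw_fixed_iff B S hnB β).2 hβS a] at h
        exact h.trans hm
      refine ⟨χ, ?_, hχS⟩
      have em : innerNat (resFun hBG (χ : G → ℂ)) (β : B → ℂ) = m := innerNat_eq hm
      have em' : innerNat (resFun hDN (ϑ : N → ℂ)) (φ : D → ℂ) = m' := innerNat_eq hm'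
      have hc := glauberman_congr G N T hNG hnGT hnNT p hp hpG hT B D hB hD hBG hDN hDB χ hχT β
        (by rw [em]; exact hpm) ϑ (invUnder_mono hTS hϑ) φ
        (by rw [em']; exact hpm')
      intro h0
      have h0' : innerNat (resFun hNG (χ : G → ℂ)) (ϑ : N → ℂ) = 0 :=
        innerNat_eq (by rw [h0]; simp)
      rw [h0', zero_mul, Nat.cast_zero, ZMod.natCast_eq_zero_iff, em] at hc
      rcases (Nat.Prime.dvd_mul hp).1 hc with h | h
      · exact hpm h
      · have hd := ramification_dvd_degree_ambient hDB hDn β φ hβφ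
        have hpB : p ∣ Nat.card B := (h.trans hd).trans (Helper78.irr_charDegree_dvd_card β)
        exact hpG (hpB.trans (Subgroup.card_dvd_of_le hBG))

end main

end Cfsg.Agent.Lib.Helper15
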