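import Cfsg.Agent.Lib.Helper15.Glauberman4
import Cfsg.Agent.Lib.Helper81.BrauerPerm
import Cfsg.Agent.S0160

/-!
# Real characters and real classes under a coprime `p`-group action
-/

set_option autoImplicit false
set_option linter.unusedSectionVars false

namespace Cfsg.Agent.Lib.Helper15

open Cfsg Cfsg.Agent.Lib
open scoped ComplexConjugate

/-- a "relation bijection" commuting with self-maps restricts to a bijection of fixed points -/
theorem card_sigma_fixed_eq {X Y : Type*} (R : X → Y → Prop) (PX : X → Prop) (σX : X → X)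
    (σY : Y → Y) (hR : ∀ x y, R x y → R (σX x) (σY y)) (hP : ∀ x, PX x → PX (σX x))
    (h1 : ∀ x, PX x → ∃! y, R x y)
    (h3 : ∀ x x' y, PX x → PX x' → R x y → R x' y → x = x') (h4 : ∀ y, ∃ x, PX x ∧ R x y) :
    Nat.card {x : X // σX x = x ∧ PX x} = Nat.card {y : Y // σY y = y} := by
  have hex : ∀ x : {x : X // σX x = x ∧ PX x}, ∃ y, R x.1 y := fun x => (h1 x.1 x.2.2).exists
  choose f hf using hex
  have hfix : ∀ x, σY (f x) = f x := by
    intro x
    have h := hR _ _ (hf x)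
    rw [x.2.1] at h
    exact (h1 x.1 x.2.2).unique h (hf x)
  apply Nat.card_congr
  refine Equiv.ofBijective (fun x => ⟨f x, hfix x⟩) ⟨?_, ?_⟩
  · intro x x' h
    have h' : f x = f x' := congrArg Subtype.val h
    apply Subtype.ext
    exact h3 _ _ _ x.2.2 x'.2.2 (hf x) (h' ▸ hf x')
  · rintro ⟨y, hy⟩
    obtain ⟨x, hx, hxy⟩ := h4 y
    have h := hR _ _ hxy
    rw [hy] at h
    have hxx : σX x = x := h3 _ _ _ (hP x hx) hx h hxy
    refine ⟨⟨x, hxx, hx⟩, ?_⟩
    apply Subtype.ext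
    exact (h1 x hx).unique (hf ⟨x, hxx, hx⟩) hxy

section ambient

variable {Γ : Type*} [Group Γ]

/-- Glauberman's lemma for an invariant conjugacy class -/
theorem cls_glauberman [Finite Γ] (G S : Subgroup Γ)
    (hnorm : ∀ s ∈ S, ∀ g ∈ G, s * g * s⁻¹ ∈ G) (hcop : (Nat.card G).Coprime (Nat.card S))
    (hsolv : Group.IsSolvable S) (K : ConjClasses G) (hK : ClsInv G S K) :
    (∃ x : G, ConjClasses.mk x = K ∧ (x : Γ) ∈ Subgroup.centralizer (S : Set Γ)) ∧
      ∀ x y : G, ConjClasses.mk x = K → ConjClasses.mk y = K →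
        (x : Γ) ∈ Subgroup.centralizer (S : Set Γ) → (y : Γ) ∈ Subgroup.centralizer (S : Set Γ) →
        ∃ k : G, (k : Γ) ∈ Subgroup.centralizer (S : Set Γ) ∧ k * x * k⁻¹ = y := by
  have hSN : S ≤ Subgroup.normalizer (G : Set Γ) := by
    intro s hs
    apply Subgroup.mem_normalizer_fintype
    intro g hg
    exact hnorm s hs g hg
  let i1 := clsActG G K
  let i2 := clsActS G S hnorm K hK
  have hne : Nonempty {x : G // ConjClasses.mk x = K} := by
    obtain ⟨x, hx⟩ := ConjClasses.exists_rep K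
    exact ⟨⟨x, hx⟩⟩
  have hfix : ∀ x : {x : G // ConjClasses.mk x = K},
      (∀ a : S, a • x = x) ↔ ((x : G) : Γ) ∈ Subgroup.centralizer (S : Set Γ) := by
    intro x
    rw [Subgroup.mem_centralizer_iff]
    constructor
    · intro h s hs
      have := congrArg (fun z : {x : G // ConjClasses.mk x = K} => ((z : G) : Γ)) (h ⟨s, hs⟩)
      change s * x * s⁻¹ = x at this
      exact mul_inv_eq_iff_eq_mul.1 this
    · intro h a
      apply Subtype.ext
      apply Subtype.ext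
      change (a : Γ) * x * (a : Γ)⁻¹ = x
      rw [h a a.2, mul_inv_cancel_right]
  obtain ⟨h1, h2⟩ := Helper29.glauberman' S G hSN hcop.symm (Or.inl hsolv)
    (X := {x : G // ConjClasses.mk x = K})
    (by
      intro a k k' x hk'
      apply Subtype.ext
      apply Subtype.ext
      change (a : Γ) * (k * x * (k : Γ)⁻¹) * (a : Γ)⁻¹
        = k' * (a * x * (a : Γ)⁻¹) * (k' : Γ)⁻¹
      rw [hk']
      group)
    (by
      intro x y
      have h : IsConj (x : G) (y : G) := by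
        rw [← ConjClasses.mk_eq_mk_iff_isConj, x.2, y.2]
      obtain ⟨k, hk⟩ := isConj_iff.1 h
      exact ⟨k, Subtype.ext hk⟩)
  constructor
  · obtain ⟨x, hx⟩ := h1
    exact ⟨x.1, x.2, (hfix x).1 hx⟩
  · intro x y hx hy hxc hyc
    obtain ⟨k, hk, hkxy⟩ := h2 ⟨x, hx⟩ ⟨y, hy⟩ ((hfix ⟨x, hx⟩).2 hxc) ((hfix ⟨y, hy⟩).2 hyc)
    exact ⟨k, hk, congrArg Subtype.val hkxy⟩

/-- classes meeting the centraliser are invariant -/
theorem clsInv_of_centralizer (G S : Subgroup Γ)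
    (hnorm : ∀ s ∈ S, ∀ g ∈ G, s * g * s⁻¹ ∈ G) (c : G)
    (hc : (c : Γ) ∈ Subgroup.centralizer (S : Set Γ)) : ClsInv G S (ConjClasses.mk c) := by
  intro s hs g g' hg' hg
  rw [ConjClasses.mk_eq_mk_iff_isConj] at hg ⊢
  obtain ⟨x, hx⟩ := isConj_iff.1 hg
  rw [isConj_iff]
  refine ⟨⟨s * x * s⁻¹, hnorm s hs _ x.2⟩, ?_⟩
  apply Subtype.ext
  have hx' : (x : Γ) * g * (x : Γ)⁻¹ = c := congrArg Subtype.val hx
  have hc := (Subgroup.mem_centralizer_iff.1 hc) s hs
  change s * x * s⁻¹ * g' * (s * x * s⁻¹)⁻¹ = c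
  rw [hg']
  calc s * x * s⁻¹ * (s * g * s⁻¹) * (s * x * s⁻¹)⁻¹ = s * ((x : Γ) * g * (x : Γ)⁻¹) * s⁻¹ := by
        group
    _ = c := by rw [hx', hc, mul_inv_cancel_right]

/-- real invariant classes of `G` and real classes of the centraliser -/
theorem card_real_inv_classes [Finite Γ] (G S : Subgroup Γ)
    (hnorm : ∀ s ∈ S, ∀ g ∈ G, s * g * s⁻¹ ∈ G) (hcop : (Nat.card G).Coprime (Nat.card S))
    (hsolv : Group.IsSolvable S) :
    Nat.card {K : ConjClasses G // (∀ g : G, ConjClasses.mk g = K → IsConj g g⁻¹) ∧ ClsInv G S K}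
      = Nat.card {L : ConjClasses ↥(G ⊓ Subgroup.centralizer (S : Set Γ)) //
          ∀ c, ConjClasses.mk c = L → IsConj c c⁻¹} := by
  have hCG : G ⊓ Subgroup.centralizer (S : Set Γ) ≤ G := inf_le_left
  have hgl := cls_glauberman G S hnorm hcop hsolv
  have hinv : ∀ c : ↥(G ⊓ Subgroup.centralizer (S : Set Γ)),
      ClsInv G S (ConjClasses.mk (Subgroup.inclusion hCG c)) :=
    fun c => clsInv_of_centralizer G S hnorm _ c.2.2
  -- fusion is controlled
  have hfus : ∀ c c' : ↥(G ⊓ Subgroup.centralizer (S : Set Γ)),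
      IsConj (Subgroup.inclusion hCG c) (Subgroup.inclusion hCG c') → IsConj c c' := by
    intro c c' h
    obtain ⟨k, hk, hkc⟩ := (hgl _ (hinv c)).2 (Subgroup.inclusion hCG c) (Subgroup.inclusion hCG c')
      rfl (ConjClasses.mk_eq_mk_iff_isConj.2 h.symm) c.2.2 c'.2.2
    rw [isConj_iff]
    refine ⟨⟨k, Subgroup.mem_inf.2 ⟨k.2, hk⟩⟩, ?_⟩
    apply Subtype.ext
    exact congrArg (fun z : G => (z : Γ)) hkc
  symm
  apply Nat.card_congr
  refine Equiv.ofBijective (fun L => ⟨ConjClasses.map (Subgroup.inclusion hCG) L.1, ?_, ?_⟩)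
    ⟨?_, ?_⟩
  · obtain ⟨L, hL⟩ := L
    obtain ⟨c, rfl⟩ := ConjClasses.exists_rep L
    intro g hg
    have h1 : IsConj g (Subgroup.inclusion hCG c) := ConjClasses.mk_eq_mk_iff_isConj.1 hg
    have h2 : IsConj (Subgroup.inclusion hCG c) (Subgroup.inclusion hCG c)⁻¹ := by
      obtain ⟨k, hk⟩ := isConj_iff.1 (hL c rfl)
      rw [isConj_iff]
      refine ⟨Subgroup.inclusion hCG k, ?_⟩
      rw [← map_inv, ← map_mul, ← map_mul, hk, map_inv]
    have h3 : IsConj (Subgroup.inclusion hCG c)⁻¹ g⁻¹ := by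
      obtain ⟨k, hk⟩ := isConj_iff.1 h1.symm
      rw [isConj_iff]
      exact ⟨k, by rw [← hk]; group⟩
    exact (h1.trans h2).trans h3
  · obtain ⟨L, hL⟩ := L
    obtain ⟨c, rfl⟩ := ConjClasses.exists_rep L
    exact hinv c
  · rintro ⟨L, hL⟩ ⟨L', hL'⟩ hLL'
    obtain ⟨c, rfl⟩ := ConjClasses.exists_rep L
    obtain ⟨c', rfl⟩ := ConjClasses.exists_rep L'
    have h : ConjClasses.mk (Subgroup.inclusion hCG c) = ConjClasses.mk (Subgroup.inclusion hCG c') :=
      congrArg Subtype.val hLL'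
    apply Subtype.ext
    exact ConjClasses.mk_eq_mk_iff_isConj.2 (hfus c c' (ConjClasses.mk_eq_mk_iff_isConj.1 h))
  · rintro ⟨K, hKr, hK⟩
    obtain ⟨x, hx, hxc⟩ := (hgl K hK).1
    refine ⟨⟨ConjClasses.mk ⟨x, Subgroup.mem_inf.2 ⟨x.2, hxc⟩⟩, ?_⟩, ?_⟩
    · intro c hc
      have h1 : IsConj c ⟨x, Subgroup.mem_inf.2 ⟨x.2, hxc⟩⟩ := ConjClasses.mk_eq_mk_iff_isConj.1 hc
      have h2 : IsConj (⟨x, Subgroup.mem_inf.2 ⟨x.2, hxc⟩⟩ : ↥(G ⊓ Subgroup.centralizer (S : Set Γ)))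
          (⟨x, Subgroup.mem_inf.2 ⟨x.2, hxc⟩⟩ : ↥(G ⊓ Subgroup.centralizer (S : Set Γ)))⁻¹ := by
        apply hfus
        exact hKr x hx
      have h3 : IsConj (⟨x, Subgroup.mem_inf.2 ⟨x.2, hxc⟩⟩ :
          ↥(G ⊓ Subgroup.centralizer (S : Set Γ)))⁻¹ c⁻¹ := by
        obtain ⟨k, hk⟩ := isConj_iff.1 h1.symm
        rw [isConj_iff]
        exact ⟨k, by rw [← hk]; group⟩
      exact (h1.trans h2).trans h3
    · apply Subtype.ext
      exact hx

/-- the complex conjugate of an irreducible character -/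
noncomputable def starIrr {X : Type*} [Group X] [Finite X] (χ : IrrCharacter X) : IrrCharacter X :=
  ⟨fun g => conj ((χ : X → ℂ) g), Helper81.IsIrrCharacter.star χ.2⟩

theorem starIrr_eq_iff {X : Type*} [Group X] [Finite X] (χ : IrrCharacter X) :
    starIrr χ = χ ↔ ∀ g : X, ((χ : X → ℂ) g).im = 0 := by
  constructor
  · intro h1 g
    exact Complex.conj_eq_iff_im.1 (congrFun (congrArg Subtype.val h1) g)
  · intro h1
    apply Subtype.ext
    funext g
    exact Complex.conj_eq_iff_im.2 (h1 g)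

theorem classInner_conj_conj {X : Type*} [Group X] [Fintype X] (f g : X → ℂ) :
    classInner (fun x => conj (f x)) (fun x => conj (g x)) = conj (classInner f g) := by
  unfold classInner
  rw [map_mul, map_inv₀, Complex.conj_natCast, map_sum]
  congr 1
  apply Finset.sum_congr rfl
  intro x _
  rw [map_mul]

/-- real invariant characters of `G` and real characters of the centraliser -/
theorem card_real_inv_chars [Finite Γ] (G S : Subgroup Γ)
    (hnorm : ∀ s ∈ S, ∀ g ∈ G, s * g * s⁻¹ ∈ G) (hcop : (Nat.card G).Coprime (Nat.card S))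
    (p : ℕ) (hp : p.Prime) (hS : IsPGroup p S) :
    Nat.card {χ : IrrCharacter G // (∀ g : G, ((χ : G → ℂ) g).im = 0) ∧ InvUnder G S χ}
      = Nat.card {β : IrrCharacter ↥(G ⊓ Subgroup.centralizer (S : Set Γ)) //
          ∀ c, ((β : ↥(G ⊓ Subgroup.centralizer (S : Set Γ)) → ℂ) c).im = 0} := by
  classical
  have := Fintype.ofFinite Γ
  have hCG : G ⊓ Subgroup.centralizer (S : Set Γ) ≤ G := inf_le_left
  obtain ⟨h1, -, h3, h4⟩ := glauberman_ambient G S hnorm hcop p hp hS _ rfl hCG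
  have key := card_sigma_fixed_eq
    (fun (χ : IrrCharacter G) (β : IrrCharacter ↥(G ⊓ Subgroup.centralizer (S : Set Γ))) =>
      ∃ m : ℕ, classInner (fun c : ↥(G ⊓ Subgroup.centralizer (S : Set Γ)) =>
        (χ : G → ℂ) ⟨c, hCG c.2⟩) (β : ↥(G ⊓ Subgroup.centralizer (S : Set Γ)) → ℂ) = (m : ℂ)
        ∧ ¬ p ∣ m)
    (fun χ => InvUnder G S χ) starIrr starIrr
    (by
      rintro χ β ⟨m, hm, hpm⟩
      refine ⟨m, ?_, hpm⟩
      change classInner (fun c : ↥(G ⊓ Subgroup.centralizer (S : Set Γ)) =>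
        conj ((χ : G → ℂ) ⟨c, hCG c.2⟩)) (fun c => conj
          ((β : ↥(G ⊓ Subgroup.centralizer (S : Set Γ)) → ℂ) c)) = _
      rw [classInner_conj_conj, hm, Complex.conj_natCast])
    (by
      intro χ hχ s hs g g' hg'
      change conj ((χ : G → ℂ) g') = conj ((χ : G → ℂ) g)
      rw [hχ s hs g g' hg'])
    h1
    (by
      rintro χ χ' β hχ hχ' ⟨m, hm, hpm⟩ ⟨m', hm', hpm'⟩
      exact h3 χ χ' hχ hχ' β m m' hm hpm hm' hpm')
    h4
  simp only [starIrr_eq_iff] at key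
  exact key

end ambient

end Cfsg.Agent.Lib.Helper15
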