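import Cfsg.Agent.Lib.Helper15.RelGl1
import Cfsg.Agent.Lib.Helper16.OrbitSum

/-!
# The action on the irreducible characters of a normal subgroup; invariant constituents
-/

set_option autoImplicit false
set_option linter.unusedSectionVars false

namespace Cfsg.Agent.Lib.Helper15

open Cfsg Cfsg.Agent.Lib
open scoped ComplexConjugate

section act

variable {Γ : Type*} [Group Γ] [Fintype Γ] (Q : Subgroup Γ) [hQ : Q.Normal]

/-- the ambient group acts on the irreducible characters of a normal subgroup -/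
@[instance_reducible] noncomputable def irrActN : MulAction Γ (IrrCharacter Q) where
  smul g θ := ⟨cj Q g⁻¹ θ.1, irr_cj Q _ θ.2⟩
  one_smul θ := Subtype.ext (by
    show cj Q (1 : Γ)⁻¹ θ.1 = θ.1
    rw [inv_one, cj_one])
  mul_smul g h θ := Subtype.ext (by
    show cj Q (g * h)⁻¹ θ.1 = cj Q g⁻¹ (cj Q h⁻¹ θ.1)
    rw [cj_cj, mul_inv_rev])

attribute [local instance] irrActN

theorem irrActN_coe (g : Γ) (θ : IrrCharacter Q) :
    ((g • θ : IrrCharacter Q) : Q → ℂ) = cj Q g⁻¹ θ := rfl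

theorem irrActN_sub_coe (X : Subgroup Γ) (g : X) (θ : IrrCharacter Q) :
    ((g • θ : IrrCharacter Q) : Q → ℂ) = cj Q (g : Γ)⁻¹ θ := rfl

theorem smul_eq_iff_mem_inertia (g : Γ) (θ : IrrCharacter Q) :
    g • θ = θ ↔ g ∈ inertia Q (θ : Q → ℂ) := by
  rw [← (inertia Q (θ : Q → ℂ)).inv_mem_iff, mem_inertia]
  constructor
  · intro h
    exact congrArg Subtype.val h
  · intro h
    exact Subtype.ext h

theorem fixed_iff_invUnder (P : Subgroup Γ) (θ : IrrCharacter Q) :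
    (∀ x : P, x • θ = θ) ↔ InvUnder Q P (θ : Q → ℂ) := by
  rw [invUnder_iff_le_inertia]
  constructor
  · intro h x hx
    exact (smul_eq_iff_mem_inertia Q x θ).1 (h ⟨x, hx⟩)
  · intro h x
    exact (smul_eq_iff_mem_inertia Q x θ).2 (h x.2)

theorem mem_orbit_iff (X : Subgroup Γ) (θ θ' : IrrCharacter Q) :
    θ' ∈ MulAction.orbit X θ ↔ ∃ k ∈ X, (θ' : Q → ℂ) = cj Q k θ := by
  constructor
  · rintro ⟨k, rfl⟩
    exact ⟨(k : Γ)⁻¹, X.inv_mem k.2, rfl⟩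
  · rintro ⟨k, hk, h⟩
    refine ⟨⟨k⁻¹, X.inv_mem hk⟩, ?_⟩
    apply Subtype.ext
    rw [h, irrActN_sub_coe]
    simp

/-- the size of an orbit -/
theorem card_orbit_eq (X : Subgroup Γ) (θ : IrrCharacter Q) :
    Nat.card {θ' : IrrCharacter Q // ∃ k ∈ X, (θ' : Q → ℂ) = cj Q k θ}
      = (X ⊓ inertia Q (θ : Q → ℂ)).relIndex X := by
  have e1 : Nat.card {θ' : IrrCharacter Q // ∃ k ∈ X, (θ' : Q → ℂ) = cj Q k θ}
      = Nat.card (MulAction.orbit X θ) :=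
    Nat.card_congr (Equiv.subtypeEquivRight (fun θ' => (mem_orbit_iff Q X θ θ').symm))
  rw [e1, Nat.card_congr (MulAction.orbitEquivQuotientStabilizer X θ), ← Subgroup.index_eq_card]
  have e2 : MulAction.stabilizer X θ = (X ⊓ inertia Q (θ : Q → ℂ)).subgroupOf X := by
    ext k
    rw [MulAction.mem_stabilizer_iff, Subgroup.mem_subgroupOf, Subgroup.mem_inf]
    constructor
    · intro h
      exact ⟨k.2, (smul_eq_iff_mem_inertia Q k θ).1 h⟩
    · intro h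
      exact (smul_eq_iff_mem_inertia Q k θ).2 h.2
  rw [e2]
  rfl

variable [Fintype Q]

/-- the constituents of the restriction form an orbit -/
theorem constituent_iff {X : Subgroup Γ} [Fintype X] (hQX : Q ≤ X) {χ : X → ℂ}
    (hχ : IsIrrCharacter X χ) (θ₀ : IrrCharacter Q)
    (h0 : classInner (resFun hQX χ) (θ₀ : Q → ℂ) ≠ 0) (θ : IrrCharacter Q) :
    classInner (resFun hQX χ) (θ : Q → ℂ) ≠ 0 ↔ ∃ k ∈ X, (θ : Q → ℂ) = cj Q k θ₀ := by
  constructor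
  · intro h
    obtain ⟨k, hk⟩ := rel_clifford_conj hQX hχ θ₀.2 θ.2 h0 h
    exact ⟨k, k.2, hk⟩
  · rintro ⟨k, hk, h⟩
    have hinv : cj Q k (resFun hQX χ) = resFun hQX χ := by
      funext x
      exact irr_cf hχ ⟨(x : Γ), hQX x.2⟩ ⟨k, hk⟩
    rw [h, ← hinv, classInner_cj_cj]
    exact h0

/-- an invariant irreducible character lies over an invariant one, `p`-group acting, index prime
to `p` -/
theorem exists_inv_under (p : ℕ) [Fact p.Prime] (P : Subgroup Γ) (hP : IsPGroup p P)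
    {X : Subgroup Γ} [Fintype X] (hQX : Q ≤ X) (hpX : ¬ p ∣ Q.relIndex X) {χ : X → ℂ}
    (hχ : IsIrrCharacter X χ) (hinv : InvUnder X P χ) :
    ∃ θ : IrrCharacter Q, InvUnder Q P (θ : Q → ℂ) ∧
      classInner (resFun hQX χ) (θ : Q → ℂ) ≠ 0 := by
  classical
  have hne : resFun hQX χ ≠ 0 := by
    intro h
    exact irr_one_ne_zero hχ (congrFun h 1)
  obtain ⟨θ₀, hθ₀, h0⟩ := exists_constituent (char_resFun hQX (irr_char hχ)) hne
  have hA : ∀ a : ZMod p, p • a = 0 := by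
    intro a
    rw [nsmul_eq_mul, ZMod.natCast_self, zero_mul]
  have hres : ∀ x ∈ P, cj Q x (resFun hQX χ) = resFun hQX χ := by
    intro x hx
    funext q
    exact hinv x hx ⟨q, hQX q.2⟩ _ rfl
  have e1 := Helper16.sum_eq_sum_fixedPoints (Γ := P) (X := IrrCharacter Q) p hP hA
    (fun θ => if classInner (resFun hQX χ) (θ : Q → ℂ) ≠ 0 then (1 : ZMod p) else 0)
    (by
      intro x θ
      have : classInner (resFun hQX χ) ((x • θ : IrrCharacter Q) : Q → ℂ)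
          = classInner (resFun hQX χ) (θ : Q → ℂ) := by
        rw [irrActN_sub_coe, ← classInner_cj_left, hres x x.2]
      simp only [this])
  have e2 : ∑ θ : IrrCharacter Q,
      (if classInner (resFun hQX χ) (θ : Q → ℂ) ≠ 0 then (1 : ZMod p) else 0)
      = ((X ⊓ inertia Q θ₀).relIndex X : ZMod p) := by
    rw [Finset.sum_boole, ← card_orbit_eq Q X ⟨θ₀, hθ₀⟩, Nat.card_eq_fintype_card,
      Fintype.card_subtype]
    congr 2
    ext θ
    simp only [Finset.mem_filter, Finset.mem_univ, true_and]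
    exact constituent_iff Q hQX hχ ⟨θ₀, hθ₀⟩ h0 θ
  have e3 : ((X ⊓ inertia Q θ₀).relIndex X : ZMod p) ≠ 0 := by
    rw [Ne, ZMod.natCast_eq_zero_iff]
    intro h
    apply hpX
    exact h.trans (Subgroup.relIndex_dvd_of_le_left X (le_inf hQX (le_inertia Q (irr_cf hθ₀))))
  rw [e2] at e1
  rw [e1] at e3
  obtain ⟨θ, hθ, hθ'⟩ := Finset.exists_ne_zero_of_sum_ne_zero e3
  rw [Finset.mem_filter] at hθ
  refine ⟨θ, (fixed_iff_invUnder Q P θ).1 hθ.2, ?_⟩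
  by_contra h
  exact hθ' (if_neg (not_not.2 h))

omit [Fintype Γ] [Fintype Q] in
theorem mem_map_mk_iff {T : Subgroup Γ} (hQT : Q ≤ T) (g : Γ) :
    (g : Γ ⧸ Q) ∈ T.map (QuotientGroup.mk' Q) ↔ g ∈ T := by
  constructor
  · rintro ⟨t, ht, h⟩
    have h1 : t⁻¹ * g ∈ Q := QuotientGroup.eq.1 h
    have := T.mul_mem ht (hQT h1)
    rwa [mul_inv_cancel_left] at this
  · intro h
    exact ⟨g, h, rfl⟩

omit [Fintype Γ] [Fintype Q] in
theorem card_map_mk {T : Subgroup Γ} (hQT : Q ≤ T) :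
    Nat.card (T.map (QuotientGroup.mk' Q)) = Q.relIndex T := by
  have h := Subgroup.relIndex_map_map (QuotientGroup.mk' Q) Q T
  rw [QuotientGroup.ker_mk', sup_idem, sup_eq_left.2 hQT] at h
  have h2 : Q.map (QuotientGroup.mk' Q) = ⊥ := by
    rw [← le_bot_iff]
    rintro _ ⟨q, hq, rfl⟩
    exact (QuotientGroup.eq_one_iff q).2 hq
  rw [h2, Subgroup.relIndex_bot_left] at h
  exact h

omit [Fintype Q] in
/-- conjugate invariant characters are conjugate under the relative centraliser -/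
theorem exists_conj_centralizer (p : ℕ) [Fact p.Prime] (P K : Subgroup Γ) (hP : IsPGroup p P)
    (hPK : ∀ x ∈ P, ∀ k ∈ K, x * k * x⁻¹ ∈ K) (hQK : Q ≤ K) (hpK : ¬ p ∣ Q.relIndex K)
    {θ θ' : Q → ℂ} (hθc : IsClassFunction Q θ) (hθ : ∀ x ∈ P, cj Q x θ = θ)
    (hθ' : ∀ x ∈ P, cj Q x θ' = θ') {k₀ : Γ} (hk₀ : k₀ ∈ K) (hk₀θ : θ' = cj Q k₀ θ) :
    ∃ c ∈ K, (∀ x ∈ P, x * c * x⁻¹ * c⁻¹ ∈ Q) ∧ θ' = cj Q c θ := by
  classical
  set T : Subgroup Γ := K ⊓ inertia Q θ with hT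
  have hQT : Q ≤ T := le_inf hQK (le_inertia Q hθc)
  have hTK : T ≤ K := inf_le_left
  let act : MulAction P (Γ ⧸ Q) :=
    { smul := fun x y => ((x : Γ) : Γ ⧸ Q) * y * ((x : Γ) : Γ ⧸ Q)⁻¹
      one_smul := by
        intro y
        show (((1 : P) : Γ) : Γ ⧸ Q) * y * (((1 : P) : Γ) : Γ ⧸ Q)⁻¹ = y
        simp
      mul_smul := by
        intro a b y
        show (((a * b : P) : Γ) : Γ ⧸ Q) * y * (((a * b : P) : Γ) : Γ ⧸ Q)⁻¹
          = ((a : Γ) : Γ ⧸ Q) * (((b : Γ) : Γ ⧸ Q) * y * ((b : Γ) : Γ ⧸ Q)⁻¹) * ((a : Γ) : Γ ⧸ Q)⁻¹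
        rw [Subgroup.coe_mul, QuotientGroup.mk_mul]
        group }
  have hS : ∀ g : Γ, (g : Γ ⧸ Q) * (k₀ : Γ ⧸ Q)⁻¹ ∈ T.map (QuotientGroup.mk' Q) ↔
      (g ∈ K ∧ cj Q g θ = θ') := by
    intro g
    rw [← QuotientGroup.mk_inv, ← QuotientGroup.mk_mul, mem_map_mk_iff Q hQT, hT, Subgroup.mem_inf,
      mem_inertia, ← cj_cj, hk₀θ]
    constructor
    · rintro ⟨h1, h2⟩
      refine ⟨?_, ?_⟩
      · have := K.mul_mem h1 hk₀
        rwa [inv_mul_cancel_right] at this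
      · have := congrArg (cj Q k₀) h2
        rwa [cj_cj_inv] at this
    · rintro ⟨h1, h2⟩
      refine ⟨K.mul_mem h1 (K.inv_mem hk₀), ?_⟩
      rw [h2, cj_inv_cj]
  have hA : ∀ a : ZMod p, p • a = 0 := by
    intro a
    rw [nsmul_eq_mul, ZMod.natCast_self, zero_mul]
  have hstab : ∀ (x : P) (g : Γ), (g ∈ K ∧ cj Q g θ = θ') →
      ((x : Γ) * g * (x : Γ)⁻¹ ∈ K ∧ cj Q ((x : Γ) * g * (x : Γ)⁻¹) θ = θ') := by
    rintro x g ⟨h1, h2⟩
    refine ⟨hPK x x.2 g h1, ?_⟩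
    rw [← cj_cj, ← cj_cj, hθ x x.2, h2]
    have := hθ' x x.2
    conv_lhs => rw [← this]
    rw [cj_inv_cj]
  have e1 := Helper16.sum_eq_sum_fixedPoints (Γ := P) (X := Γ ⧸ Q) p hP hA
    (fun y => if y * (k₀ : Γ ⧸ Q)⁻¹ ∈ T.map (QuotientGroup.mk' Q) then (1 : ZMod p) else 0)
    (by
      intro x y
      obtain ⟨g, rfl⟩ := QuotientGroup.mk_surjective y
      have hxg : (x • (g : Γ ⧸ Q) : Γ ⧸ Q) = (((x : Γ) * g * (x : Γ)⁻¹ : Γ) : Γ ⧸ Q) := rfl
      have hiff : ((x • (g : Γ ⧸ Q) : Γ ⧸ Q) * (k₀ : Γ ⧸ Q)⁻¹ ∈ T.map (QuotientGroup.mk' Q)) ↔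
          ((g : Γ ⧸ Q) * (k₀ : Γ ⧸ Q)⁻¹ ∈ T.map (QuotientGroup.mk' Q)) := by
        rw [hxg, hS, hS]
        constructor
        · intro h
          have := hstab x⁻¹ _ h
          have e : ((x⁻¹ : P) : Γ) * ((x : Γ) * g * (x : Γ)⁻¹) * ((x⁻¹ : P) : Γ)⁻¹ = g := by
            rw [Subgroup.coe_inv]; group
          rwa [e] at this
        · exact hstab x g
      simp only [hiff])
  have e2 : ∑ y : Γ ⧸ Q,
      (if y * (k₀ : Γ ⧸ Q)⁻¹ ∈ T.map (QuotientGroup.mk' Q) then (1 : ZMod p) else 0)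
      = (Q.relIndex T : ZMod p) := by
    rw [Finset.sum_boole]
    congr 1
    rw [← card_map_mk Q hQT, Nat.card_eq_fintype_card, Fintype.card_subtype]
    apply Finset.card_bij (fun y _ => y * (k₀ : Γ ⧸ Q)⁻¹)
    · intro y hy
      rw [Finset.mem_filter] at hy ⊢
      exact ⟨Finset.mem_univ _, hy.2⟩
    · intro y _ y' _ h
      exact mul_right_cancel h
    · intro z hz
      rw [Finset.mem_filter] at hz
      refine ⟨z * (k₀ : Γ ⧸ Q), ?_, by group⟩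
      rw [Finset.mem_filter]
      refine ⟨Finset.mem_univ _, ?_⟩
      rw [mul_inv_cancel_right]
      exact hz.2
  have e3 : (Q.relIndex T : ZMod p) ≠ 0 := by
    rw [Ne, ZMod.natCast_eq_zero_iff]
    intro h
    apply hpK
    rw [← Subgroup.relIndex_mul_relIndex Q T K hQT hTK]
    exact h.mul_right _
  rw [e2] at e1
  rw [e1] at e3
  obtain ⟨y, hy, hy'⟩ := Finset.exists_ne_zero_of_sum_ne_zero e3
  rw [Finset.mem_filter] at hy
  obtain ⟨c, rfl⟩ := QuotientGroup.mk_surjective y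
  have hc : c ∈ K ∧ cj Q c θ = θ' := by
    rw [← hS]
    by_contra h
    exact hy' (if_neg h)
  refine ⟨c, hc.1, ?_, hc.2.symm⟩
  intro x hx
  have h1 : (((x : Γ) * c * (x : Γ)⁻¹ : Γ) : Γ ⧸ Q) = (c : Γ ⧸ Q) := hy.2 ⟨x, hx⟩
  rw [← QuotientGroup.eq_one_iff, QuotientGroup.mk_mul, h1, QuotientGroup.mk_inv, mul_inv_cancel]

omit [Fintype Q] in
theorem invUnder_iff_cj (P : Subgroup Γ) (θ : Q → ℂ) :
    InvUnder Q P θ ↔ ∀ x ∈ P, cj Q x θ = θ := by
  rw [invUnder_iff_le_inertia]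
  rfl

omit [Fintype Q] in
/-- the orbit of an invariant character under the relative centraliser consists of invariant
characters -/
theorem cj_centralizer_inv (P : Subgroup Γ) {θ : Q → ℂ} (hθc : IsClassFunction Q θ)
    (hθ : ∀ x ∈ P, cj Q x θ = θ) {c : Γ} (hc : ∀ x ∈ P, x * c * x⁻¹ * c⁻¹ ∈ Q) :
    ∀ x ∈ P, cj Q x (cj Q c θ) = cj Q c θ := by
  intro x hx
  have h1 : c * x = (x * c * x⁻¹ * c⁻¹)⁻¹ * x * c := by group
  rw [cj_cj, h1, ← cj_cj, ← cj_cj, cj_of_mem Q (Q.inv_mem (hc x hx)) hθc, hθ x hx]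

omit [Fintype Q] in
/-- orbit sizes under `K` and under the relative centraliser agree modulo `p` -/
theorem relIndex_congr (p : ℕ) [Fact p.Prime] (P K C : Subgroup Γ) (hP : IsPGroup p P)
    (hPK : ∀ x ∈ P, ∀ k ∈ K, x * k * x⁻¹ ∈ K) (hQK : Q ≤ K) (hpK : ¬ p ∣ Q.relIndex K)
    (hC : ∀ k, k ∈ C ↔ (k ∈ K ∧ ∀ x ∈ P, x * k * x⁻¹ * k⁻¹ ∈ Q))
    (θ : IrrCharacter Q) (hθ : InvUnder Q P (θ : Q → ℂ)) :
    ((K ⊓ inertia Q (θ : Q → ℂ)).relIndex K : ZMod p)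
      = ((C ⊓ inertia Q (θ : Q → ℂ)).relIndex C : ZMod p) := by
  classical
  have hθ' := (invUnder_iff_cj Q P _).1 hθ
  have hA : ∀ a : ZMod p, p • a = 0 := by
    intro a
    rw [nsmul_eq_mul, ZMod.natCast_self, zero_mul]
  have hstab : ∀ (x : P) (θ' : IrrCharacter Q), (∃ k ∈ K, (θ' : Q → ℂ) = cj Q k θ) →
      ∃ k ∈ K, ((x • θ' : IrrCharacter Q) : Q → ℂ) = cj Q k θ := by
    rintro x θ' ⟨k, hk, h⟩
    refine ⟨x * k * (x : Γ)⁻¹, hPK x x.2 k hk, ?_⟩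
    rw [irrActN_sub_coe, h, ← cj_cj, ← cj_cj, hθ' x x.2]
  have e1 := Helper16.sum_eq_sum_fixedPoints (Γ := P) (X := IrrCharacter Q) p hP hA
    (fun θ' => if (∃ k ∈ K, (θ' : Q → ℂ) = cj Q k θ) then (1 : ZMod p) else 0)
    (by
      intro x θ'
      have hiff : (∃ k ∈ K, ((x • θ' : IrrCharacter Q) : Q → ℂ) = cj Q k θ) ↔
          (∃ k ∈ K, (θ' : Q → ℂ) = cj Q k θ) := by
        constructor
        · intro h
          have := hstab x⁻¹ _ h
          rwa [inv_smul_smul] at this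
        · exact hstab x θ'
      simp only [hiff])
  rw [Finset.sum_boole, Finset.sum_boole, Finset.filter_filter] at e1
  rw [← card_orbit_eq Q K θ, ← card_orbit_eq Q C θ, Nat.card_eq_fintype_card,
    Nat.card_eq_fintype_card, Fintype.card_subtype, Fintype.card_subtype, e1]
  congr 2
  ext θ'
  simp only [Finset.mem_filter, Finset.mem_univ, true_and]
  constructor
  · rintro ⟨h1, k, hk, h2⟩
    have h3 : ∀ x ∈ P, cj Q x (θ' : Q → ℂ) = θ' :=
      (invUnder_iff_cj Q P _).1 ((fixed_iff_invUnder Q P θ').1 h1)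
    obtain ⟨c, hcK, hc, hcθ⟩ := exists_conj_centralizer Q p P K hP hPK hQK hpK (irr_cf θ.2) hθ' h3
      hk h2
    exact ⟨c, (hC c).2 ⟨hcK, hc⟩, hcθ⟩
  · rintro ⟨c, hc, h⟩
    refine ⟨?_, c, ((hC c).1 hc).1, h⟩
    apply (fixed_iff_invUnder Q P θ').2
    rw [invUnder_iff_cj, h]
    exact cj_centralizer_inv Q P (irr_cf θ.2) hθ' ((hC c).1 hc).2

end act

end Cfsg.Agent.Lib.Helper15
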