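import Cfsg.Agent.Lib.Helper80.OddFix
import Cfsg.Agent.Lib.Helper15.RelGl2
import Cfsg.Agent.Lib.Helper15.RealGl

/-!
# Real characters over a normal subgroup of odd index
-/

set_option autoImplicit false
set_option linter.unusedSectionVars false

namespace Cfsg.Agent.Lib.Helper15

open Cfsg Cfsg.Agent.Lib
open scoped ComplexConjugate

/-- an exponent inducing inversion -/
noncomputable def invExp (X : Type*) [Group X] : ℕ := 2 * Nat.card X - 1

theorem invExp_succ (X : Type*) [Group X] [Finite X] : invExp X + 1 = 2 * Nat.card X := by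
  have : 0 < Nat.card X := Nat.card_pos
  unfold invExp
  omega

theorem pow_invExp {X : Type*} [Group X] [Finite X] (g : X) : g ^ invExp X = g⁻¹ := by
  apply eq_inv_of_mul_eq_one_left
  rw [← pow_succ, invExp_succ, mul_comm, pow_mul, pow_card_eq_one', one_pow]

theorem pow_invExp_sub {X : Type*} [Group X] [Finite X] (M : Subgroup X) (g : M) :
    g ^ invExp X = g⁻¹ := by
  apply Subtype.ext
  rw [Subgroup.coe_pow, Subgroup.coe_inv, pow_invExp]

theorem khyp_invExp (X : Type*) [Group X] [Finite X] : Helper80.KHyp X (invExp X) := by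
  refine ⟨?_, fun g _ => pow_invExp g⟩
  have h1 : Nat.Coprime (invExp X) (invExp X + 1) := by simp
  exact h1.coprime_dvd_right ⟨2, by rw [invExp_succ, mul_comm]⟩

theorem fixk_iff_real {Y : Type*} [Group Y] [Finite Y] {k : ℕ} (hk : ∀ y : Y, y ^ k = y⁻¹)
    {χ : Y → ℂ} (h : IsCharacter Y χ) : Helper80.Fixk k χ ↔ ∀ g, (χ g).im = 0 := by
  constructor
  · intro hf g
    have h1 := hf g
    rw [hk, Helper3.IsCharacter.apply_inv h] at h1
    exact Complex.conj_eq_iff_im.1 h1
  · intro hr g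
    rw [hk, Helper3.IsCharacter.apply_inv h]
    exact Complex.conj_eq_iff_im.2 (hr g)

section main

variable {X : Type*} [Group X] [Fintype X] (M : Subgroup X) [hM : M.Normal]

attribute [local instance] irrActN

theorem stabilizer_eq_inertia (θ : IrrCharacter M) :
    MulAction.stabilizer X θ = inertia M (θ : M → ℂ) := by
  ext g
  rw [MulAction.mem_stabilizer_iff, smul_eq_iff_mem_inertia]

theorem card_orbit_eq_index (θ : IrrCharacter M) :
    Nat.card (MulAction.orbit X θ) = (inertia M (θ : M → ℂ)).index := by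
  rw [← stabilizer_eq_inertia, MulAction.index_stabilizer]
  rfl

/-- the unique real character over a real character, with its degree -/
theorem exists_real_over [Fintype M] (hodd : Odd M.index) (θ : IrrCharacter M)
    (hθ : ∀ m, ((θ : M → ℂ) m).im = 0) :
    ∃ χ : IrrCharacter X, (∀ g, ((χ : X → ℂ) g).im = 0) ∧
      classInner (fun m : M => (χ : X → ℂ) m) (θ : M → ℂ) ≠ 0 ∧
      charDegree (χ : X → ℂ) = Nat.card (MulAction.orbit X θ) * charDegree (θ : M → ℂ) ∧
      ∀ χ' : IrrCharacter X, (∀ g, ((χ' : X → ℂ) g).im = 0) →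
        classInner (fun m : M => (χ' : X → ℂ) m) (θ : M → ℂ) ≠ 0 → χ' = χ := by
  classical
  have h := khyp_invExp X
  have hf : Helper80.Fixk (invExp X) (θ : M → ℂ) :=
    (fixk_iff_real (pow_invExp_sub M) (irr_char θ.2)).2 hθ
  set I := inertia M (θ : M → ℂ) with hI
  have hNI : M ≤ I := le_inertia M (irr_cf θ.2)
  have := Fintype.ofFinite I
  obtain ⟨ψ, hψ, hfψ, hψres⟩ := Helper80.exists_fix_extension (M.subgroupOf I) (h.subgroup I)
    (Helper80.odd_relIndex M hodd I) (irr_downFun hNI θ.2)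
    (fun g => funext (fun n => Helper80.cj_downFun M
      (fun g hg => (mem_inertia M (θ : M → ℂ) g).1 hg) g n))
    (Helper80.fixk_downFun M hf)
  have hres : resFun hNI ψ = θ := by
    funext n
    exact hψres ⟨⟨(n : X), hNI n.2⟩, Subgroup.mem_subgroupOf.2 n.2⟩
  have hne : classInner (resFun hNI ψ) (θ : M → ℂ) ≠ 0 := by
    rw [hres, Helper3.classInner_irr_self θ.2]
    exact one_ne_zero
  have hcc := clifford_correspondence M θ.2 I (fun g => mem_inertia M (θ : M → ℂ) g) hNI
  obtain ⟨k', -, hk'⟩ := Nat.exists_mul_mod_eq_of_coprime 1 h.1 (Nat.card_pos (α := X)).ne'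
  have hχ : IsIrrCharacter X (indFun I ψ) := hcc.1 ψ hψ hne
  have hfχ : Helper80.Fixk (invExp X) (indFun I ψ) := by
    intro g
    rw [Helper80.indFun_pow I (k' := k') hk']
    congr 1
    exact funext hfψ
  have hover : classInner (fun n : M => indFun I ψ n) (θ : M → ℂ) ≠ 0 := by
    rw [hcc.2.2.1 ψ hψ hne]
    exact hne
  refine ⟨⟨indFun I ψ, hχ⟩, (fixk_iff_real pow_invExp (irr_char hχ)).1 hfχ, hover, ?_, ?_⟩
  · have h1 : indFun I ψ 1 = (I.index : ℂ) * ψ 1 := indFun_one I ψ
    have h2 : ψ 1 = (θ : M → ℂ) 1 := by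
      rw [← hres]
      rfl
    rw [Helper80.char_one_eq_charDegree (irr_char hχ), h2,
      Helper80.char_one_eq_charDegree (irr_char θ.2)] at h1
    rw [card_orbit_eq_index]
    exact_mod_cast h1
  · intro χ' hr' ho'
    exact Helper80.fix_unique M h hodd θ χ' ⟨indFun I ψ, hχ⟩ ho' hover
      ((fixk_iff_real pow_invExp (irr_char χ'.2)).2 hr') hfχ

theorem over_smul {χ : X → ℂ} (hχ : IsClassFunction X χ) [Fintype M] (g : X) (θ : IrrCharacter M) :
    classInner (fun m : M => χ m) ((g • θ : IrrCharacter M) : M → ℂ)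
      = classInner (fun m : M => χ m) (θ : M → ℂ) := by
  rw [irrActN_coe, classInner_restrict_cj M _ hχ]

theorem mem_orbit_of_over [Fintype M] {χ : X → ℂ} (hχ : IsIrrCharacter X χ) (θ φ : IrrCharacter M)
    (h1 : classInner (fun m : M => χ m) (θ : M → ℂ) ≠ 0)
    (h2 : classInner (fun m : M => χ m) (φ : M → ℂ) ≠ 0) : φ ∈ MulAction.orbit X θ := by
  obtain ⟨g, hg⟩ := clifford_conj M hχ θ.2 φ.2 h1 h2
  refine ⟨g⁻¹, ?_⟩
  apply Subtype.ext
  change cj M g⁻¹⁻¹ (θ : M → ℂ) = φ
  rw [inv_inv, hg]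

theorem starIrr_smul (g : X) (θ : IrrCharacter M) : starIrr (g • θ) = g • starIrr θ := rfl

theorem real_smul (g : X) (θ : IrrCharacter M) (hθ : ∀ m, ((θ : M → ℂ) m).im = 0) :
    ∀ m, (((g • θ : IrrCharacter M) : M → ℂ) m).im = 0 := by
  intro m
  exact hθ _

/-- a real character lies over a real character -/
theorem exists_real_under [Fintype M] (hodd : Odd M.index) (χ : IrrCharacter X)
    (hχ : ∀ g, ((χ : X → ℂ) g).im = 0) :
    ∃ θ : IrrCharacter M, (∀ m, ((θ : M → ℂ) m).im = 0) ∧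
      classInner (fun m : M => (χ : X → ℂ) m) (θ : M → ℂ) ≠ 0 := by
  classical
  have hne : (fun m : M => (χ : X → ℂ) m) ≠ 0 := by
    intro h
    exact irr_one_ne_zero χ.2 (congrFun h 1)
  obtain ⟨θ₀, hθ₀, h0⟩ := exists_constituent (char_restrict (irr_char χ.2) M) hne
  set θ : IrrCharacter M := ⟨θ₀, hθ₀⟩ with hθdef
  have hover : ∀ φ : IrrCharacter M, φ ∈ MulAction.orbit X θ →
      classInner (fun m : M => (χ : X → ℂ) m) (φ : M → ℂ) ≠ 0 := by
    rintro _ ⟨g, rfl⟩
    change classInner (fun m : M => (χ : X → ℂ) m) ((g • θ : IrrCharacter M) : M → ℂ) ≠ 0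
    rw [over_smul M (irr_cf χ.2)]
    exact h0
  have hstar : ∀ φ : IrrCharacter M, classInner (fun m : M => (χ : X → ℂ) m) (φ : M → ℂ) ≠ 0 →
      classInner (fun m : M => (χ : X → ℂ) m) (starIrr φ : M → ℂ) ≠ 0 := by
    intro φ hφ
    have h1 : (fun m : M => (χ : X → ℂ) m) = fun m : M => conj ((χ : X → ℂ) m) := by
      funext m
      exact (Complex.conj_eq_iff_im.2 (hχ m)).symm
    rw [h1]
    change classInner (fun m : M => conj ((χ : X → ℂ) m)) (fun m => conj ((φ : M → ℂ) m)) ≠ 0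
    rw [classInner_conj_conj]
    intro h2
    exact hφ ((map_eq_zero _).1 h2)
  have hmem : ∀ φ : IrrCharacter M, φ ∈ MulAction.orbit X θ → starIrr φ ∈ MulAction.orbit X θ :=
    fun φ hφ => mem_orbit_of_over M χ.2 θ _ h0 (hstar φ (hover φ hφ))
  let σ : MulAction.orbit X θ → MulAction.orbit X θ := fun φ => ⟨starIrr φ.1, hmem φ.1 φ.2⟩
  have hσ : Function.Involutive σ := by
    intro φ
    apply Subtype.ext
    apply Subtype.ext
    funext m
    exact Complex.conj_conj _
  have := Fintype.ofFinite (MulAction.orbit X θ)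
  have hcard : ¬ 2 ∣ Fintype.card (MulAction.orbit X θ) := by
    rw [← Nat.card_eq_fintype_card, card_orbit_eq_index]
    have h1 : (inertia M (θ : M → ℂ)).index ∣ M.index :=
      Subgroup.index_dvd_of_le (le_inertia M (irr_cf θ.2))
    exact (Odd.of_dvd_nat hodd h1).not_two_dvd_nat
  obtain ⟨φ, hφ⟩ := Equiv.Perm.exists_fixed_point_of_prime (p := 2) (n := 1) hcard
    (σ := hσ.toPerm) (by
      ext φ
      simp only [pow_one, sq, Equiv.Perm.coe_mul, Function.comp_apply, Function.Involutive.coe_toPerm,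
        Equiv.Perm.coe_one, id_eq]
      rw [hσ φ])
  refine ⟨φ.1, (starIrr_eq_iff φ.1).1 (congrArg Subtype.val hφ), hover φ.1 φ.2⟩

end main

end Cfsg.Agent.Lib.Helper15
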