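import Cfsg.Agent.Lib.Helper15.RelGl4

/-!
# The relative Glauberman correspondence: `Q` only normalised by `K` and `P`
-/

set_option autoImplicit false
set_option linter.unusedSectionVars false

namespace Cfsg.Agent.Lib.Helper15

open Cfsg Cfsg.Agent.Lib
open scoped ComplexConjugate

section transport

variable {G : Type*} [Group G]

theorem invUnder_downFun_iff {H P N₀ : Subgroup G} (hH : H ≤ N₀) (hP : P ≤ N₀) (ψ : H → ℂ) :
    InvUnder (H.subgroupOf N₀) (P.subgroupOf N₀) (downFun H N₀ ψ) ↔ InvUnder H P ψ := by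
  constructor
  · intro h s hs g g' hg
    exact h ⟨s, hP hs⟩ (Subgroup.mem_subgroupOf.2 hs)
      ⟨⟨g, hH g.2⟩, Subgroup.mem_subgroupOf.2 g.2⟩ ⟨⟨g', hH g'.2⟩, Subgroup.mem_subgroupOf.2 g'.2⟩
      (Subtype.ext hg)
  · intro h s hs g g' hg
    exact h (s : G) (Subgroup.mem_subgroupOf.1 hs) ⟨_, Subgroup.mem_subgroupOf.1 g.2⟩
      ⟨_, Subgroup.mem_subgroupOf.1 g'.2⟩ (congrArg Subtype.val hg)

/-- a `p`-subgroup normalising `K` normalises the normal Sylow `p`-subgroup of `K` -/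
theorem conj_mem_normal_sylow [Finite G] (p : ℕ) [Fact p.Prime] {K Q : Subgroup G} (hQK : Q ≤ K)
    (hQn : ∀ k ∈ K, ∀ q ∈ Q, k * q * k⁻¹ ∈ Q) (hQp : IsPGroup p Q) (hpK : ¬ p ∣ Q.relIndex K)
    {x : G} (hx : ∀ k ∈ K, x * k * x⁻¹ ∈ K) : ∀ q ∈ Q, x * q * x⁻¹ ∈ Q := by
  intro q hq
  have hp : p.Prime := Fact.out
  have hnormal : (Q.subgroupOf K).Normal := by
    constructor
    intro d hd b
    rw [Subgroup.mem_subgroupOf] at hd ⊢
    exact hQn b b.2 d hd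
  let y : K := ⟨x * q * x⁻¹, hx q (hQK hq)⟩
  obtain ⟨n, hn⟩ := hQp ⟨q, hq⟩
  have hq' : q ^ p ^ n = 1 := congrArg Subtype.val hn
  have hy : y ^ p ^ n = 1 := by
    apply Subtype.ext
    change (x * q * x⁻¹) ^ p ^ n = 1
    rw [conj_pow, hq']
    group
  have h1 : orderOf (y : K ⧸ Q.subgroupOf K) ∣ p ^ n := by
    apply orderOf_dvd_of_pow_eq_one
    rw [← QuotientGroup.mk_pow, hy]
    rfl
  have h2 : orderOf (y : K ⧸ Q.subgroupOf K) ∣ Q.relIndex K := by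
    have := orderOf_dvd_natCard (y : K ⧸ Q.subgroupOf K)
    rwa [← Subgroup.index_eq_card] at this
  have h3 : (p ^ n).Coprime (Q.relIndex K) :=
    Nat.Coprime.pow_left _ ((Nat.Prime.coprime_iff_not_dvd hp).2 hpK)
  have h4 := Nat.eq_one_of_dvd_coprimes h3 h1 h2
  rw [orderOf_eq_one_iff, QuotientGroup.eq_one_iff] at h4
  exact Subgroup.mem_subgroupOf.1 h4

/-- **The relative Glauberman correspondence.** -/
theorem rel_glauberman_general [Fintype G] (p : ℕ) [Fact p.Prime] (P K Q C : Subgroup G)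
    (hP : IsPGroup p P) (hnK : ∀ s ∈ P, ∀ g ∈ K, s * g * s⁻¹ ∈ K) (hQK : Q ≤ K)
    (hQn : ∀ k ∈ K, ∀ q ∈ Q, k * q * k⁻¹ ∈ Q) (hQp : IsPGroup p Q)
    (hpK : ¬ p ∣ Q.relIndex K) (hCK : C ≤ K)
    (hC : ∀ k, k ∈ C ↔ (k ∈ K ∧ ∀ x ∈ P, x * k * x⁻¹ * k⁻¹ ∈ Q)) [Fintype K] [Fintype C] :
    (∀ χ : IrrCharacter K, InvUnder K P (χ : K → ℂ) →
      ∃ ξ : IrrCharacter C, InvUnder C P (ξ : C → ℂ) ∧
        (∃ m : ℕ, classInner (resFun hCK (χ : K → ℂ)) (ξ : C → ℂ) = m ∧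
          ((m : ZMod p) = 1 ∨ (m : ZMod p) = -1)) ∧
        (∀ ξ' : IrrCharacter C, InvUnder C P (ξ' : C → ℂ) → ξ' ≠ ξ →
          ∃ m : ℕ, classInner (resFun hCK (χ : K → ℂ)) (ξ' : C → ℂ) = m ∧ p ∣ m) ∧
        ((charDegree (ξ : C → ℂ) : ZMod p) = charDegree (χ : K → ℂ) ∨
          (charDegree (ξ : C → ℂ) : ZMod p) = -(charDegree (χ : K → ℂ) : ZMod p))) ∧
    (∀ χ₁ χ₂ : IrrCharacter K, InvUnder K P (χ₁ : K → ℂ) → InvUnder K P (χ₂ : K → ℂ) →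
      ∀ ξ : IrrCharacter C, InvUnder C P (ξ : C → ℂ) →
      ∀ m₁ m₂ : ℕ, classInner (resFun hCK (χ₁ : K → ℂ)) (ξ : C → ℂ) = m₁ → ¬ p ∣ m₁ →
        classInner (resFun hCK (χ₂ : K → ℂ)) (ξ : C → ℂ) = m₂ → ¬ p ∣ m₂ → χ₁ = χ₂) ∧
    (∀ ξ : IrrCharacter C, InvUnder C P (ξ : C → ℂ) →
      ∃ χ : IrrCharacter K, InvUnder K P (χ : K → ℂ) ∧ ∃ m : ℕ,
        classInner (resFun hCK (χ : K → ℂ)) (ξ : C → ℂ) = m ∧ ¬ p ∣ m) := by
  classical
  obtain ⟨N₀, hN₀⟩ : ∃ N₀ : Subgroup G, N₀ = Subgroup.normalizer (Q : Set G) := ⟨_, rfl⟩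
  have hKN : K ≤ N₀ := by
    intro k hk
    rw [hN₀]
    exact Subgroup.mem_normalizer_fintype (fun q hq => hQn k hk q hq)
  have hPN : P ≤ N₀ := by
    intro x hx
    rw [hN₀]
    exact Subgroup.mem_normalizer_fintype
      (fun q hq => conj_mem_normal_sylow p hQK hQn hQp hpK (hnK x hx) q hq)
  have hCN : C ≤ N₀ := hCK.trans hKN
  have hQN : Q ≤ N₀ := hQK.trans hKN
  have hnormal : (Q.subgroupOf N₀).Normal := by
    rw [hN₀]
    infer_instance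
  have hCK' : C.subgroupOf N₀ ≤ K.subgroupOf N₀ := by
    intro x hx
    rw [Subgroup.mem_subgroupOf] at hx ⊢
    exact hCK hx
  obtain ⟨c1, c2, c3⟩ := rel_glauberman_core (Q.subgroupOf N₀) p (P.subgroupOf N₀)
    (K.subgroupOf N₀) (C.subgroupOf N₀) hP.comap_subtype
    (by
      intro s hs g hg
      rw [Subgroup.mem_subgroupOf] at hs hg ⊢
      exact hnK s hs g hg)
    (by
      intro x hx
      rw [Subgroup.mem_subgroupOf] at hx ⊢
      exact hQK hx)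
    hQp.comap_subtype
    (by rw [Subgroup.relIndex_subgroupOf hKN]; exact hpK)
    hCK'
    (by
      intro k
      rw [Subgroup.mem_subgroupOf, Subgroup.mem_subgroupOf, hC]
      apply and_congr Iff.rfl
      constructor
      · intro h x hx
        exact Subgroup.mem_subgroupOf.2 (h x (Subgroup.mem_subgroupOf.1 hx))
      · intro h x hx
        exact Subgroup.mem_subgroupOf.1 (h ⟨x, hPN hx⟩ (Subgroup.mem_subgroupOf.2 hx)))
  have hinner : ∀ (χ : K → ℂ) (ξ : C → ℂ),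
      classInner (resFun hCK' (downFun K N₀ χ)) (downFun C N₀ ξ) = classInner (resFun hCK χ) ξ :=
    fun χ ξ => classInner_downFun hCN (resFun hCK χ) ξ
  refine ⟨?_, ?_, ?_⟩
  · intro χ hχ
    obtain ⟨ξ', hξ'P, ⟨m, hm, hm1⟩, hother, hdeg⟩ := c1 ⟨_, irr_downFun hKN χ.2⟩
      ((invUnder_downFun_iff hKN hPN _).2 hχ)
    refine ⟨⟨upFun hCN ξ', irr_upFun hCN ξ'.2⟩, ?_, ⟨m, ?_, hm1⟩, ?_, hdeg⟩
    · rw [← invUnder_downFun_iff hCN hPN, downFun_upFun]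
      exact hξ'P
    · rw [← hinner, downFun_upFun]
      exact hm
    · intro ξ'' hξ''P hne
      obtain ⟨m', hm', hpm'⟩ := hother ⟨_, irr_downFun hCN ξ''.2⟩
        ((invUnder_downFun_iff hCN hPN _).2 hξ''P) (by
          intro h
          apply hne
          apply Subtype.ext
          have := congrArg (fun z : IrrCharacter (C.subgroupOf N₀) => upFun hCN z.1) h
          exact this)
      refine ⟨m', ?_, hpm'⟩
      rw [← hinner]
      exact hm'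
  · intro χ₁ χ₂ h₁ h₂ ξ hξ m₁ m₂ hm₁ hp₁ hm₂ hp₂
    have := c2 ⟨_, irr_downFun hKN χ₁.2⟩ ⟨_, irr_downFun hKN χ₂.2⟩
      ((invUnder_downFun_iff hKN hPN _).2 h₁) ((invUnder_downFun_iff hKN hPN _).2 h₂)
      ⟨_, irr_downFun hCN ξ.2⟩ ((invUnder_downFun_iff hCN hPN _).2 hξ) m₁ m₂
      ((hinner _ _).trans hm₁) hp₁ ((hinner _ _).trans hm₂) hp₂
    apply Subtype.ext
    exact downFun_injective K N₀ hKN (congrArg Subtype.val this)
  · intro ξ hξ
    obtain ⟨χ', hχ'P, m, hm, hpm⟩ := c3 ⟨_, irr_downFun hCN ξ.2⟩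
      ((invUnder_downFun_iff hCN hPN _).2 hξ)
    refine ⟨⟨upFun hKN χ', irr_upFun hKN χ'.2⟩, ?_, m, ?_, hpm⟩
    · rw [← invUnder_downFun_iff hKN hPN, downFun_upFun]
      exact hχ'P
    · rw [← hinner, downFun_upFun]
      exact hm

end transport

end Cfsg.Agent.Lib.Helper15
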