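import Cfsg.Agent.Lib.Helper15.RealN1
import Cfsg.Agent.Lib.Helper15.RelGl5

/-!
# Sylow arguments for actions, and the relative Glauberman correspondence seen from `N_G(P)`
-/

set_option autoImplicit false
set_option linter.unusedSectionVars false

namespace Cfsg.Agent.Lib.Helper15

open Cfsg Cfsg.Agent.Lib
open scoped ComplexConjugate

section sylowAct

variable {Γ Ω : Type*} [Group Γ] [Finite Γ] [MulAction Γ Ω] {p : ℕ} [Fact p.Prime]

/-- a `p`-subgroup fixes a point of every orbit of size prime to `p` -/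
theorem exists_fixed_in_orbit (P : Subgroup Γ) (hP : IsPGroup p P) (ω : Ω)
    (h : ¬ p ∣ Nat.card (MulAction.orbit Γ ω)) : ∃ g : Γ, ∀ x ∈ P, x • g • ω = g • ω := by
  obtain ⟨⟨y, g, rfl⟩, hy⟩ := hP.nonempty_fixed_point_of_prime_not_dvd_card
    (MulAction.orbit Γ ω) h
  refine ⟨g, fun x hx => ?_⟩
  exact congrArg Subtype.val (hy ⟨x, hx⟩)

/-- fusion of fixed points of a Sylow subgroup is controlled by its normaliser -/
theorem sylow_orbit_fusion (P : Sylow p Γ) (ω : Ω) (hω : ∀ x ∈ P, x • ω = ω) (g : Γ)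
    (hg : ∀ x ∈ P, x • g • ω = g • ω) :
    ∃ n ∈ Subgroup.normalizer ((P : Subgroup Γ) : Set Γ), n • ω = g • ω := by
  have h1 : (P : Subgroup Γ) ≤ MulAction.stabilizer Γ ω := fun x hx => hω x hx
  have h2 : ((g⁻¹ • P : Sylow p Γ) : Subgroup Γ) ≤ MulAction.stabilizer Γ ω := by
    rintro - ⟨z, hz, rfl⟩
    rw [MulAction.mem_stabilizer_iff]
    change (g⁻¹ * z * g⁻¹⁻¹) • ω = ω
    rw [inv_inv, mul_smul, mul_smul, hg z hz, inv_smul_smul]
  obtain ⟨h, hh⟩ := MulAction.exists_smul_eq (MulAction.stabilizer Γ ω)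
    ((g⁻¹ • P).subtype h2) (P.subtype h1)
  simp_rw [Sylow.smul_subtype, Subgroup.smul_def, smul_smul] at hh
  have h3 : (h : Γ) * g⁻¹ ∈ Subgroup.normalizer ((P : Subgroup Γ) : Set Γ) :=
    Sylow.smul_eq_iff_mem_normalizer.mp (Sylow.subtype_injective hh)
  refine ⟨((h : Γ) * g⁻¹)⁻¹, Subgroup.inv_mem _ h3, ?_⟩
  rw [mul_inv_rev, inv_inv, mul_smul]
  congr 1
  rw [inv_smul_eq_iff]
  exact (h.2 : (h : Γ) • ω = ω).symm

theorem smul_fixed_of_normalizer (P : Subgroup Γ) (ω : Ω) (hω : ∀ x ∈ P, x • ω = ω) (n : Γ)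
    (hn : n ∈ Subgroup.normalizer (P : Set Γ)) : ∀ x ∈ P, x • n • ω = n • ω := by
  intro x hx
  have h1 : n⁻¹ * x * n⁻¹⁻¹ ∈ P :=
    (Subgroup.mem_normalizer_iff.1 (Subgroup.inv_mem _ hn) x).1 hx
  rw [inv_inv] at h1
  have h2 := hω _ h1
  rw [mul_smul, mul_smul, inv_smul_eq_iff] at h2
  exact h2

/-- the size of an orbit modulo `p` -/
theorem card_orbit_modEq (P : Sylow p Γ) (ω : Ω) (hω : ∀ x ∈ P, x • ω = ω) :
    Nat.card (MulAction.orbit Γ ω) ≡
      Nat.card (MulAction.orbit (Subgroup.normalizer ((P : Subgroup Γ) : Set Γ)) ω) [MOD p] := by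
  have : Finite (MulAction.orbit Γ ω) := Set.finite_range _
  have h1 := P.2.card_modEq_card_fixedPoints (MulAction.orbit Γ ω)
  refine h1.trans ?_
  have e : MulAction.fixedPoints (P : Subgroup Γ) (MulAction.orbit Γ ω) ≃
      MulAction.orbit (Subgroup.normalizer ((P : Subgroup Γ) : Set Γ)) ω :=
    { toFun := fun y => ⟨y.1.1, by
        obtain ⟨⟨y, g, rfl⟩, hy⟩ := y
        obtain ⟨n, hn, hn'⟩ := sylow_orbit_fusion P ω hω g
          (fun x hx => congrArg Subtype.val (hy ⟨x, hx⟩))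
        exact ⟨⟨n, hn⟩, hn'⟩⟩
      invFun := fun z => ⟨⟨z.1, by
        obtain ⟨z, n, rfl⟩ := z
        exact ⟨n, rfl⟩⟩, by
        obtain ⟨z, n, rfl⟩ := z
        intro x
        apply Subtype.ext
        exact smul_fixed_of_normalizer (P : Subgroup Γ) ω hω n n.2 x x.2⟩
      left_inv := fun y => rfl
      right_inv := fun z => rfl }
  rw [Nat.card_congr e]

end sylowAct

section transport

variable {G : Type*} [Group G] [Fintype G] (K : Subgroup G) [hK : K.Normal] (N : Subgroup G)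

/-- restriction of a function on `K` to `K ∩ N`, seen inside `N` -/
def resN (θ : K → ℂ) : K.subgroupOf N → ℂ :=
  fun c => θ ⟨((c : N) : G), Subgroup.mem_subgroupOf.1 c.2⟩

/-- `K ∩ N` inside `N` and inside `G` -/
def eqvC : ↥(K.subgroupOf N) ≃* ↥(K ⊓ N) where
  toFun c := ⟨((c : N) : G), ⟨Subgroup.mem_subgroupOf.1 c.2, (c : N).2⟩⟩
  invFun c := ⟨⟨(c : G), c.2.2⟩, Subgroup.mem_subgroupOf.2 c.2.1⟩
  left_inv _ := rfl
  right_inv _ := rfl
  map_mul' _ _ := rfl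

/-- the relation defining the relative Glauberman correspondence -/
def GlRel [Fintype (K.subgroupOf N)] (p : ℕ) (θ : K → ℂ) (β : K.subgroupOf N → ℂ) : Prop :=
  ∃ m : ℕ, classInner (resN K N θ) β = m ∧ ¬ p ∣ m

theorem invUnder_transport (P : Subgroup G) (hPN : P ≤ N) (β : K.subgroupOf N → ℂ) :
    InvUnder (K ⊓ N) P (β ∘ (eqvC K N).symm) ↔ InvUnder (K.subgroupOf N) (P.subgroupOf N) β := by
  constructor
  · intro h s hs g g' hg
    have := h (s : G) (Subgroup.mem_subgroupOf.1 hs) (eqvC K N g) (eqvC K N g')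
      (congrArg Subtype.val hg)
    simpa using this
  · intro h s hs g g' hg
    exact h ⟨s, hPN hs⟩ (Subgroup.mem_subgroupOf.2 hs) ((eqvC K N).symm g) ((eqvC K N).symm g')
      (Subtype.ext hg)

theorem classInner_transport [Fintype (K.subgroupOf N)] [Fintype ↥(K ⊓ N)] (θ : K → ℂ)
    (β : K.subgroupOf N → ℂ) :
    classInner (resFun (inf_le_left : K ⊓ N ≤ K) θ) (β ∘ (eqvC K N).symm)
      = classInner (resN K N θ) β := by
  rw [← classInner_comp_equiv (eqvC K N)]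
  congr 1

attribute [local instance] irrActN

theorem resN_smul [Fintype N] (n : N) (θ : IrrCharacter K) :
    resN K N ((n • θ : IrrCharacter K) : K → ℂ) = cj (K.subgroupOf N) n⁻¹ (resN K N θ) := rfl

theorem glRel_smul [Fintype N] [Fintype (K.subgroupOf N)] (p : ℕ) (n : N) (θ : IrrCharacter K)
    (β : IrrCharacter (K.subgroupOf N)) (h : GlRel K N p θ β) :
    GlRel K N p ((n • θ : IrrCharacter K) : K → ℂ)
      ((n • β : IrrCharacter (K.subgroupOf N)) : K.subgroupOf N → ℂ) := by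
  obtain ⟨m, hm, hpm⟩ := h
  refine ⟨m, ?_, hpm⟩
  rw [resN_smul, irrActN_coe, classInner_cj_cj, hm]

theorem glRel_star [Fintype (K.subgroupOf N)] (p : ℕ) (θ : IrrCharacter K)
    (β : IrrCharacter (K.subgroupOf N)) (h : GlRel K N p θ β) :
    GlRel K N p (starIrr θ : K → ℂ) (starIrr β : K.subgroupOf N → ℂ) := by
  obtain ⟨m, hm, hpm⟩ := h
  refine ⟨m, ?_, hpm⟩
  change classInner (fun c => conj (resN K N θ c)) (fun c => conj ((β : K.subgroupOf N → ℂ) c)) = _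
  rw [classInner_conj_conj, hm, Complex.conj_natCast]

theorem invUnder_star {Γ : Type*} [Group Γ] [Finite Γ] (A S : Subgroup Γ) (θ : IrrCharacter A)
    (h : InvUnder A S (θ : A → ℂ)) : InvUnder A S (starIrr θ : A → ℂ) := by
  intro s hs g g' hg
  change conj ((θ : A → ℂ) g') = conj ((θ : A → ℂ) g)
  rw [h s hs g g' hg]

/-- the relative Glauberman correspondence, between `K` and `K ∩ N` seen inside `N` -/
theorem gl_transport [Fintype (K.subgroupOf N)] (p : ℕ) [Fact p.Prime] (P Q : Subgroup G)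
    (hP : IsPGroup p P) (hPN : P ≤ N) (hQK : Q ≤ K)
    (hQn : ∀ k ∈ K, ∀ q ∈ Q, k * q * k⁻¹ ∈ Q) (hQp : IsPGroup p Q) (hpK : ¬ p ∣ Q.relIndex K)
    (hC : ∀ k, k ∈ K ⊓ N ↔ (k ∈ K ∧ ∀ x ∈ P, x * k * x⁻¹ * k⁻¹ ∈ Q)) :
    (∀ θ : IrrCharacter K, InvUnder K P (θ : K → ℂ) →
      ∃ β : IrrCharacter (K.subgroupOf N),
        InvUnder (K.subgroupOf N) (P.subgroupOf N) (β : K.subgroupOf N → ℂ) ∧
        GlRel K N p θ β ∧
        ((charDegree (β : K.subgroupOf N → ℂ) : ZMod p) = charDegree (θ : K → ℂ) ∨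
          (charDegree (β : K.subgroupOf N → ℂ) : ZMod p) = -(charDegree (θ : K → ℂ) : ZMod p)) ∧
        ∀ β' : IrrCharacter (K.subgroupOf N),
          InvUnder (K.subgroupOf N) (P.subgroupOf N) (β' : K.subgroupOf N → ℂ) →
          GlRel K N p θ β' → β' = β) ∧
    (∀ θ₁ θ₂ : IrrCharacter K, InvUnder K P (θ₁ : K → ℂ) → InvUnder K P (θ₂ : K → ℂ) →
      ∀ β : IrrCharacter (K.subgroupOf N),
        InvUnder (K.subgroupOf N) (P.subgroupOf N) (β : K.subgroupOf N → ℂ) →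
        GlRel K N p θ₁ β → GlRel K N p θ₂ β → θ₁ = θ₂) ∧
    (∀ β : IrrCharacter (K.subgroupOf N),
      InvUnder (K.subgroupOf N) (P.subgroupOf N) (β : K.subgroupOf N → ℂ) →
      ∃ θ : IrrCharacter K, InvUnder K P (θ : K → ℂ) ∧ GlRel K N p θ β) := by
  classical
  have := Fintype.ofFinite K
  have := Fintype.ofFinite ↥(K ⊓ N)
  obtain ⟨H1, H2, H3⟩ := rel_glauberman_general p P K Q (K ⊓ N) hP
    (fun s _ g hg => hK.conj_mem g hg s) hQK hQn hQp hpK inf_le_left hC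
  -- the two translations
  let dn : IrrCharacter (K.subgroupOf N) → IrrCharacter ↥(K ⊓ N) :=
    fun β => ⟨(β : K.subgroupOf N → ℂ) ∘ (eqvC K N).symm, irr_comp_equiv _ β.2⟩
  let up : IrrCharacter ↥(K ⊓ N) → IrrCharacter (K.subgroupOf N) :=
    fun ξ => ⟨(ξ : ↥(K ⊓ N) → ℂ) ∘ (eqvC K N), irr_comp_equiv _ ξ.2⟩
  have hdu : ∀ ξ, dn (up ξ) = ξ := by
    intro ξ
    apply Subtype.ext
    funext c
    simp [dn, up]
  have hud : ∀ β, up (dn β) = β := by
    intro β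
    apply Subtype.ext
    funext c
    simp [dn, up]
  have hinv : ∀ β : IrrCharacter (K.subgroupOf N), InvUnder (K ⊓ N) P (dn β : ↥(K ⊓ N) → ℂ) ↔
      InvUnder (K.subgroupOf N) (P.subgroupOf N) (β : K.subgroupOf N → ℂ) :=
    fun β => invUnder_transport K N P hPN β
  have hin : ∀ (θ : K → ℂ) (β : IrrCharacter (K.subgroupOf N)),
      classInner (resFun (inf_le_left : K ⊓ N ≤ K) θ) (dn β : ↥(K ⊓ N) → ℂ)
        = classInner (resN K N θ) (β : K.subgroupOf N → ℂ) :=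
    fun θ β => classInner_transport K N θ β
  have hunit : ∀ m : ℕ, ((m : ZMod p) = 1 ∨ (m : ZMod p) = -1) → ¬ p ∣ m := by
    intro m hm hd
    rw [(ZMod.natCast_eq_zero_iff _ _).2 hd] at hm
    rcases hm with h | h
    · exact zero_ne_one h
    · exact zero_ne_one (neg_eq_zero.1 h.symm).symm
  refine ⟨?_, ?_, ?_⟩
  · intro θ hθ
    obtain ⟨ξ, hξ, ⟨m, hm, hu⟩, hoth, hdeg⟩ := H1 θ hθ
    refine ⟨up ξ, ?_, ⟨m, ?_, hunit m hu⟩, ?_, ?_⟩
    · rw [← hinv, hdu]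
      exact hξ
    · rw [← hin, hdu]
      exact hm
    · exact hdeg
    · intro β' hβ' ⟨m', hm', hpm'⟩
      by_contra hne
      obtain ⟨m'', hm'', hpm''⟩ := hoth (dn β') ((hinv β').2 hβ') (by
        intro h
        apply hne
        rw [← hud β', h])
      rw [hin, hm'] at hm''
      have : m' = m'' := by exact_mod_cast hm''
      exact hpm' (this ▸ hpm'')
  · intro θ₁ θ₂ h₁ h₂ β hβ ⟨m₁, hm₁, hp₁⟩ ⟨m₂, hm₂, hp₂⟩
    exact H2 θ₁ θ₂ h₁ h₂ (dn β) ((hinv β).2 hβ) m₁ m₂ (by rw [hin, hm₁]) hp₁ (by rw [hin, hm₂]) hp₂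
  · intro β hβ
    obtain ⟨θ, hθ, m, hm, hpm⟩ := H3 (dn β) ((hinv β).2 hβ)
    exact ⟨θ, hθ, m, by rw [← hin, hm], hpm⟩

end transport

end Cfsg.Agent.Lib.Helper15
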