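import Cfsg.Agent.Lib.Helper15.RealN2

/-!
# Real characters of `G` and of the normaliser of a Sylow subgroup
-/

set_option autoImplicit false
set_option linter.unusedSectionVars false

namespace Cfsg.Agent.Lib.Helper15

open Cfsg Cfsg.Agent.Lib
open scoped ComplexConjugate

section main

variable {G : Type*} [Group G] [Fintype G]

attribute [local instance] irrActN

theorem real_bijection (p : ℕ) [Fact p.Prime] (K : Subgroup G) [hK : K.Normal]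
    (hodd : Odd K.index) (P : Sylow p G) (Q : Subgroup G) (hQK : Q ≤ K)
    (hQn : ∀ k ∈ K, ∀ q ∈ Q, k * q * k⁻¹ ∈ Q) (hQp : IsPGroup p Q) (hpK : ¬ p ∣ Q.relIndex K)
    (hC : ∀ k, k ∈ K ⊓ Subgroup.normalizer ((P : Subgroup G) : Set G) ↔
      (k ∈ K ∧ ∀ x ∈ (P : Subgroup G), x * k * x⁻¹ * k⁻¹ ∈ Q))
    (hreal : ∀ χ : IrrCharacter G, (∀ g : G, ((χ : G → ℂ) g).im = 0) →
      ¬ p ∣ charDegree (χ : G → ℂ)) :
    ∃ f : {χ : IrrCharacter G // ∀ g : G, ((χ : G → ℂ) g).im = 0} →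
      {ξ : IrrCharacter ↥(Subgroup.normalizer ((P : Subgroup G) : Set G)) //
        (∀ n, ((ξ : ↥(Subgroup.normalizer ((P : Subgroup G) : Set G)) → ℂ) n).im = 0) ∧
        ¬ p ∣ charDegree (ξ : ↥(Subgroup.normalizer ((P : Subgroup G) : Set G)) → ℂ)},
      Function.Bijective f ∧ ∀ χ,
        ((charDegree ((f χ).1 : ↥(Subgroup.normalizer ((P : Subgroup G) : Set G)) → ℂ) : ZMod p)
            = (charDegree (χ.1 : G → ℂ) : ZMod p) ∨
          (charDegree ((f χ).1 : ↥(Subgroup.normalizer ((P : Subgroup G) : Set G)) → ℂ) : ZMod p)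
            = -(charDegree (χ.1 : G → ℂ) : ZMod p)) := by
  classical
  obtain ⟨N, hN⟩ : ∃ N : Subgroup G, N = Subgroup.normalizer ((P : Subgroup G) : Set G) :=
    ⟨_, rfl⟩
  rw [← hN] at hC ⊢
  have := Fintype.ofFinite N
  have := Fintype.ofFinite K
  have := Fintype.ofFinite (K.subgroupOf N)
  have hoddN : Odd (K.subgroupOf N).index := Helper80.odd_relIndex K hodd N
  have hPN : (P : Subgroup G) ≤ N := hN ▸ Subgroup.le_normalizer
  have hP'n : ((P : Subgroup G).subgroupOf N).Normal := by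
    rw [hN]
    infer_instance
  obtain ⟨g1, g2, g3⟩ := gl_transport K N p P Q P.2 hPN hQK hQn hQp hpK hC
  -- invariance under the normaliser
  have invK_smul : ∀ (n : N) (θ : IrrCharacter K), InvUnder K P (θ : K → ℂ) →
      InvUnder K P ((n • θ : IrrCharacter K) : K → ℂ) := by
    intro n θ h
    rw [← fixed_iff_invUnder] at h ⊢
    intro x
    exact smul_fixed_of_normalizer (P : Subgroup G) θ (fun x hx => h ⟨x, hx⟩) n (hN ▸ n.2) x x.2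
  have invC_smul : ∀ (n : N) (β : IrrCharacter (K.subgroupOf N)),
      InvUnder (K.subgroupOf N) ((P : Subgroup G).subgroupOf N) (β : K.subgroupOf N → ℂ) →
      InvUnder (K.subgroupOf N) ((P : Subgroup G).subgroupOf N)
        ((n • β : IrrCharacter (K.subgroupOf N)) : K.subgroupOf N → ℂ) := by
    intro n β h
    rw [← fixed_iff_invUnder] at h ⊢
    intro x
    exact smul_fixed_of_normalizer ((P : Subgroup G).subgroupOf N) β (fun x hx => h ⟨x, hx⟩) n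
      (by rw [Subgroup.normalizer_eq_top_iff.2 hP'n]; trivial) x x.2
  -- uniqueness of the correspondent
  have guniq : ∀ (θ : IrrCharacter K) (β₁ β₂ : IrrCharacter (K.subgroupOf N)),
      InvUnder K P (θ : K → ℂ) →
      InvUnder (K.subgroupOf N) ((P : Subgroup G).subgroupOf N) (β₁ : K.subgroupOf N → ℂ) →
      InvUnder (K.subgroupOf N) ((P : Subgroup G).subgroupOf N) (β₂ : K.subgroupOf N → ℂ) →
      GlRel K N p θ β₁ → GlRel K N p θ β₂ → β₁ = β₂ := by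
    intro θ β₁ β₂ hθ h₁ h₂ r₁ r₂
    obtain ⟨β, -, -, -, hu⟩ := g1 θ hθ
    rw [hu β₁ h₁ r₁, hu β₂ h₂ r₂]
  -- stabilisers
  have hstab : ∀ (θ : IrrCharacter K) (β : IrrCharacter (K.subgroupOf N)),
      InvUnder K P (θ : K → ℂ) →
      InvUnder (K.subgroupOf N) ((P : Subgroup G).subgroupOf N) (β : K.subgroupOf N → ℂ) →
      GlRel K N p θ β → MulAction.stabilizer N θ = MulAction.stabilizer N β := by
    intro θ β hθ hβ r
    ext n
    rw [MulAction.mem_stabilizer_iff, MulAction.mem_stabilizer_iff]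
    have r' := glRel_smul K N p n θ β r
    constructor
    · intro h
      rw [h] at r'
      exact guniq θ _ _ hθ (invC_smul n β hβ) hβ r' r
    · intro h
      rw [h] at r'
      exact g2 _ _ (invK_smul n θ hθ) hθ β hβ r' r
  -- the relation
  let S : IrrCharacter G → IrrCharacter N → Prop := fun χ ξ =>
    ∃ (θ : IrrCharacter K) (β : IrrCharacter (K.subgroupOf N)),
      (∀ k, ((θ : K → ℂ) k).im = 0) ∧ InvUnder K P (θ : K → ℂ) ∧
      classInner (fun k : K => (χ : G → ℂ) k) (θ : K → ℂ) ≠ 0 ∧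
      (∀ c, ((β : K.subgroupOf N → ℂ) c).im = 0) ∧
      InvUnder (K.subgroupOf N) ((P : Subgroup G).subgroupOf N) (β : K.subgroupOf N → ℂ) ∧
      classInner (fun c : K.subgroupOf N => (ξ : N → ℂ) c) (β : K.subgroupOf N → ℂ) ≠ 0 ∧
      GlRel K N p θ β
  -- (A)
  have hA : ∀ χ : IrrCharacter G, (∀ g : G, ((χ : G → ℂ) g).im = 0) →
      ∃ ξ : IrrCharacter N, (∀ n, ((ξ : N → ℂ) n).im = 0) ∧ S χ ξ ∧
        ((charDegree (ξ : N → ℂ) : ZMod p) = (charDegree (χ : G → ℂ) : ZMod p) ∨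
          (charDegree (ξ : N → ℂ) : ZMod p) = -(charDegree (χ : G → ℂ) : ZMod p)) := by
    intro χ hχ
    obtain ⟨θ₀, hθ₀r, hθ₀o⟩ := exists_real_under K hodd χ hχ
    obtain ⟨χ₀, -, -, hdeg₀, hu₀⟩ := exists_real_over K hodd θ₀ hθ₀r
    have e₀ := hu₀ χ hχ hθ₀o
    have hp₀ : ¬ p ∣ Nat.card (MulAction.orbit G θ₀) := by
      intro h
      apply hreal χ hχ
      rw [e₀, hdeg₀]
      exact Dvd.dvd.mul_right h _
    obtain ⟨g, hg⟩ := exists_fixed_in_orbit (P : Subgroup G) P.2 θ₀ hp₀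
    set θ : IrrCharacter K := g • θ₀ with hθdef
    have hθr : ∀ k, ((θ : K → ℂ) k).im = 0 := real_smul K g θ₀ hθ₀r
    have hθo : classInner (fun k : K => (χ : G → ℂ) k) (θ : K → ℂ) ≠ 0 := by
      rw [hθdef, over_smul K (irr_cf χ.2)]
      exact hθ₀o
    have hθi : InvUnder K P (θ : K → ℂ) := (fixed_iff_invUnder K P θ).1 (fun x => hg x x.2)
    obtain ⟨χ₁, -, -, hdeg₁, hu₁⟩ := exists_real_over K hodd θ hθr
    have e₁ := hu₁ χ hχ hθo
    obtain ⟨β, hβi, hr, hdβ, -⟩ := g1 θ hθi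
    have hβr : ∀ c, ((β : K.subgroupOf N → ℂ) c).im = 0 := by
      rw [← starIrr_eq_iff]
      have r' := glRel_star K N p θ β hr
      rw [(starIrr_eq_iff θ).2 hθr] at r'
      exact guniq θ _ _ hθi (invUnder_star _ _ β hβi) hβi r' hr
    obtain ⟨ξ, hξr, hξo, hdegξ, -⟩ := exists_real_over (K.subgroupOf N) hoddN β hβr
    refine ⟨ξ, hξr, ⟨θ, β, hθr, hθi, hθo, hβr, hβi, hξo, hr⟩, ?_⟩
    have c1 : Nat.card (MulAction.orbit N β) = Nat.card (MulAction.orbit N θ) := by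
      have h1 := MulAction.index_stabilizer N β
      have h2 := MulAction.index_stabilizer N θ
      rw [hstab θ β hθi hβi hr] at h2
      exact (h1.symm.trans h2 : (MulAction.orbit N β).ncard = (MulAction.orbit N θ).ncard)
    have c2 : (Nat.card (MulAction.orbit G θ) : ZMod p) = Nat.card (MulAction.orbit N θ) := by
      have := card_orbit_modEq P θ (fun x hx => hg x hx)
      rw [← hN] at this
      exact (ZMod.natCast_eq_natCast_iff _ _ _).2 this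
    rw [hdegξ, e₁, hdeg₁, c1, Nat.cast_mul, Nat.cast_mul, c2]
    rcases hdβ with h | h
    · left
      rw [h]
    · right
      rw [h, mul_neg]
  -- uniqueness over a real character
  have huG : ∀ (θ : IrrCharacter K) (χ₁ χ₂ : IrrCharacter G), (∀ k, ((θ : K → ℂ) k).im = 0) →
      (∀ g : G, ((χ₁ : G → ℂ) g).im = 0) → (∀ g : G, ((χ₂ : G → ℂ) g).im = 0) →
      classInner (fun k : K => (χ₁ : G → ℂ) k) (θ : K → ℂ) ≠ 0 →
      classInner (fun k : K => (χ₂ : G → ℂ) k) (θ : K → ℂ) ≠ 0 → χ₁ = χ₂ := by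
    intro θ χ₁ χ₂ hθ h₁ h₂ o₁ o₂
    obtain ⟨χ, -, -, -, hu⟩ := exists_real_over K hodd θ hθ
    rw [hu χ₁ h₁ o₁, hu χ₂ h₂ o₂]
  have huN : ∀ (β : IrrCharacter (K.subgroupOf N)) (ξ₁ ξ₂ : IrrCharacter N),
      (∀ c, ((β : K.subgroupOf N → ℂ) c).im = 0) →
      (∀ n, ((ξ₁ : N → ℂ) n).im = 0) → (∀ n, ((ξ₂ : N → ℂ) n).im = 0) →
      classInner (fun c : K.subgroupOf N => (ξ₁ : N → ℂ) c) (β : K.subgroupOf N → ℂ) ≠ 0 →
      classInner (fun c : K.subgroupOf N => (ξ₂ : N → ℂ) c) (β : K.subgroupOf N → ℂ) ≠ 0 →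
      ξ₁ = ξ₂ := by
    intro β ξ₁ ξ₂ hβ h₁ h₂ o₁ o₂
    obtain ⟨ξ, -, -, -, hu⟩ := exists_real_over (K.subgroupOf N) hoddN β hβ
    rw [hu ξ₁ h₁ o₁, hu ξ₂ h₂ o₂]
  -- (B)
  have hB : ∀ (χ : IrrCharacter G) (ξ₁ ξ₂ : IrrCharacter N), (∀ n, ((ξ₁ : N → ℂ) n).im = 0) →
      (∀ n, ((ξ₂ : N → ℂ) n).im = 0) → S χ ξ₁ → S χ ξ₂ → ξ₁ = ξ₂ := by
    rintro χ ξ₁ ξ₂ hr₁ hr₂ ⟨θ₁, β₁, a1, a2, a3, a4, a5, a6, a7⟩ ⟨θ₂, β₂, b1, b2, b3, b4, b5, b6, b7⟩
    obtain ⟨g, hg⟩ := mem_orbit_of_over K χ.2 θ₁ θ₂ a3 b3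
    have hg' : g • θ₁ = θ₂ := hg
    obtain ⟨n, hn, hn'⟩ := sylow_orbit_fusion P θ₁
      (fun x hx => (fixed_iff_invUnder K P θ₁).2 a2 ⟨x, hx⟩) g
      (fun x hx => by rw [hg']; exact (fixed_iff_invUnder K P θ₂).2 b2 ⟨x, hx⟩)
    rw [← hN] at hn
    have r' := glRel_smul K N p ⟨n, hn⟩ θ₁ β₁ a7
    have e1 : ((⟨n, hn⟩ : N) • θ₁ : IrrCharacter K) = θ₂ := hn'.trans hg'
    rw [e1] at r'
    have e2 := guniq θ₂ _ _ b2 (invC_smul ⟨n, hn⟩ β₁ a5) b5 r' b7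
    apply huN β₂ ξ₁ ξ₂ b4 hr₁ hr₂ _ b6
    rw [← e2, over_smul (K.subgroupOf N) (irr_cf ξ₁.2)]
    exact a6
  -- (C)
  have hCc : ∀ (χ₁ χ₂ : IrrCharacter G) (ξ : IrrCharacter N), (∀ g, ((χ₁ : G → ℂ) g).im = 0) →
      (∀ g, ((χ₂ : G → ℂ) g).im = 0) → S χ₁ ξ → S χ₂ ξ → χ₁ = χ₂ := by
    rintro χ₁ χ₂ ξ hr₁ hr₂ ⟨θ₁, β₁, a1, a2, a3, a4, a5, a6, a7⟩ ⟨θ₂, β₂, b1, b2, b3, b4, b5, b6, b7⟩
    obtain ⟨n, hn⟩ := mem_orbit_of_over (K.subgroupOf N) ξ.2 β₁ β₂ a6 b6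
    have hn' : n • β₁ = β₂ := hn
    have r' := glRel_smul K N p n θ₁ β₁ a7
    rw [hn'] at r'
    have e1 := g2 _ _ (invK_smul n θ₁ a2) b2 β₂ b5 r' b7
    apply huG θ₂ χ₁ χ₂ b1 hr₁ hr₂ _ b3
    rw [← e1]
    change classInner (fun k : K => (χ₁ : G → ℂ) k) ((((n : G) • θ₁ : IrrCharacter K)) : K → ℂ) ≠ 0
    rw [over_smul K (irr_cf χ₁.2)]
    exact a3
  -- (D)
  have hD : ∀ ξ : IrrCharacter N, (∀ n, ((ξ : N → ℂ) n).im = 0) → ¬ p ∣ charDegree (ξ : N → ℂ) →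
      ∃ χ : IrrCharacter G, (∀ g, ((χ : G → ℂ) g).im = 0) ∧ S χ ξ := by
    intro ξ hξ hpξ
    obtain ⟨β₀, hβ₀r, hβ₀o⟩ := exists_real_under (K.subgroupOf N) hoddN ξ hξ
    obtain ⟨ξ₀, -, -, hdeg₀, hu₀⟩ := exists_real_over (K.subgroupOf N) hoddN β₀ hβ₀r
    have e₀ := hu₀ ξ hξ hβ₀o
    have hp₀ : ¬ p ∣ Nat.card (MulAction.orbit N β₀) := by
      intro h
      apply hpξ
      rw [e₀, hdeg₀]
      exact Dvd.dvd.mul_right h _
    obtain ⟨n, hn⟩ := exists_fixed_in_orbit ((P : Subgroup G).subgroupOf N) P.2.comap_subtype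
      β₀ hp₀
    set β : IrrCharacter (K.subgroupOf N) := n • β₀ with hβdef
    have hβr : ∀ c, ((β : K.subgroupOf N → ℂ) c).im = 0 := real_smul (K.subgroupOf N) n β₀ hβ₀r
    have hβo : classInner (fun c : K.subgroupOf N => (ξ : N → ℂ) c) (β : K.subgroupOf N → ℂ) ≠ 0 := by
      rw [hβdef, over_smul (K.subgroupOf N) (irr_cf ξ.2)]
      exact hβ₀o
    have hβi : InvUnder (K.subgroupOf N) ((P : Subgroup G).subgroupOf N) (β : K.subgroupOf N → ℂ) :=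
      (fixed_iff_invUnder (K.subgroupOf N) _ β).1 (fun x => hn x x.2)
    obtain ⟨θ, hθi, hr⟩ := g3 β hβi
    have hθr : ∀ k, ((θ : K → ℂ) k).im = 0 := by
      rw [← starIrr_eq_iff]
      have r' := glRel_star K N p θ β hr
      rw [(starIrr_eq_iff β).2 hβr] at r'
      exact g2 _ _ (invUnder_star _ _ θ hθi) hθi β hβi r' hr
    obtain ⟨χ, hχr, hχo, -, -⟩ := exists_real_over K hodd θ hθr
    exact ⟨χ, hχr, θ, β, hθr, hθi, hχo, hβr, hβi, hβo, hr⟩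
  -- assembling
  have hnd : ∀ (χ : IrrCharacter G) (ξ : IrrCharacter N), (∀ g : G, ((χ : G → ℂ) g).im = 0) →
      ((charDegree (ξ : N → ℂ) : ZMod p) = (charDegree (χ : G → ℂ) : ZMod p) ∨
          (charDegree (ξ : N → ℂ) : ZMod p) = -(charDegree (χ : G → ℂ) : ZMod p)) →
      ¬ p ∣ charDegree (ξ : N → ℂ) := by
    intro χ ξ hχ hd hdvd
    have h0 : (charDegree (χ : G → ℂ) : ZMod p) ≠ 0 := by
      rw [Ne, ZMod.natCast_eq_zero_iff]
      exact hreal χ hχ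
    rw [(ZMod.natCast_eq_zero_iff _ _).2 hdvd] at hd
    rcases hd with h | h
    · exact h0 h.symm
    · exact h0 (neg_eq_zero.1 h.symm)
  choose F hF1 hF2 hF3 using hA
  refine ⟨fun χ => ⟨F χ.1 χ.2, hF1 χ.1 χ.2, hnd χ.1 _ χ.2 (hF3 χ.1 χ.2)⟩, ⟨?_, ?_⟩,
    fun χ => hF3 χ.1 χ.2⟩
  · intro χ₁ χ₂ h
    have h' : F χ₁.1 χ₁.2 = F χ₂.1 χ₂.2 := congrArg Subtype.val h
    apply Subtype.ext
    exact hCc χ₁.1 χ₂.1 _ χ₁.2 χ₂.2 (hF2 χ₁.1 χ₁.2) (h' ▸ hF2 χ₂.1 χ₂.2)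
  · rintro ⟨ξ, hξr, hξp⟩
    obtain ⟨χ, hχr, hS⟩ := hD ξ hξr hξp
    refine ⟨⟨χ, hχr⟩, ?_⟩
    apply Subtype.ext
    exact hB χ _ _ (hF1 χ hχr) hξr (hF2 χ hχr) hS

end main

end Cfsg.Agent.Lib.Helper15
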