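import Cfsg.Agent.Lib.Helper15.RealP2
import Cfsg.Agent.Lib.Helper1.MinimalNormal

/-!
# Real characters of degree prime to `p`: the normal Sylow subgroup
-/

set_option autoImplicit false
set_option linter.unusedSectionVars false

namespace Cfsg.Agent.Lib.Helper15

open Cfsg Cfsg.Agent.Lib

universe u

/-- a normal `p`-subgroup of index prime to `p` forces all Sylow `p`-subgroups to be normal -/
theorem sylow_normal_of_exists {G : Type*} [Group G] [Finite G] (p : ℕ) [hp : Fact p.Prime]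
    (R : Subgroup G) (hR : R.Normal) (hpR : IsPGroup p R) (hidx : ¬ p ∣ R.index) (Q : Sylow p G) :
    (Q : Subgroup G).Normal := by
  obtain ⟨Q', hQ'⟩ := hpR.exists_le_sylow
  have h1 : R.relIndex Q' * (Q' : Subgroup G).index = R.index := Subgroup.relIndex_mul_index hQ'
  have h2 : R.relIndex Q' = 1 := by
    obtain ⟨k, hk⟩ := IsPGroup.iff_card.1 Q'.2
    have h3 : R.relIndex Q' ∣ p ^ k := by
      rw [← hk]
      exact Subgroup.relIndex_dvd_card R Q'
    obtain ⟨j, -, hj⟩ := (Nat.dvd_prime_pow hp.1).1 h3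
    rcases Nat.eq_zero_or_pos j with rfl | hj0
    · simpa using hj
    · exfalso
      apply hidx
      rw [← h1, hj]
      exact Dvd.dvd.mul_right (dvd_pow_self p hj0.ne') _
  have h4 : (Q' : Subgroup G) = R := le_antisymm (Subgroup.relIndex_eq_one.1 h2) hQ'
  have h5 : (Q' : Subgroup G).Normal := h4 ▸ hR
  have := Sylow.unique_of_normal Q' h5
  rw [Subsingleton.elim Q Q']
  exact h5

theorem pow_relIndex_mem {G : Type*} [Group G] (K U : Subgroup G) [K.Normal] {x : G}
    (hx : x ∈ U) : x ^ K.relIndex U ∈ K := by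
  have h1 : ((⟨x, hx⟩ : U) : U ⧸ K.subgroupOf U) ^ Nat.card (U ⧸ K.subgroupOf U) = 1 :=
    pow_card_eq_one'
  rw [← QuotientGroup.mk_pow, QuotientGroup.eq_one_iff, ← Subgroup.index_eq_card] at h1
  exact h1

/-- the main lemma -/
theorem real_main (p : ℕ) [hp : Fact p.Prime] :
    ∀ (n : ℕ) (G : Type u) [Group G] [Finite G], Nat.card G = n → RealHyp p G →
      ∀ U : Subgroup G, U.Normal → pGen 2 G ≤ U → (∃ a : ℕ, (pGen 2 G).relIndex U = p ^ a) →
      ∃ R : Subgroup G, R.Normal ∧ R ≤ U ∧ IsPGroup p R ∧ ¬ p ∣ R.relIndex U := by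
  intro n
  induction n using Nat.strong_induction_on with
  | _ n ih =>
  intro G _ _ hn hyp U hU hKU hidx
  obtain ⟨a, ha⟩ := hidx
  have hKn : (pGen 2 G).Normal := pGen_normal 2
  have hWn : (pGen p G).Normal := pGen_normal p
  rcases subsingleton_or_nontrivial G with hsub | hnt
  · refine ⟨⊥, inferInstance, bot_le, IsPGroup.of_bot, ?_⟩
    rw [Subgroup.relIndex_bot_left]
    have : Nat.card U = 1 := Nat.card_unique
    rw [this]
    exact hp.1.one_lt.ne' ∘ Nat.dvd_one.1
  obtain ⟨N, hN, hN1, hmin⟩ := Helper1.exists_minimal_normal (G := G)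
  -- the quotient
  have hcardN : 1 < Nat.card N := by
    rcases Nat.lt_or_ge 1 (Nat.card N) with h | h
    · exact h
    · exfalso
      apply hN1
      apply Subgroup.card_eq_one.1
      have := Nat.card_pos (α := N)
      omega
  have hlt : Nat.card (G ⧸ N) < n := by
    rw [← hn, Subgroup.card_eq_card_quotient_mul_card_subgroup N]
    have := Nat.card_pos (α := G ⧸ N)
    nlinarith
  let f := QuotientGroup.mk' N
  have hf : Function.Surjective f := QuotientGroup.mk'_surjective N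
  have hker : f.ker = N := QuotientGroup.ker_mk' N
  have hUbar : (U.map f).Normal := hU.map f hf
  have hKbar : pGen 2 (G ⧸ N) ≤ U.map f :=
    (pGen_quotient_le 2 N).trans (Subgroup.map_mono hKU)
  have hidxbar : ∃ b : ℕ, (pGen 2 (G ⧸ N)).relIndex (U.map f) = p ^ b := by
    have h1 : (pGen 2 (G ⧸ N)).relIndex (U.map f) ∣ ((pGen 2 G).map f).relIndex (U.map f) :=
      Subgroup.relIndex_dvd_of_le_left _ (map_pGen_le 2 f)
    have h2 : ((pGen 2 G).map f).relIndex (U.map f) ∣ (pGen 2 G).relIndex U := by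
      rw [Subgroup.relIndex_map_map, hker]
      have h3 : U ⊔ N = U ⊔ (pGen 2 G ⊔ N) := by
        rw [← sup_assoc, sup_eq_left.2 hKU]
      rw [h3, Subgroup.relIndex_sup_right]
      exact Subgroup.relIndex_dvd_of_le_left _ le_sup_left
    obtain ⟨b, -, hb⟩ := (Nat.dvd_prime_pow hp.1).1 (ha ▸ h1.trans h2)
    exact ⟨b, hb⟩
  obtain ⟨Rb, hRbn, hRbU, hRbp, hRbi⟩ :=
    ih _ hlt (G ⧸ N) rfl (hyp.quotient N) (U.map f) hUbar hKbar hidxbar
  -- the preimage
  obtain ⟨L, hL⟩ : ∃ L, L = Rb.comap f ⊓ U := ⟨_, rfl⟩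
  have hLn : L.Normal := by
    rw [hL]
    have := hRbn.comap f
    infer_instance
  have hLU : L ≤ U := hL ▸ inf_le_right
  have hLmap : L.map f = Rb := by
    apply le_antisymm
    · rintro _ ⟨x, hx, rfl⟩
      rw [hL] at hx
      exact hx.1
    · intro y hy
      obtain ⟨x, hx, rfl⟩ := hRbU hy
      exact ⟨x, hL ▸ ⟨hy, hx⟩, rfl⟩
  have hLi : ¬ p ∣ L.relIndex U := by
    rw [← hLmap, Subgroup.relIndex_map_map, hker] at hRbi
    have h3 : U ⊔ N = U ⊔ (L ⊔ N) := by
      rw [← sup_assoc, sup_eq_left.2 hLU]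
    rw [h3, Subgroup.relIndex_sup_right, ← Subgroup.inf_relIndex_right] at hRbi
    have h4 : (L ⊔ N) ⊓ U = L := by
      apply le_antisymm
      · intro x hx
        rw [hL]
        refine ⟨?_, hx.2⟩
        have h5 : L ⊔ N ≤ Rb.comap f := by
          apply sup_le
          · exact hL ▸ inf_le_left
          · intro y hy
            rw [Subgroup.mem_comap]
            have : f y = 1 := (QuotientGroup.eq_one_iff y).2 hy
            rw [this]
            exact one_mem _
        exact h5 hx.1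
      · exact le_inf le_sup_left hLU
    rwa [h4] at hRbi
  -- it suffices to find a normal Sylow subgroup of `L`
  suffices hs : ∃ R : Subgroup G, R.Normal ∧ R ≤ L ∧ IsPGroup p R ∧ ¬ p ∣ R.relIndex L by
    obtain ⟨R, h1, h2, h3, h4⟩ := hs
    refine ⟨R, h1, h2.trans hLU, h3, ?_⟩
    rw [← Subgroup.relIndex_mul_relIndex R L U h2 hLU]
    intro h5
    rcases (Nat.Prime.dvd_mul hp.1).1 h5 with h | h
    · exact h4 h
    · exact hLi h
  have hLpow : ∀ x ∈ L, ∃ k : ℕ, x ^ p ^ k ∈ N := by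
    intro x hx
    have hx' : f x ∈ Rb := hLmap ▸ ⟨x, hx, rfl⟩
    obtain ⟨k, hk⟩ := hRbp ⟨f x, hx'⟩
    refine ⟨k, ?_⟩
    have h1 : f x ^ p ^ k = 1 := by simpa using congrArg Subtype.val hk
    rw [← map_pow] at h1
    exact (QuotientGroup.eq_one_iff _).1 h1
  have hself : ¬ p ∣ L.relIndex L := by
    rw [Subgroup.relIndex_self]
    exact hp.1.one_lt.ne' ∘ Nat.dvd_one.1
  -- if `N` is a `p`-group or meets `L` trivially, `L` is a `p`-group
  have hLp_of : (∀ x ∈ N ⊓ L, ∃ k : ℕ, x ^ p ^ k = 1) →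
      ∃ R : Subgroup G, R.Normal ∧ R ≤ L ∧ IsPGroup p R ∧ ¬ p ∣ R.relIndex L := by
    intro h
    refine ⟨L, hLn, le_rfl, ?_, hself⟩
    intro x
    obtain ⟨k, hk⟩ := hLpow x x.2
    obtain ⟨j, hj⟩ := h _ ⟨hk, L.pow_mem x.2 _⟩
    refine ⟨k + j, ?_⟩
    apply Subtype.ext
    rw [Subgroup.coe_pow, pow_add, pow_mul, hj]
    rfl
  rcases hmin (N ⊓ L) inferInstance inf_le_left with hNL | hNL
  · apply hLp_of
    intro x hx
    rw [hNL, Subgroup.mem_bot] at hx
    exact ⟨0, by rw [hx, one_pow]⟩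
  have hNL' : N ≤ L := inf_eq_left.1 hNL
  obtain ⟨R0⟩ : Nonempty (Sylow p L) := inferInstance
  obtain ⟨R, hRdef⟩ : ∃ R, R = (R0 : Subgroup L).map L.subtype := ⟨_, rfl⟩
  have hRL : R ≤ L := hRdef ▸ Subgroup.map_subtype_le _
  have hRp : IsPGroup p R := hRdef ▸ R0.2.map _
  have hRi : ¬ p ∣ R.relIndex L := by
    have h1 : R.subgroupOf L = R0 := by
      rw [hRdef]
      exact Subgroup.comap_map_eq_self_of_injective L.subtype_injective _
    unfold Subgroup.relIndex
    rw [h1]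
    exact R0.not_dvd_index
  have hfrat : Subgroup.normalizer (R : Set G) ⊔ L = ⊤ := hRdef ▸ Sylow.normalizer_sup_eq_top R0
  have hLRN : L ≤ R ⊔ N := by
    rw [← Subgroup.relIndex_eq_one]
    have h1 : (R ⊔ N).relIndex L ∣ R.relIndex L := Subgroup.relIndex_dvd_of_le_left _ le_sup_left
    have h2 : (R ⊔ N).relIndex L ∣ N.relIndex L := Subgroup.relIndex_dvd_of_le_left _ le_sup_right
    obtain ⟨k, hk⟩ := IsPGroup.iff_card.1 hRbp
    rw [← card_map_mk N hNL', show L.map (QuotientGroup.mk' N) = Rb from hLmap, hk] at h2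
    obtain ⟨j, -, hj⟩ := (Nat.dvd_prime_pow hp.1).1 h2
    rcases Nat.eq_zero_or_pos j with rfl | hj0
    · simpa using hj
    · exfalso
      apply hRi
      exact (hj ▸ dvd_pow_self p hj0.ne').trans h1
  obtain ⟨H, hH⟩ : ∃ H, H = Subgroup.normalizer (R : Set G) := ⟨_, rfl⟩
  rw [← hH] at hfrat
  have hRH : R ≤ H := hH ▸ Subgroup.le_normalizer
  have hHN : H ⊔ N = ⊤ := by
    rw [eq_top_iff, ← hfrat]
    exact sup_le le_sup_left (hLRN.trans (sup_le (hRH.trans le_sup_left) le_sup_right))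
  have hdone : N ≤ H → ∃ R : Subgroup G, R.Normal ∧ R ≤ L ∧ IsPGroup p R ∧ ¬ p ∣ R.relIndex L := by
    intro h
    refine ⟨R, ?_, hRL, hRp, hRi⟩
    rw [← Subgroup.normalizer_eq_top_iff, ← hH, ← hHN]
    exact (sup_eq_left.2 h).symm
  have hRW : R ≤ pGen p G := by
    intro x hx
    apply Subgroup.subset_closure
    obtain ⟨k, hk⟩ := (IsPGroup.iff_orderOf.1 hRp) ⟨x, hx⟩
    exact ⟨k, by rw [← hk, Subgroup.orderOf_mk]⟩
  rcases hmin (N ⊓ pGen p G) inferInstance inf_le_left with hNW | hNW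
  · -- `N` centralizes `R`
    apply hdone
    intro y hy
    rw [hH, Subgroup.mem_normalizer_iff]
    have hc : ∀ x ∈ R, y * x * y⁻¹ = x := by
      intro x hx
      have h1 : y * x * y⁻¹ * x⁻¹ ∈ N ⊓ pGen p G := by
        constructor
        · have : y * x * y⁻¹ * x⁻¹ = y * (x * y⁻¹ * x⁻¹) := by group
          rw [this]
          exact N.mul_mem hy (hN.conj_mem _ (N.inv_mem hy) x)
        · exact (pGen p G).mul_mem (hWn.conj_mem _ (hRW hx) y) ((pGen p G).inv_mem (hRW hx))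
      rw [hNW, Subgroup.mem_bot] at h1
      exact mul_inv_eq_one.1 h1
    intro x
    constructor
    · intro hx
      rw [hc x hx]
      exact hx
    · intro hx
      have h2 := hc _ hx
      have h3 : y * x * y⁻¹ = x := by
        have h4 : y * (y * x * y⁻¹) * y⁻¹ = y * x * y⁻¹ := h2
        have h5 := congrArg (fun z => y⁻¹ * z * y) h4
        have e1 : y⁻¹ * (y * (y * x * y⁻¹) * y⁻¹) * y = y * x * y⁻¹ := by group
        have e2 : y⁻¹ * (y * x * y⁻¹) * y = x := by group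
        exact e1.symm.trans (h5.trans e2)
      rw [← h3]
      exact hx
  have hNW' : N ≤ pGen p G := inf_eq_left.1 hNW
  have hNsolv : Group.IsSolvable N := by
    have := hyp.1
    exact Group.isSolvable_of_isSolvable_injective (Subgroup.inclusion_injective hNW')
  obtain ⟨hNcomm, q, hq, hNq⟩ := Helper1.minimal_normal_elementary_abelian N hNsolv hN1 hmin
  have hcomm : ∀ x ∈ N, ∀ y ∈ N, x * y = y * x := by
    intro x hx y hy
    have := hNcomm.is_comm.comm ⟨x, hx⟩ ⟨y, hy⟩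
    exact congrArg Subtype.val this
  by_cases hqp : q = p
  · apply hLp_of
    intro x hx
    exact ⟨1, by rw [pow_one, ← hqp]; exact hNq x hx.1⟩
  have hNHn : (N ⊓ H).Normal := by
    constructor
    intro x hx g
    have hg : g ∈ ((H ⊔ N : Subgroup G) : Set G) := by rw [hHN]; trivial
    rw [Subgroup.mul_normal] at hg
    obtain ⟨h, hh, n', hn', rfl⟩ := Set.mem_mul.1 hg
    have e : h * n' * x * (h * n')⁻¹ = h * (n' * x * n'⁻¹) * h⁻¹ := by group
    have e2 : n' * x * n'⁻¹ = x := by rw [hcomm n' hn' x hx.1]; group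
    rw [e, e2]
    exact ⟨hN.conj_mem x hx.1 h, H.mul_mem (H.mul_mem hh hx.2) (H.inv_mem hh)⟩
  rcases hmin (N ⊓ H) hNHn inf_le_left with hNH | hNH
  swap
  · exact hdone (inf_eq_left.1 hNH)
  exfalso
  have hcop : (Nat.card N).Coprime (Nat.card R) := by
    have : Fact q.Prime := ⟨hq⟩
    obtain ⟨i, hi⟩ := IsPGroup.iff_card.1 (Helper1.isPGroup_of_forall_pow_eq_one hNq)
    obtain ⟨j, hj⟩ := IsPGroup.iff_card.1 hRp
    rw [hi, hj]
    exact Nat.Coprime.pow _ _ ((Nat.coprime_primes hq hp.1).2 hqp)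
  have hC : N ⊓ Subgroup.centralizer (R : Set G) = ⊥ := by
    rw [eq_bot_iff, ← hNH, hH]
    exact inf_le_inf_left N (Subgroup.centralizer_le_normalizer _)
  have hnoreal : ∀ m ∈ N, IsConj m m⁻¹ → m = 1 := by
    intro m hm hmr
    by_contra hm1
    have h1 := card_real_classes_lt N
      (exists_real_lift_of_complement N H hNH (by rw [sup_comm]; exact hHN)) m hm hm1 hmr
    obtain ⟨χ, hχ, n', hn', hne⟩ := exists_real_irr_not_ker N h1
    exact hne (ker_of_not_dvd p N R hRp hcop hC χ (hyp.2 χ hχ) n' hn')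
  have hKC := pGen_two_le_centralizer N hnoreal
  have hq2 : q ≠ 2 := by
    rintro rfl
    obtain ⟨⟨x, hx⟩, hx1'⟩ := Subgroup.ne_bot_iff_exists_ne_one.1 hN1
    have hx1 : x ≠ 1 := fun h => hx1' (Subtype.ext h)
    apply hx1
    apply hnoreal x hx
    have h2 : x * x = 1 := by rw [← pow_two]; exact hNq x hx
    rw [← eq_inv_of_mul_eq_one_left h2]
  have hKH : pGen 2 G ≤ H := by
    rw [Subgroup.closure_le]
    rintro t ⟨k, hk⟩
    have ht : t ∈ Subgroup.centralizer (N : Set G) := hKC (Subgroup.subset_closure ⟨k, hk⟩)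
    have hg : t ∈ ((H ⊔ N : Subgroup G) : Set G) := by rw [hHN]; trivial
    rw [Subgroup.mul_normal] at hg
    obtain ⟨h, hh, n', hn', rfl⟩ := Set.mem_mul.1 hg
    have hcm : Commute h n' := by
      have h0 := (Subgroup.mem_centralizer_iff.1 ht) n' hn'
      have h1 : n' * h * n' = h * n' * n' := by rw [mul_assoc]; exact h0
      exact (mul_right_cancel h1).symm
    have h1 : (h * n') ^ 2 ^ k = 1 := by rw [← hk]; exact pow_orderOf_eq_one _
    rw [hcm.mul_pow] at h1
    have h2 : n' ^ 2 ^ k ∈ N ⊓ H := ⟨N.pow_mem hn' _, by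
      rw [eq_inv_of_mul_eq_one_right h1]
      exact H.inv_mem (H.pow_mem hh _)⟩
    rw [hNH, Subgroup.mem_bot] at h2
    have h3 : n' = 1 := by
      have d1 : orderOf n' ∣ 2 ^ k := orderOf_dvd_of_pow_eq_one h2
      have d2 : orderOf n' ∣ q := orderOf_dvd_of_pow_eq_one (hNq n' hn')
      have d3 : orderOf n' ∣ Nat.gcd (2 ^ k) q := Nat.dvd_gcd d1 d2
      have d4 : Nat.gcd (2 ^ k) q = 1 :=
        Nat.Coprime.pow_left k ((Nat.coprime_primes Nat.prime_two hq).2 (Ne.symm hq2))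
      rw [d4] at d3
      exact orderOf_eq_one_iff.1 (Nat.dvd_one.1 d3)
    rw [h3, mul_one]
    exact hh
  have hNK : N ≤ pGen 2 G := by
    intro x hx
    have h1 : x ^ p ^ a ∈ pGen 2 G := ha ▸ pow_relIndex_mem (pGen 2 G) U (hLU (hNL' hx))
    have h2 : (p ^ a).Coprime (orderOf x) := by
      have d2 : orderOf x ∣ q := orderOf_dvd_of_pow_eq_one (hNq x hx)
      exact Nat.Coprime.coprime_dvd_right d2
        (Nat.Coprime.pow_left a ((Nat.coprime_primes hp.1 hq).2 (Ne.symm hqp)))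
    obtain ⟨m, hm⟩ := exists_pow_eq_self_of_coprime h2
    rw [← hm]
    exact (pGen 2 G).pow_mem h1 m
  apply hN1
  rw [eq_bot_iff, ← hNH]
  exact le_inf le_rfl (hNK.trans hKH)

end Cfsg.Agent.Lib.Helper15
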