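import Cfsg.Agent.Lib.Helper15.RealN3
import Cfsg.Agent.Lib.Helper15.RealP3

/-!
# The Isaacs–Navarro bijection for real characters
-/

set_option autoImplicit false
set_option linter.unusedSectionVars false

namespace Cfsg.Agent.Lib.Helper15

open Cfsg Cfsg.Agent.Lib
open scoped ComplexConjugate

variable {G : Type*} [Group G]

theorem sylow_le_pGen [Finite G] (p : ℕ) [hp : Fact p.Prime] (S : Sylow p G) :
    (S : Subgroup G) ≤ pGen p G := by
  intro s hs
  apply Subgroup.subset_closure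
  obtain ⟨k, hk⟩ := S.2 ⟨s, hs⟩
  have h1 : s ^ p ^ k = 1 := congrArg Subtype.val hk
  obtain ⟨j, -, hj⟩ := (Nat.dvd_prime_pow hp.1).1 (orderOf_dvd_of_pow_eq_one h1)
  exact ⟨j, hj⟩

theorem odd_index_pGen_two [Finite G] : Odd (pGen 2 G).index := by
  have : Fact (Nat.Prime 2) := ⟨Nat.prime_two⟩
  obtain ⟨S⟩ : Nonempty (Sylow 2 G) := inferInstance
  have h1 : (pGen 2 G).index ∣ (S : Subgroup G).index :=
    Subgroup.index_dvd_of_le (sylow_le_pGen 2 S)
  rw [← Nat.not_even_iff_odd, even_iff_two_dvd]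
  intro h2
  exact S.not_dvd_index (h2.trans h1)

theorem normal_pSubgroup_le_sylow [Finite G] (p : ℕ) [Fact p.Prime] (Q : Subgroup G)
    (hQ : Q.Normal) (hQp : IsPGroup p Q) (P : Sylow p G) : Q ≤ P := by
  obtain ⟨P', hP'⟩ := hQp.exists_le_sylow
  obtain ⟨g, rfl⟩ := MulAction.exists_smul_eq G P' P
  intro q hq
  refine ⟨g⁻¹ * q * g, hP' ?_, ?_⟩
  · have := hQ.conj_mem q hq g⁻¹
    rwa [inv_inv] at this
  · change g * (g⁻¹ * q * g) * g⁻¹ = q
    group

theorem pElement_mem_normal_sylow [Finite G] (p : ℕ) [Fact p.Prime] {K Q : Subgroup G}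
    (hQn : ∀ k ∈ K, ∀ q ∈ Q, k * q * k⁻¹ ∈ Q) (hpK : ¬ p ∣ Q.relIndex K)
    {z : G} (hz : z ∈ K) {n : ℕ} (hzn : z ^ p ^ n = 1) : z ∈ Q := by
  have hp : p.Prime := Fact.out
  have hnormal : (Q.subgroupOf K).Normal := by
    constructor
    intro d hd b
    rw [Subgroup.mem_subgroupOf] at hd ⊢
    exact hQn b b.2 d hd
  let y : K := ⟨z, hz⟩
  have hy : y ^ p ^ n = 1 := Subtype.ext hzn
  have h1 : orderOf (y : K ⧸ Q.subgroupOf K) ∣ p ^ n := by
    apply orderOf_dvd_of_pow_eq_one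
    rw [← QuotientGroup.mk_pow, hy]
    rfl
  have h2 : orderOf (y : K ⧸ Q.subgroupOf K) ∣ Q.relIndex K := by
    have := orderOf_dvd_natCard (y : K ⧸ Q.subgroupOf K)
    rwa [← Subgroup.index_eq_card] at this
  have h3 : (p ^ n).Coprime (Q.relIndex K) :=
    Nat.Coprime.pow_left _ ((Nat.Prime.coprime_iff_not_dvd hp).2 hpK)
  have h4 := Nat.eq_one_of_dvd_coprimes h3 h1 h2
  rw [orderOf_eq_one_iff, QuotientGroup.eq_one_iff] at h4
  exact Subgroup.mem_subgroupOf.1 h4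

/-- the description of `N_K(P)` used by the relative Glauberman correspondence -/
theorem mem_inf_normalizer_iff [Finite G] (p : ℕ) [Fact p.Prime] (K Q : Subgroup G)
    (hK : K.Normal) (hQ : Q.Normal) (hQp : IsPGroup p Q) (hpK : ¬ p ∣ Q.relIndex K)
    (P : Sylow p G) (k : G) :
    k ∈ K ⊓ Subgroup.normalizer ((P : Subgroup G) : Set G) ↔
      (k ∈ K ∧ ∀ x ∈ (P : Subgroup G), x * k * x⁻¹ * k⁻¹ ∈ Q) := by
  have hQP := normal_pSubgroup_le_sylow p Q hQ hQp P
  rw [Subgroup.mem_inf]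
  constructor
  · rintro ⟨hk, hn⟩
    refine ⟨hk, fun x hx => ?_⟩
    have h1 : x * k * x⁻¹ * k⁻¹ ∈ K := K.mul_mem (hK.conj_mem k hk x) (K.inv_mem hk)
    have h2 : x * k * x⁻¹ * k⁻¹ ∈ (P : Subgroup G) := by
      have h3 : k * x⁻¹ * k⁻¹ ∈ (P : Subgroup G) :=
        (Subgroup.mem_normalizer_iff.1 hn x⁻¹).1 (Subgroup.inv_mem _ hx)
      have h4 := Subgroup.mul_mem _ hx h3
      have e : x * (k * x⁻¹ * k⁻¹) = x * k * x⁻¹ * k⁻¹ := by group
      rwa [e] at h4
    obtain ⟨n, hn'⟩ := P.2 ⟨_, h2⟩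
    exact pElement_mem_normal_sylow p (fun k _ q hq => hQ.conj_mem q hq k) hpK h1
      (congrArg Subtype.val hn')
  · rintro ⟨hk, h⟩
    refine ⟨hk, ?_⟩
    apply Subgroup.mem_normalizer_fintype
    intro x hx
    have h1 := hQP (h x⁻¹ (Subgroup.inv_mem _ hx))
    have h2 := Subgroup.mul_mem _ hx h1
    have e : x * (x⁻¹ * k * x⁻¹⁻¹ * k⁻¹) = k * x * k⁻¹ := by group
    rwa [e] at h2

/-- **Isaacs–Navarro**: the bijection between the real characters of `G` and the real characters of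
degree prime to `p` of the normaliser of a Sylow `p`-subgroup -/
theorem real_bijection_main [Finite G] (p : ℕ) [Fact p.Prime] (h : RealHyp p G) (P : Sylow p G) :
    ∃ f : {χ : IrrCharacter G // ∀ g : G, ((χ : G → ℂ) g).im = 0} →
      {ξ : IrrCharacter ↥(Subgroup.normalizer ((P : Subgroup G) : Set G)) //
        (∀ n, ((ξ : ↥(Subgroup.normalizer ((P : Subgroup G) : Set G)) → ℂ) n).im = 0) ∧
        ¬ p ∣ charDegree (ξ : ↥(Subgroup.normalizer ((P : Subgroup G) : Set G)) → ℂ)},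
      Function.Bijective f ∧ ∀ χ,
        ((charDegree ((f χ).1 : ↥(Subgroup.normalizer ((P : Subgroup G) : Set G)) → ℂ) : ZMod p)
            = (charDegree (χ.1 : G → ℂ) : ZMod p) ∨
          (charDegree ((f χ).1 : ↥(Subgroup.normalizer ((P : Subgroup G) : Set G)) → ℂ) : ZMod p)
            = -(charDegree (χ.1 : G → ℂ) : ZMod p)) := by
  have := Fintype.ofFinite G
  obtain ⟨R, hRn, hRK, hRp, hRi⟩ := real_main p _ G rfl h (pGen 2 G) (pGen_normal 2)
    le_rfl ⟨0, by rw [Subgroup.relIndex_self, pow_zero]⟩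
  have hKn : (pGen 2 G).Normal := pGen_normal 2
  exact real_bijection p (pGen 2 G) odd_index_pGen_two P R hRK
    (fun k _ q hq => hRn.conj_mem q hq k) hRp hRi
    (mem_inf_normalizer_iff p (pGen 2 G) R hKn hRn hRp hRi P) h.2

end Cfsg.Agent.Lib.Helper15
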