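import Cfsg.Agent.Lib.Helper15.RealN4

/-!
# The normaliser of a Sylow subgroup meets every real class
-/

set_option autoImplicit false
set_option linter.unusedSectionVars false

namespace Cfsg.Agent.Lib.Helper15

open Cfsg Cfsg.Agent.Lib
open scoped ComplexConjugate

variable {G : Type*} [Group G]

/-- real elements lie in the subgroup generated by the `2`-elements -/
theorem real_mem_pGen_two [Finite G] {x : G} (hx : IsConj x x⁻¹) : x ∈ pGen 2 G := by
  have hKn : (pGen 2 G).Normal := pGen_normal 2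
  obtain ⟨g, hg⟩ := isConj_iff.1 hx
  obtain ⟨t, ht, k, hk⟩ := exists_two_element_invert hg
  have htK : t ∈ pGen 2 G := Subgroup.subset_closure ⟨k, hk⟩
  have h1 : x * x ∈ pGen 2 G := by
    have h2 : x * t * x⁻¹ * t⁻¹ ∈ pGen 2 G :=
      Subgroup.mul_mem _ (hKn.conj_mem t htK x) (Subgroup.inv_mem _ htK)
    have e : x * t * x⁻¹ * t⁻¹ = x * x := by
      have h3 : t * x⁻¹ * t⁻¹ = x := by
        have := congrArg (fun z => z⁻¹) ht
        simp only [mul_inv_rev, inv_inv] at this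
        rw [← mul_assoc] at this
        exact this
      calc x * t * x⁻¹ * t⁻¹ = x * (t * x⁻¹ * t⁻¹) := by group
        _ = x * x := by rw [h3]
    rwa [e] at h2
  have h4 : orderOf (x : G ⧸ pGen 2 G) ∣ 2 := by
    apply orderOf_dvd_of_pow_eq_one
    rw [← QuotientGroup.mk_pow, QuotientGroup.eq_one_iff, sq]
    exact h1
  have h5 : orderOf (x : G ⧸ pGen 2 G) ∣ (pGen 2 G).index := by
    rw [Subgroup.index_eq_card]
    exact orderOf_dvd_natCard _
  have h6 : Nat.Coprime 2 (pGen 2 G).index := Nat.coprime_two_left.2 odd_index_pGen_two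
  have h7 := Nat.eq_one_of_dvd_coprimes h6 h4 h5
  rwa [orderOf_eq_one_iff, QuotientGroup.eq_one_iff] at h7

/-- the case where the subgroup generated by the `2`-elements has no `p`-elements -/
theorem real_class_meets_of_coprime [Finite G] (p : ℕ) [Fact p.Prime] (h : RealHyp p G)
    (hK : ∀ z ∈ pGen 2 G, ∀ n : ℕ, z ^ p ^ n = 1 → z = 1) (P : Sylow p G) (x : G)
    (hx : IsConj x x⁻¹) :
    ∃ y ∈ Subgroup.normalizer ((P : Subgroup G) : Set G), IsConj x y := by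
  classical
  have hKn : (pGen 2 G).Normal := pGen_normal 2
  obtain ⟨N, hN⟩ : ∃ N : Subgroup G, N = Subgroup.normalizer ((P : Subgroup G) : Set G) :=
    ⟨_, rfl⟩
  have hmain := real_bijection_main p h P
  rw [← hN] at hmain ⊢
  obtain ⟨f, hf, -⟩ := hmain
  -- counting
  have c1 : Nat.card {χ : IrrCharacter G // ∀ g : G, ((χ : G → ℂ) g).im = 0}
      ≤ Nat.card {ξ : IrrCharacter N // ∀ n, ((ξ : N → ℂ) n).im = 0} := by
    apply Nat.card_le_card_of_injective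
      (fun χ => (⟨(f χ).1, (f χ).2.1⟩ : {ξ : IrrCharacter N // ∀ n, ((ξ : N → ℂ) n).im = 0}))
    intro χ₁ χ₂ h12
    apply hf.1
    apply Subtype.ext
    exact congrArg (fun z : {ξ : IrrCharacter N // ∀ n, ((ξ : N → ℂ) n).im = 0} => z.1) h12
  have e1 : Nat.card {χ : IrrCharacter G // ∀ g : G, ((χ : G → ℂ) g).im = 0}
      = Nat.card {C : ConjClasses G // IsRealCl C} := Cfsg.Agent.S0160.result
  have e2 : Nat.card {ξ : IrrCharacter N // ∀ n, ((ξ : N → ℂ) n).im = 0}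
      = Nat.card {C : ConjClasses N // IsRealCl C} := Cfsg.Agent.S0160.result
  rw [e1, e2] at c1
  -- real elements of `N` centralise `P`
  have hcent : ∀ n : N, IsConj n n⁻¹ → (n : G) ∈ Subgroup.centralizer ((P : Subgroup G) : Set G) := by
    intro n hn
    have hn' : IsConj (n : G) (n : G)⁻¹ := by
      obtain ⟨c, hc⟩ := isConj_iff.1 hn
      exact isConj_iff.2 ⟨c, congrArg Subtype.val hc⟩
    have hnK := real_mem_pGen_two hn'
    rw [Subgroup.mem_centralizer_iff]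
    intro u hu
    have h1 : u * n * u⁻¹ * (n : G)⁻¹ ∈ pGen 2 G :=
      Subgroup.mul_mem _ (hKn.conj_mem _ hnK u) (Subgroup.inv_mem _ hnK)
    have h2 : u * n * u⁻¹ * (n : G)⁻¹ ∈ (P : Subgroup G) := by
      have h3 : (n : G) * u⁻¹ * (n : G)⁻¹ ∈ (P : Subgroup G) :=
        (Subgroup.mem_normalizer_iff.1 (hN ▸ n.2) u⁻¹).1 (Subgroup.inv_mem _ hu)
      have h4 := Subgroup.mul_mem _ hu h3
      have e : u * ((n : G) * u⁻¹ * (n : G)⁻¹) = u * n * u⁻¹ * (n : G)⁻¹ := by group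
      rwa [e] at h4
    obtain ⟨k, hk⟩ := P.2 ⟨_, h2⟩
    have h5 := hK _ h1 k (congrArg Subtype.val hk)
    have h6 : u * n * u⁻¹ = n := mul_inv_eq_one.1 h5
    exact mul_inv_eq_iff_eq_mul.1 h6
  -- the map on real classes
  have hreal : ∀ C : {C : ConjClasses N // IsRealCl C},
      IsRealCl (ConjClasses.map N.subtype C.1) := by
    rintro ⟨C, hC⟩
    obtain ⟨n, rfl⟩ := ConjClasses.mk_surjective C
    have hn := (isRealCl_mk_iff n).1 hC
    change IsRealCl (ConjClasses.mk (n : G))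
    rw [isRealCl_mk_iff]
    obtain ⟨c, hc⟩ := isConj_iff.1 hn
    exact isConj_iff.2 ⟨c, congrArg Subtype.val hc⟩
  let ι : {C : ConjClasses N // IsRealCl C} → {C : ConjClasses G // IsRealCl C} :=
    fun C => ⟨ConjClasses.map N.subtype C.1, hreal C⟩
  have hinj : Function.Injective ι := by
    rintro ⟨C₁, h₁⟩ ⟨C₂, h₂⟩ h12
    obtain ⟨n₁, rfl⟩ := ConjClasses.mk_surjective C₁
    obtain ⟨n₂, rfl⟩ := ConjClasses.mk_surjective C₂
    have h3 : ConjClasses.mk (n₁ : G) = ConjClasses.mk (n₂ : G) := congrArg Subtype.val h12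
    rw [ConjClasses.mk_eq_mk_iff_isConj, isConj_iff] at h3
    obtain ⟨c, hc⟩ := h3
    have hc' : c⁻¹⁻¹ * (n₁ : G) * c⁻¹ = n₂ := by rw [inv_inv]; exact hc
    obtain ⟨m, hm, hm'⟩ := P.conj_eq_normalizer_conj_of_mem_centralizer (n₁ : G) c⁻¹
      (hcent n₁ ((isRealCl_mk_iff n₁).1 h₁))
      (by rw [hc']; exact hcent n₂ ((isRealCl_mk_iff n₂).1 h₂))
    rw [hc'] at hm'
    apply Subtype.ext
    change ConjClasses.mk n₁ = ConjClasses.mk n₂
    rw [ConjClasses.mk_eq_mk_iff_isConj, isConj_iff]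
    refine ⟨⟨m⁻¹, Subgroup.inv_mem _ (hN ▸ hm)⟩, ?_⟩
    apply Subtype.ext
    change m⁻¹ * (n₁ : G) * m⁻¹⁻¹ = n₂
    rw [inv_inv, hm']
  have hbij := hinj.bijective_of_nat_card_le c1
  obtain ⟨⟨C, hC⟩, hCx⟩ := hbij.2 ⟨ConjClasses.mk x, (isRealCl_mk_iff x).2 hx⟩
  obtain ⟨n, rfl⟩ := ConjClasses.mk_surjective C
  have h4 : ConjClasses.mk (n : G) = ConjClasses.mk x := congrArg Subtype.val hCx
  exact ⟨n, n.2, (ConjClasses.mk_eq_mk_iff_isConj.1 h4).symm⟩

/-- **Isaacs–Navarro**: the normaliser of a Sylow `p`-subgroup meets every real class -/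
theorem real_class_meets [Finite G] (p : ℕ) [Fact p.Prime] (h : RealHyp p G) (P : Sylow p G)
    (x : G) (hx : IsConj x x⁻¹) :
    ∃ y ∈ Subgroup.normalizer ((P : Subgroup G) : Set G), IsConj x y := by
  obtain ⟨R, hRn, hRK, hRp, hRi⟩ := real_main p _ G rfl h (pGen 2 G) (pGen_normal 2)
    le_rfl ⟨0, by rw [Subgroup.relIndex_self, pow_zero]⟩
  have hRP := normal_pSubgroup_le_sylow p R hRn hRp P
  have hq := h.quotient R
  have hKq : ∀ z ∈ pGen 2 (G ⧸ R), ∀ n : ℕ, z ^ p ^ n = 1 → z = 1 := by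
    intro z hz n hzn
    obtain ⟨w, hw, rfl⟩ := pGen_quotient_le 2 R hz
    change ((w : G ⧸ R)) ^ p ^ n = 1 at hzn
    change (w : G ⧸ R) = 1
    rw [← QuotientGroup.mk_pow, QuotientGroup.eq_one_iff] at hzn
    obtain ⟨m, hm⟩ := hRp ⟨_, hzn⟩
    have hm' : (w ^ p ^ n) ^ p ^ m = 1 := congrArg Subtype.val hm
    rw [← pow_mul, ← pow_add] at hm'
    rw [QuotientGroup.eq_one_iff]
    exact pElement_mem_normal_sylow p (fun k _ q hq => hRn.conj_mem q hq k) hRi hw hm'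
  have hxq : IsConj (x : G ⧸ R) (x : G ⧸ R)⁻¹ := by
    obtain ⟨c, hc⟩ := isConj_iff.1 hx
    refine isConj_iff.2 ⟨(c : G ⧸ R), ?_⟩
    rw [← QuotientGroup.mk_inv, ← QuotientGroup.mk_mul, ← QuotientGroup.mk_mul, hc,
      QuotientGroup.mk_inv]
  obtain ⟨y, hy, hxy⟩ := real_class_meets_of_coprime p hq hKq
    (P.mapSurjective (QuotientGroup.mk'_surjective R)) (x : G ⧸ R) hxq
  obtain ⟨c, hc⟩ := isConj_iff.1 hxy
  obtain ⟨d, rfl⟩ := QuotientGroup.mk_surjective c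
  refine ⟨d * x * d⁻¹, ?_, isConj_iff.2 ⟨d, rfl⟩⟩
  apply Subgroup.mem_normalizer_fintype
  intro u hu
  have h1 : y * (u : G ⧸ R) * y⁻¹ ∈
      ((P.mapSurjective (QuotientGroup.mk'_surjective R) : Sylow p (G ⧸ R)) : Subgroup (G ⧸ R)) := by
    apply (Subgroup.mem_normalizer_iff.1 hy _).1
    rw [Sylow.coe_mapSurjective]
    exact ⟨u, hu, rfl⟩
  rw [Sylow.coe_mapSurjective] at h1
  obtain ⟨v, hv, hv'⟩ := h1
  rw [← hc] at hv'
  have h2 : ((v : G) : G ⧸ R) = ((d * x * d⁻¹ * u * (d * x * d⁻¹)⁻¹ : G) : G ⧸ R) := by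
    rw [show ((v : G) : G ⧸ R) = QuotientGroup.mk' R v from rfl, hv']
    simp only [QuotientGroup.mk_mul, QuotientGroup.mk_inv]
  rw [QuotientGroup.eq] at h2
  have h3 := Subgroup.mul_mem _ hv (hRP h2)
  rwa [mul_inv_cancel_left] at h3

end Cfsg.Agent.Lib.Helper15
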