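import Mathlib

/-!
# Real elements, subgroups generated by `p`-elements: group-theoretic lemmas
-/

set_option autoImplicit false

namespace Cfsg.Agent.Lib.Helper15

variable {G : Type*} [Group G]

/-- the subgroup generated by the `p`-elements -/
abbrev pGen (p : ℕ) (G : Type*) [Group G] : Subgroup G :=
  Subgroup.closure {g : G | ∃ k : ℕ, orderOf g = p ^ k}

theorem pGen_normal (p : ℕ) : (pGen p G).Normal := by
  constructor
  intro n hn g
  induction hn using Subgroup.closure_induction with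
  | mem x hx =>
    apply Subgroup.subset_closure
    obtain ⟨k, hk⟩ := hx
    refine ⟨k, ?_⟩
    rw [← hk]
    exact (MulAut.conj g).orderOf_eq x
  | one => simp
  | mul x y _ _ hx hy =>
    have : g * (x * y) * g⁻¹ = (g * x * g⁻¹) * (g * y * g⁻¹) := by group
    rw [this]
    exact mul_mem hx hy
  | inv x _ hx =>
    have : g * x⁻¹ * g⁻¹ = (g * x * g⁻¹)⁻¹ := by group
    rw [this]
    exact inv_mem hx

/-- `p`-elements of a homomorphic image lift to `p`-elements -/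
theorem exists_pElement_lift [Finite G] {H : Type*} [Group H] (f : G →* H) (p : ℕ)
    [hp : Fact p.Prime] (x : G) (k : ℕ) (hk : orderOf (f x) = p ^ k) :
    ∃ y : G, f y = f x ∧ ∃ j : ℕ, orderOf y = p ^ j := by
  obtain ⟨a, m, hm, hn⟩ := Nat.exists_eq_pow_mul_and_not_dvd (orderOf_pos x).ne' p hp.1.ne_one
  have hcop : Nat.Coprime m (p ^ a) :=
    Nat.Coprime.pow_right a ((Nat.Prime.coprime_iff_not_dvd hp.1).2 hm).symm
  have hdvd : p ^ k ∣ p ^ a := by
    have h1 : p ^ k ∣ p ^ a * m := by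
      rw [← hn, ← hk]
      exact orderOf_map_dvd f x
    exact (Nat.Coprime.dvd_mul_right
      (Nat.Coprime.pow_left k ((Nat.Prime.coprime_iff_not_dvd hp.1).2 hm))).1 h1
  have he : m ^ Nat.totient (p ^ a) ≡ 1 [MOD p ^ a] := Nat.ModEq.pow_totient hcop
  have hpos : 0 < Nat.totient (p ^ a) := Nat.totient_pos.2 (pow_pos hp.1.pos a)
  refine ⟨x ^ (m ^ Nat.totient (p ^ a)), ?_, ?_⟩
  · rw [map_pow]
    conv_rhs => rw [← pow_one (f x)]
    rw [pow_eq_pow_iff_modEq, hk]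
    exact he.of_dvd hdvd
  · have h2 : (x ^ (m ^ Nat.totient (p ^ a))) ^ (p ^ a) = 1 := by
      rw [← pow_mul]
      apply orderOf_dvd_iff_pow_eq_one.1
      rw [hn, mul_comm]
      exact Nat.mul_dvd_mul (dvd_pow_self m hpos.ne') dvd_rfl
    obtain ⟨j, -, hj⟩ := (Nat.dvd_prime_pow hp.1).1 (orderOf_dvd_of_pow_eq_one h2)
    exact ⟨j, hj⟩

theorem pGen_quotient_le [Finite G] (p : ℕ) [Fact p.Prime] (N : Subgroup G) [N.Normal] :
    pGen p (G ⧸ N) ≤ (pGen p G).map (QuotientGroup.mk' N) := by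
  rw [Subgroup.closure_le]
  rintro y ⟨k, hk⟩
  obtain ⟨x, rfl⟩ := QuotientGroup.mk'_surjective N y
  obtain ⟨z, hz, j, hj⟩ := exists_pElement_lift (QuotientGroup.mk' N) p x k hk
  exact ⟨z, Subgroup.subset_closure ⟨j, hj⟩, hz⟩

theorem map_pGen_le {H : Type*} [Group H] (p : ℕ) [hp : Fact p.Prime] (f : G →* H) :
    (pGen p G).map f ≤ pGen p H := by
  rw [Subgroup.map_le_iff_le_comap, Subgroup.closure_le]
  rintro x ⟨k, hk⟩
  rw [SetLike.mem_coe, Subgroup.mem_comap]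
  apply Subgroup.subset_closure
  have h1 : orderOf (f x) ∣ p ^ k := hk ▸ orderOf_map_dvd f x
  obtain ⟨j, -, hj⟩ := (Nat.dvd_prime_pow hp.1).1 h1
  exact ⟨j, hj⟩

/-- a `2`-element that does not centralize a normal subgroup inverts a nontrivial element -/
theorem exists_real_of_not_commute (M : Subgroup G) [hM : M.Normal] (t : G)
    (ht : ∃ k : ℕ, orderOf t = 2 ^ k) (hnc : ¬ ∀ m ∈ M, t * m = m * t) :
    ∃ m ∈ M, m ≠ 1 ∧ IsConj m m⁻¹ := by
  classical
  obtain ⟨k, hk⟩ := ht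
  have hex : ∃ j : ℕ, ∀ m ∈ M, t ^ 2 ^ j * m = m * t ^ 2 ^ j :=
    ⟨k, fun m _ => by rw [← hk, pow_orderOf_eq_one]; simp⟩
  have hj0 : Nat.find hex ≠ 0 := by
    intro h0
    apply hnc
    have := Nat.find_spec hex
    rw [h0] at this
    simpa using this
  obtain ⟨i, hi⟩ := Nat.exists_eq_succ_of_ne_zero hj0
  have hs2 := Nat.find_spec hex
  have hs1 := Nat.find_min hex (m := i) (by omega)
  rw [hi] at hs2
  push Not at hs1
  obtain ⟨n, hn, hne⟩ := hs1
  obtain ⟨s, hs⟩ : ∃ s, s = t ^ 2 ^ i := ⟨_, rfl⟩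
  rw [← hs] at hne
  have hss : ∀ m ∈ M, s * s * m = m * (s * s) := by
    intro m hm
    have := hs2 m hm
    rw [Nat.succ_eq_add_one, pow_succ, pow_mul, ← hs, pow_two] at this
    exact this
  refine ⟨n⁻¹ * (s * n * s⁻¹), M.mul_mem (M.inv_mem hn) (hM.conj_mem n hn s), ?_, ?_⟩
  · intro h
    apply hne
    have h1 : s * n * s⁻¹ = n := by
      have := congrArg (fun z => n * z) h
      simpa using this
    calc s * n = s * n * s⁻¹ * s := by group
      _ = n * s := by rw [h1]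
  · rw [isConj_iff]
    refine ⟨s, ?_⟩
    have h2 : s * s * n * (s⁻¹ * s⁻¹) = n := by
      rw [hss n hn]; group
    calc s * (n⁻¹ * (s * n * s⁻¹)) * s⁻¹
        = (s * n * s⁻¹)⁻¹ * (s * s * n * (s⁻¹ * s⁻¹)) := by group
      _ = (s * n * s⁻¹)⁻¹ * n := by rw [h2]
      _ = (n⁻¹ * (s * n * s⁻¹))⁻¹ := by group

/-- if a normal subgroup has no nontrivial real elements, it is centralized by the `2`-elements -/
theorem pGen_two_le_centralizer (M : Subgroup G) [hM : M.Normal]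
    (h : ∀ m ∈ M, IsConj m m⁻¹ → m = 1) : pGen 2 G ≤ Subgroup.centralizer (M : Set G) := by
  rw [Subgroup.closure_le]
  intro t ht
  by_contra hcon
  have hnc : ¬ ∀ m ∈ M, t * m = m * t := by
    intro hc
    apply hcon
    rw [SetLike.mem_coe, Subgroup.mem_centralizer_iff]
    intro m hm
    exact (hc m hm).symm
  obtain ⟨m, hm, hm1, hmr⟩ := exists_real_of_not_commute M t ht hnc
  exact hm1 (h m hm hmr)

/-- odd powers of an inverting element invert -/
theorem conj_pow_odd_of_invert {x g : G} (h : g * x * g⁻¹ = x⁻¹) (j : ℕ) :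
    g ^ (2 * j + 1) * x * (g ^ (2 * j + 1))⁻¹ = x⁻¹ := by
  have h' : g * x⁻¹ * g⁻¹ = x := by
    have := congrArg (fun z => z⁻¹) h
    simp only [mul_inv_rev, inv_inv] at this
    rw [← mul_assoc] at this
    exact this
  induction j with
  | zero => simpa using h
  | succ j ih =>
    have e : g ^ (2 * (j + 1) + 1) = g * g * g ^ (2 * j + 1) := by
      rw [show 2 * (j + 1) + 1 = 1 + 1 + (2 * j + 1) by ring, pow_add, pow_add, pow_one]
    rw [e]
    calc g * g * g ^ (2 * j + 1) * x * (g * g * g ^ (2 * j + 1))⁻¹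
        = g * (g * (g ^ (2 * j + 1) * x * (g ^ (2 * j + 1))⁻¹) * g⁻¹) * g⁻¹ := by group
      _ = x⁻¹ := by rw [ih, h', h]

/-- an inverting element can be chosen to be a `2`-element -/
theorem exists_two_element_invert [Finite G] {x g : G} (h : g * x * g⁻¹ = x⁻¹) :
    ∃ t : G, t * x * t⁻¹ = x⁻¹ ∧ ∃ k : ℕ, orderOf t = 2 ^ k := by
  obtain ⟨a, m, hm, hn⟩ := Nat.exists_eq_pow_mul_and_not_dvd (orderOf_pos g).ne' 2 (by norm_num)
  obtain ⟨j, hj⟩ : ∃ j, m = 2 * j + 1 := by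
    have : m % 2 = 1 := by omega
    exact ⟨m / 2, by omega⟩
  refine ⟨g ^ m, ?_, a, ?_⟩
  · rw [hj]
    exact conj_pow_odd_of_invert h j
  · rw [orderOf_pow_of_dvd (by omega) (by rw [hn]; exact Dvd.intro_left _ rfl), hn]
    exact Nat.mul_div_cancel _ (by omega)

/-- real elements of `G ⧸ N` lift to real elements when `N` has odd order -/
theorem exists_real_lift_of_odd [Finite G] (N : Subgroup G) [hN : N.Normal]
    (hodd : Odd (Nat.card N)) (x g : G) (h : g * x * g⁻¹ * x ∈ N) :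
    ∃ y : G, (y : G ⧸ N) = (x : G ⧸ N) ∧ IsConj y y⁻¹ := by
  classical
  have hbar : (g : G ⧸ N) * (x : G ⧸ N) * (g : G ⧸ N)⁻¹ = (x : G ⧸ N)⁻¹ := by
    rw [eq_inv_iff_mul_eq_one, ← QuotientGroup.mk_inv, ← QuotientGroup.mk_mul,
      ← QuotientGroup.mk_mul, ← QuotientGroup.mk_mul]
    exact (QuotientGroup.eq_one_iff _).2 h
  obtain ⟨a, m, hm, hn⟩ := Nat.exists_eq_pow_mul_and_not_dvd (orderOf_pos g).ne' 2 (by norm_num)
  obtain ⟨j, hj⟩ : ∃ j, m = 2 * j + 1 := ⟨m / 2, by omega⟩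
  obtain ⟨t, ht⟩ : ∃ t, t = g ^ m := ⟨_, rfl⟩
  have hto : t ^ 2 ^ a = 1 := by
    rw [ht, ← pow_mul, mul_comm, ← hn, pow_orderOf_eq_one]
  have htbar : (t : G ⧸ N) * (x : G ⧸ N) * (t : G ⧸ N)⁻¹ = (x : G ⧸ N)⁻¹ := by
    rw [ht, QuotientGroup.mk_pow, hj]
    exact conj_pow_odd_of_invert hbar j
  let X := {y : G // (y : G ⧸ N) = (x : G ⧸ N)}
  have := Fintype.ofFinite G
  have hcard : Fintype.card X = Nat.card N := by
    rw [← Nat.card_eq_fintype_card]
    apply Nat.card_congr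
    refine ⟨fun y => ⟨x⁻¹ * y.1, QuotientGroup.eq.1 y.2.symm⟩,
      fun n => ⟨x * n.1, ?_⟩, ?_, ?_⟩
    · rw [QuotientGroup.mk_mul, (QuotientGroup.eq_one_iff _).2 n.2, mul_one]
    · intro y; apply Subtype.ext; simp
    · intro n; apply Subtype.ext; simp
  let σ : Equiv.Perm X :=
    { toFun := fun y => ⟨t * y.1⁻¹ * t⁻¹, by
        rw [QuotientGroup.mk_mul, QuotientGroup.mk_mul, QuotientGroup.mk_inv, QuotientGroup.mk_inv,
          y.2]
        have := congrArg (fun z => z⁻¹) htbar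
        simp only [mul_inv_rev, inv_inv] at this
        rw [← mul_assoc] at this
        exact this⟩
      invFun := fun y => ⟨t⁻¹ * y.1⁻¹ * t, by
        rw [QuotientGroup.mk_mul, QuotientGroup.mk_mul, QuotientGroup.mk_inv, QuotientGroup.mk_inv,
          y.2, ← htbar]
        group⟩
      left_inv := fun y => Subtype.ext (by simp only; group)
      right_inv := fun y => Subtype.ext (by simp only; group) }
  have hσ : ∀ y : X, (σ y).1 = t * y.1⁻¹ * t⁻¹ := fun _ => rfl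
  have hpow : ∀ (i : ℕ) (y : X), ((σ ^ (2 * i)) y).1 = t ^ (2 * i) * y.1 * (t ^ (2 * i))⁻¹ := by
    intro i
    induction i with
    | zero => intro y; simp
    | succ i ih =>
      intro y
      rw [show 2 * (i + 1) = 1 + 1 + 2 * i by ring, pow_add, pow_add, pow_one, Equiv.Perm.mul_apply,
        Equiv.Perm.mul_apply, hσ, hσ, ih, pow_add, pow_add, pow_one]
      group
  have hσ1 : σ ^ 2 ^ (a + 1) = 1 := by
    ext y
    rw [pow_succ, mul_comm, hpow, mul_comm, pow_mul, hto]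
    simp
  have hnd : ¬ 2 ∣ Fintype.card X := by
    rw [hcard]
    exact hodd.not_two_dvd_nat
  obtain ⟨y, hy⟩ := Equiv.Perm.exists_fixed_point_of_prime (p := 2) hnd hσ1
  refine ⟨y.1, y.2, ?_⟩
  have h1 : t * y.1⁻¹ * t⁻¹ = y.1 := by
    rw [← hσ, hy]
  exact (isConj_iff.2 ⟨t, h1⟩).symm

/-- real elements of `G ⧸ N` lift to real elements when `N` has a complement -/
theorem exists_real_lift_of_complement (N H : Subgroup G) [hN : N.Normal] (h1 : N ⊓ H = ⊥)
    (h2 : N ⊔ H = ⊤) (x g : G) (h : g * x * g⁻¹ * x ∈ N) :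
    ∃ y : G, (y : G ⧸ N) = (x : G ⧸ N) ∧ IsConj y y⁻¹ := by
  have hdec : ∀ z : G, ∃ n ∈ N, ∃ k ∈ H, z = n * k := by
    intro z
    have hz : z ∈ ((N ⊔ H : Subgroup G) : Set G) := by rw [h2]; trivial
    rw [Subgroup.normal_mul] at hz
    obtain ⟨n, hn, k, hk, rfl⟩ := Set.mem_mul.1 hz
    exact ⟨n, hn, k, hk, rfl⟩
  obtain ⟨n, hn, y, hy, rfl⟩ := hdec x
  obtain ⟨n', hn', k, hk, rfl⟩ := hdec g
  have e1 : ((n * y : G) : G ⧸ N) = (y : G ⧸ N) := by
    rw [QuotientGroup.mk_mul, (QuotientGroup.eq_one_iff _).2 hn, one_mul]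
  refine ⟨y, e1.symm, ?_⟩
  have e2 : ((n' * k : G) : G ⧸ N) = (k : G ⧸ N) := by
    rw [QuotientGroup.mk_mul, (QuotientGroup.eq_one_iff _).2 hn', one_mul]
  have h3 : k * y * k⁻¹ * y ∈ N := by
    rw [← QuotientGroup.eq_one_iff] at h ⊢
    rw [QuotientGroup.mk_mul, QuotientGroup.mk_mul, QuotientGroup.mk_mul, QuotientGroup.mk_inv,
      e1, e2] at h
    rw [QuotientGroup.mk_mul, QuotientGroup.mk_mul, QuotientGroup.mk_mul, QuotientGroup.mk_inv]
    exact h
  have h4 : k * y * k⁻¹ * y ∈ N ⊓ H :=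
    ⟨h3, H.mul_mem (H.mul_mem (H.mul_mem hk hy) (H.inv_mem hk)) hy⟩
  rw [h1, Subgroup.mem_bot] at h4
  rw [isConj_iff]
  exact ⟨k, eq_inv_of_mul_eq_one_left h4⟩

/-- a real conjugacy class -/
def IsRealCl (C : ConjClasses G) : Prop := ∀ g : G, ConjClasses.mk g = C → IsConj g g⁻¹

theorem isRealCl_mk_iff (x : G) : IsRealCl (ConjClasses.mk x) ↔ IsConj x x⁻¹ := by
  constructor
  · intro h
    exact h x rfl
  · intro h g hg
    rw [ConjClasses.mk_eq_mk_iff_isConj] at hg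
    obtain ⟨c, hc⟩ := isConj_iff.1 hg
    have h2 : IsConj g⁻¹ x⁻¹ := isConj_iff.2 ⟨c, by rw [← hc]; group⟩
    exact (hg.trans h).trans h2.symm

/-- if real elements lift and `N` contains a nontrivial real element, then `G` has more real
classes than `G ⧸ N` -/
theorem card_real_classes_lt [Finite G] (N : Subgroup G) [hN : N.Normal]
    (hlift : ∀ x g : G, g * x * g⁻¹ * x ∈ N → ∃ y : G, (y : G ⧸ N) = (x : G ⧸ N) ∧ IsConj y y⁻¹)
    (n : G) (hn : n ∈ N) (hn1 : n ≠ 1) (hreal : IsConj n n⁻¹) :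
    Nat.card {C : ConjClasses (G ⧸ N) // IsRealCl C} < Nat.card {C : ConjClasses G // IsRealCl C} := by
  classical
  have := Fintype.ofFinite {C : ConjClasses (G ⧸ N) // IsRealCl C}
  have := Fintype.ofFinite {C : ConjClasses G // IsRealCl C}
  have hmap : ∀ C : {C : ConjClasses G // IsRealCl C},
      IsRealCl (ConjClasses.map (QuotientGroup.mk' N) C.1) := by
    rintro ⟨C, hC⟩
    obtain ⟨x, rfl⟩ := ConjClasses.mk_surjective C
    rw [isRealCl_mk_iff] at hC
    show IsRealCl (ConjClasses.mk (QuotientGroup.mk' N x))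
    rw [isRealCl_mk_iff, ← map_inv]
    exact (QuotientGroup.mk' N).map_isConj hC
  let φ : {C : ConjClasses G // IsRealCl C} → {C : ConjClasses (G ⧸ N) // IsRealCl C} :=
    fun C => ⟨ConjClasses.map (QuotientGroup.mk' N) C.1, hmap C⟩
  rw [Nat.card_eq_fintype_card, Nat.card_eq_fintype_card]
  apply Fintype.card_lt_of_surjective_not_injective φ
  · rintro ⟨D, hD⟩
    obtain ⟨q, rfl⟩ := ConjClasses.mk_surjective D
    obtain ⟨x, rfl⟩ := QuotientGroup.mk_surjective q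
    rw [isRealCl_mk_iff] at hD
    obtain ⟨c, hc⟩ := isConj_iff.1 hD
    obtain ⟨g, rfl⟩ := QuotientGroup.mk_surjective c
    have h1 : g * x * g⁻¹ * x ∈ N := by
      rw [← QuotientGroup.eq_one_iff, QuotientGroup.mk_mul, QuotientGroup.mk_mul,
        QuotientGroup.mk_mul, QuotientGroup.mk_inv, hc]
      simp
    obtain ⟨y, hy, hyr⟩ := hlift x g h1
    refine ⟨⟨ConjClasses.mk y, (isRealCl_mk_iff y).2 hyr⟩, ?_⟩
    apply Subtype.ext
    show ConjClasses.mk (QuotientGroup.mk' N y) = _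
    rw [QuotientGroup.mk'_apply, hy]
  · intro hinj
    have h1 : φ ⟨ConjClasses.mk n, (isRealCl_mk_iff n).2 hreal⟩
        = φ ⟨ConjClasses.mk 1, (isRealCl_mk_iff 1).2 (by simp)⟩ := by
      apply Subtype.ext
      show ConjClasses.mk (QuotientGroup.mk' N n) = ConjClasses.mk (QuotientGroup.mk' N 1)
      rw [QuotientGroup.mk'_apply, (QuotientGroup.eq_one_iff n).2 hn, map_one]
    have h2 := congrArg Subtype.val (hinj h1)
    rw [ConjClasses.mk_eq_mk_iff_isConj] at h2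
    exact hn1 (isConj_one_right.1 h2.symm)

end Cfsg.Agent.Lib.Helper15
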