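import Cfsg.Agent.Lib.Helper15.RealP1
import Cfsg.Agent.Lib.Helper15.RelGl2
import Cfsg.Agent.Lib.Helper15.Glauberman5
import Cfsg.Agent.Lib.Helper15.Gallagher
import Cfsg.Agent.S0160
import Cfsg.Agent.Lib.Helper15.LinearHom
import Cfsg.Agent.Lib.Helper78.DefectZero

/-!
# Real characters of degree prime to `p`: character-theoretic lemmas
-/

set_option autoImplicit false
set_option linter.unusedSectionVars false

namespace Cfsg.Agent.Lib.Helper15

open Cfsg Cfsg.Agent.Lib
open scoped ComplexConjugate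

/-- the hypothesis of the Isaacs–Navarro paper -/
def RealHyp (p : ℕ) (G : Type*) [Group G] : Prop :=
  Group.IsSolvable (pGen p G) ∧
    ∀ χ : IrrCharacter G, (∀ g : G, ((χ : G → ℂ) g).im = 0) → ¬ p ∣ charDegree (χ : G → ℂ)

variable {G : Type*} [Group G]

theorem RealHyp.quotient [Finite G] {p : ℕ} [Fact p.Prime] (h : RealHyp p G) (N : Subgroup G)
    [N.Normal] : RealHyp p (G ⧸ N) := by
  constructor
  · have := h.1
    have h1 : Group.IsSolvable ((pGen p G).map (QuotientGroup.mk' N)) :=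
      Group.isSolvable_of_surjective ((QuotientGroup.mk' N).subgroupMap_surjective (pGen p G))
    exact Group.isSolvable_of_isSolvable_injective
      (Subgroup.inclusion_injective (pGen_quotient_le p N))
  · intro ψ hψ
    exact h.2 ⟨fun g => (ψ : G ⧸ N → ℂ) (g : G ⧸ N), Helper80.isIrrCharacter_inflate N ψ.2⟩
      (fun g => hψ _)

/-- more real classes than the quotient: a real irreducible character not containing `N` in its
kernel -/
theorem exists_real_irr_not_ker [Finite G] (N : Subgroup G) [N.Normal]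
    (h : Nat.card {C : ConjClasses (G ⧸ N) // IsRealCl C}
      < Nat.card {C : ConjClasses G // IsRealCl C}) :
    ∃ χ : IrrCharacter G, (∀ g : G, ((χ : G → ℂ) g).im = 0) ∧
      ∃ n ∈ N, (χ : G → ℂ) n ≠ (χ : G → ℂ) 1 := by
  by_contra hcon
  push Not at hcon
  have e1 : Nat.card {χ : IrrCharacter G // ∀ g : G, ((χ : G → ℂ) g).im = 0}
      = Nat.card {C : ConjClasses G // IsRealCl C} := Cfsg.Agent.S0160.result
  have e2 : Nat.card {χ : IrrCharacter (G ⧸ N) // ∀ g : G ⧸ N, ((χ : G ⧸ N → ℂ) g).im = 0}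
      = Nat.card {C : ConjClasses (G ⧸ N) // IsRealCl C} := Cfsg.Agent.S0160.result
  rw [← e1, ← e2] at h
  have hex : ∀ χ : {χ : IrrCharacter G // ∀ g : G, ((χ : G → ℂ) g).im = 0},
      ∃ ψ : G ⧸ N → ℂ, IsIrrCharacter (G ⧸ N) ψ ∧ ∀ g : G, ψ (g : G ⧸ N) = (χ.1 : G → ℂ) g :=
    fun χ => Helper80.exists_deflate_irr N χ.1.2 (hcon χ.1 χ.2)
  choose ψ hψ hψ' using hex
  have hinj : Function.Injective
      (fun χ : {χ : IrrCharacter G // ∀ g : G, ((χ : G → ℂ) g).im = 0} =>
        (⟨⟨ψ χ, hψ χ⟩, fun q => by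
          obtain ⟨g, rfl⟩ := QuotientGroup.mk_surjective q
          show ((ψ χ) (g : G ⧸ N)).im = 0
          rw [hψ' χ g]
          exact χ.2 g⟩ :
          {χ : IrrCharacter (G ⧸ N) // ∀ g : G ⧸ N, ((χ : G ⧸ N → ℂ) g).im = 0})) := by
    intro χ₁ χ₂ h12
    have h3 : ψ χ₁ = ψ χ₂ := congrArg (fun z => (z.1.1 : G ⧸ N → ℂ)) h12
    apply Subtype.ext
    apply Subtype.ext
    funext g
    rw [← hψ' χ₁ g, ← hψ' χ₂ g, h3]
  exact absurd (Nat.card_le_card_of_injective _ hinj) (not_le.2 h)

section act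

variable [Fintype G] (N : Subgroup G) [hN : N.Normal] [Fintype N]

attribute [local instance] irrActN

/-- a character of degree prime to `p` has a constituent on `N` of degree prime to `p`, invariant
under a given `p`-subgroup -/
theorem exists_inv_constituent (p : ℕ) [Fact p.Prime] (R : Subgroup G) (hR : IsPGroup p R)
    {χ : G → ℂ} (hχ : IsCharacter G χ) (hd : ¬ p ∣ charDegree χ) :
    ∃ θ : IrrCharacter N, InvUnder N R (θ : N → ℂ) ∧
      classInner (fun n : N => χ n) (θ : N → ℂ) ≠ 0 ∧ ¬ p ∣ charDegree (θ : N → ℂ) := by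
  classical
  obtain ⟨m, hm, -, hdeg⟩ := Helper80.exists_mult_spec (char_restrict hχ N)
  have hdeg' : charDegree (fun n : N => χ n) = charDegree χ := by
    simp [charDegree]
  rw [hdeg'] at hdeg
  have hA : ∀ a : ZMod p, p • a = 0 := by
    intro a
    rw [nsmul_eq_mul, ZMod.natCast_self, zero_mul]
  have e1 := Helper16.sum_eq_sum_fixedPoints (Γ := R) (X := IrrCharacter N) p hR hA
    (fun θ => ((m θ * charDegree (θ : N → ℂ) : ℕ) : ZMod p))
    (by
      intro x θ
      have h1 : m (x • θ) = m θ := by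
        have : (m (x • θ) : ℂ) = m θ := by
          rw [← hm, ← hm, irrActN_sub_coe, classInner_restrict_cj N _ (char_cf hχ)]
        exact_mod_cast this
      have h2 : charDegree ((x • θ : IrrCharacter N) : N → ℂ) = charDegree (θ : N → ℂ) := by
        unfold charDegree
        rw [irrActN_sub_coe, cj_apply_one]
      simp only [h1, h2])
  have e3 : ((charDegree χ : ℕ) : ZMod p) ≠ 0 := by
    rw [Ne, ZMod.natCast_eq_zero_iff]
    exact hd
  rw [hdeg, Nat.cast_sum, e1] at e3
  obtain ⟨θ, hθ, hθ'⟩ := Finset.exists_ne_zero_of_sum_ne_zero e3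
  rw [Finset.mem_filter] at hθ
  rw [Ne, ZMod.natCast_eq_zero_iff] at hθ'
  refine ⟨θ, (fixed_iff_invUnder N R θ).1 hθ.2, ?_, ?_⟩
  · rw [hm]
    intro h0
    apply hθ'
    have : m θ = 0 := by exact_mod_cast h0
    rw [this, zero_mul]
    exact dvd_zero p
  · intro h0
    exact hθ' (Dvd.dvd.mul_left h0 _)

end act

/-- if the trivial character is a constituent of `χ_N` then `N` is in the kernel -/
theorem ker_of_trivial_constituent [Fintype G] (N : Subgroup G) [hN : N.Normal] [Fintype N]
    {χ : G → ℂ} (hχ : IsIrrCharacter G χ)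
    (h : classInner (fun n : N => χ n) (fun _ : N => (1 : ℂ)) ≠ 0) : ∀ n ∈ N, χ n = χ 1 := by
  have h1 := restrict_eq_smul_of_invariant N hχ (irr_one (G := N)) h (fun g => rfl)
  intro n hn
  have h2 := congrFun h1 ⟨n, hn⟩
  have h3 := congrFun h1 1
  simp only [Pi.smul_apply, smul_eq_mul, mul_one] at h2 h3
  rw [h2]
  exact h3.symm

/-- a `p`-group acting on `N` coprimely without fixed points: characters of degree prime to `p`
contain `N` in their kernel -/
theorem ker_of_not_dvd [Finite G] (p : ℕ) [Fact p.Prime] (N R : Subgroup G) [hN : N.Normal]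
    (hR : IsPGroup p R) (hcop : (Nat.card N).Coprime (Nat.card R))
    (hC : N ⊓ Subgroup.centralizer (R : Set G) = ⊥) (χ : IrrCharacter G)
    (hχ : ¬ p ∣ charDegree (χ : G → ℂ)) : ∀ n ∈ N, (χ : G → ℂ) n = (χ : G → ℂ) 1 := by
  classical
  have := Fintype.ofFinite G
  obtain ⟨θ, hθ, hθ', -⟩ := exists_inv_constituent N p R hR (irr_char χ.2) hχ
  have hsolv : Group.IsSolvable R := by
    have := hR.isNilpotent
    infer_instance
  have hcard := card_inv_eq R hsolv _ N rfl (fun s _ g hg => hN.conj_mem g hg s) hcop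
  rw [hC] at hcard
  have h1 : Nat.card (IrrCharacter ↥(⊥ : Subgroup G)) = 1 := by
    rw [Helper3.card_irrCharacter]
    have : Subsingleton (ConjClasses ↥(⊥ : Subgroup G)) := by
      constructor
      intro a b
      obtain ⟨x, rfl⟩ := ConjClasses.mk_surjective a
      obtain ⟨y, rfl⟩ := ConjClasses.mk_surjective b
      rw [Subsingleton.elim x y]
    exact Nat.card_unique
  rw [h1] at hcard
  have hsub : Subsingleton {χ : IrrCharacter N // InvUnder N R (χ : N → ℂ)} :=
    (Nat.card_eq_one_iff_unique.1 hcard).1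
  have h2 : (⟨θ, hθ⟩ : {χ : IrrCharacter N // InvUnder N R (χ : N → ℂ)})
      = ⟨⟨fun _ => 1, irr_one⟩, fun _ _ _ _ _ => rfl⟩ := Subsingleton.elim _ _
  have h3 : (θ : N → ℂ) = fun _ => 1 := congrArg (fun z => (z.1.1 : N → ℂ)) h2
  rw [h3] at hθ'
  exact ker_of_trivial_constituent N χ.2 hθ'

/-- a character of degree prime to `p` has a linear constituent on every `p`-subgroup -/
theorem exists_linear_constituent [Finite G] (p : ℕ) [hp : Fact p.Prime] (P : Subgroup G)
    [Fintype P] (hP : IsPGroup p P) {χ : G → ℂ} (hχ : IsCharacter G χ)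
    (hd : ¬ p ∣ charDegree χ) :
    ∃ ν : IrrCharacter P, classInner (fun x : P => χ x) (ν : P → ℂ) ≠ 0 ∧ (ν : P → ℂ) 1 = 1 := by
  classical
  obtain ⟨m, hm, -, hdeg⟩ := Helper80.exists_mult_spec (char_restrict hχ P)
  have hdeg' : charDegree (fun n : P => χ n) = charDegree χ := by
    simp [charDegree]
  rw [hdeg'] at hdeg
  have hex : ∃ ν : IrrCharacter P, ¬ p ∣ m ν * charDegree (ν : P → ℂ) := by
    by_contra hcon
    push Not at hcon
    apply hd
    rw [hdeg]
    exact Finset.dvd_sum (fun ν _ => hcon ν)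
  obtain ⟨ν, hν⟩ := hex
  refine ⟨ν, ?_, ?_⟩
  · rw [hm]
    intro h0
    apply hν
    have : m ν = 0 := by exact_mod_cast h0
    rw [this, zero_mul]
    exact dvd_zero p
  · obtain ⟨k, hk⟩ := IsPGroup.iff_card.1 hP
    have h1 := Helper78.irr_charDegree_dvd_card ν
    rw [hk] at h1
    obtain ⟨j, -, hj⟩ := (Nat.dvd_prime_pow hp.1).1 h1
    have hj0 : j = 0 := by
      by_contra hj0
      apply hν
      rw [hj]
      exact Dvd.dvd.mul_left (dvd_pow_self p hj0) _
    rw [Helper80.char_one_eq_charDegree (irr_char ν.2), hj, hj0]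
    simp

/-- a normal subgroup inside the derived subgroup of a `p`-subgroup is in the kernel of every
irreducible character of degree prime to `p` -/
theorem ker_of_le_commutator [Finite G] (p : ℕ) [Fact p.Prime] (P M : Subgroup G) [hM : M.Normal]
    (hP : IsPGroup p P) (hMP : M ≤ ⁅P, P⁆) (χ : IrrCharacter G)
    (hχ : ¬ p ∣ charDegree (χ : G → ℂ)) : ∀ m ∈ M, (χ : G → ℂ) m = (χ : G → ℂ) 1 := by
  classical
  have := Fintype.ofFinite G
  obtain ⟨ν, hν, hν1⟩ := exists_linear_constituent p P hP (irr_char χ.2) hχ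
  obtain ⟨f, hf⟩ := exists_toFn (irr_char ν.2) hν1
  have hle : M ≤ P := hMP.trans (Subgroup.commutator_le_self P)
  have hres : resFun hle (ν : P → ℂ) = fun _ => 1 := by
    funext x
    have hx : (x : G) ∈ (commutator P).map P.subtype := by
      rw [Subgroup.map_subtype_commutator]
      exact hMP x.2
    obtain ⟨y, hy, hyx⟩ := hx
    have hy' : y = ⟨(x : G), hle x.2⟩ := Subtype.ext hyx
    have h1 : f y = 1 := Abelianization.commutator_subset_ker f hy
    rw [resFun_apply, ← hy', hf, toFn_apply, h1]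
    rfl
  apply ker_of_trivial_constituent M χ.2
  have h2 := inner_ne_zero_of_constituent (resFunLin hle) (fun γ hγ => char_resFun hle hγ)
    (char_restrict (irr_char χ.2) P) ν.2 hν (irr_char (irr_one (G := M)))
    (by
      rw [resFunLin_apply, hres]
      rw [irr_inner_self irr_one]
      exact one_ne_zero)
  exact h2

end Cfsg.Agent.Lib.Helper15
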