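import Cfsg.Agent.Lib.Helper15.CyclicGl2
import Cfsg.Agent.Lib.Helper80.AbelianQuot
import Cfsg.Agent.S0193

/-!
# `L = K ⋊ W₁` with `W₁` cyclic and `C_K(x) = W₂` for all `x ∈ W₁ ∖ {1}`
-/

set_option autoImplicit false
set_option linter.unusedSectionVars false

namespace Cfsg.Agent.Lib.Helper15

open Cfsg Cfsg.Agent.Lib
open scoped ComplexConjugate Pointwise

section typeP

variable {L : Type*} [Group L] [Fintype L] {K W₁ W₂ : Subgroup L}

theorem typeP_setup [hK : K.Normal] (hKW₁ : K ⊓ W₁ = ⊥) (hKW₁' : K ⊔ W₁ = ⊤) (hW₁ : W₁ ≠ ⊥)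
    (hW₁c : IsCyclic W₁) (hHall : Nat.Coprime (Nat.card W₁) W₁.index)
    (hC : ∀ x ∈ W₁, x ≠ 1 → K ⊓ Subgroup.centralizer ({x} : Set L) = W₂) :
    CycSetup K W₁ W₂ := by
  have hmul : (K : Set L) * (W₁ : Set L) = Set.univ := by
    rw [← Subgroup.normal_mul, hKW₁']; rfl
  have hcompl : K.IsComplement' W₁ :=
    Subgroup.isComplement'_of_disjoint_and_mul_eq_univ (disjoint_iff.2 hKW₁) hmul
  refine ⟨fun s _ g hg => hK.conj_mem g hg s, ?_, hKW₁', ?_⟩
  · rw [← hcompl.index_eq_card]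
    exact hHall.symm
  · obtain ⟨s, hs⟩ := W₁.isCyclic_iff_exists_zpowers_eq_top.mp hW₁c
    have hs1 : s ≠ 1 := by
      rintro rfl
      apply hW₁
      rw [← hs, Subgroup.zpowers_one_eq_bot]
    rw [← hC s (hs ▸ Subgroup.mem_zpowers s) hs1, ← centralizer_zpowers_eq, hs]

theorem invUnder_iff_funext [hK : K.Normal] (T : Subgroup L) (θ : K → ℂ) :
    (∀ x ∈ T, (fun k : K => θ ⟨x * k * x⁻¹, hK.conj_mem (k : L) k.2 x⟩) = θ) ↔ InvUnder K T θ := by
  constructor
  · intro h s hs g g' hg'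
    rw [← congrFun (h s hs) g]
    exact congrArg _ (Subtype.ext hg')
  · intro h x hx
    funext k
    exact h x hx k _ rfl

/-- an irreducible character of `K` fixed by one non-identity element of `W₁` is fixed by `W₁` -/
theorem typeP_inv_of_inv (h : CycSetup K W₁ W₂) (hW₁c : IsCyclic W₁)
    (hC : ∀ x ∈ W₁, x ≠ 1 → K ⊓ Subgroup.centralizer ({x} : Set L) = W₂)
    {x : L} (hx : x ∈ W₁) (hx1 : x ≠ 1) (θ : IrrCharacter K)
    (hθ : InvUnder K (Subgroup.zpowers x) (θ : K → ℂ)) : InvUnder K W₁ (θ : K → ℂ) := by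
  have hle : Subgroup.zpowers x ≤ W₁ := by
    rw [Subgroup.zpowers_le]; exact hx
  have hsolv : Group.IsSolvable W₁ :=
    Group.isSolvable_of_comm (fun a b => IsCyclic.commGroup.mul_comm a b)
  have hsolv' : Group.IsSolvable (Subgroup.zpowers x) :=
    Group.isSolvable_of_comm (fun a b => IsCyclic.commGroup.mul_comm a b)
  have h1 := card_inv_eq W₁ hsolv _ K rfl h.hnorm h.hcop
  have h2 := card_inv_eq (Subgroup.zpowers x) hsolv' _ K rfl (fun s hs => h.hnorm s (hle hs))
    (Nat.Coprime.coprime_dvd_right (Subgroup.card_dvd_of_le hle) h.hcop)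
  rw [centralizer_zpowers_eq, hC x hx hx1] at h2
  rw [← h.hC] at h1
  have hsub : {χ : IrrCharacter K | InvUnder K W₁ (χ : K → ℂ)}
      ⊆ {χ : IrrCharacter K | InvUnder K (Subgroup.zpowers x) (χ : K → ℂ)} :=
    fun χ hχ => invUnder_mono hle hχ
  have heq := Set.eq_of_subset_of_ncard_le hsub (by
    rw [← Nat.card_coe_set_eq, ← Nat.card_coe_set_eq]
    exact (h2.trans h1.symm).le) (Set.toFinite _)
  have : θ ∈ {χ : IrrCharacter K | InvUnder K W₁ (χ : K → ℂ)} := by
    rw [heq]; exact hθ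
  exact this

theorem invUnder_iff_le_inertia [hK : K.Normal] (T : Subgroup L) (θ : K → ℂ) :
    InvUnder K T θ ↔ T ≤ inertia K θ := by
  rw [← invUnder_iff_funext]
  rfl

/-- the inertia group of a character which is not `W₁`-invariant is `K` -/
theorem typeP_inertia [hK : K.Normal] (h : CycSetup K W₁ W₂) (hW₁c : IsCyclic W₁)
    (hC : ∀ x ∈ W₁, x ≠ 1 → K ⊓ Subgroup.centralizer ({x} : Set L) = W₂)
    {θ : K → ℂ} (hθ : IsIrrCharacter K θ) (hninv : ¬ InvUnder K W₁ θ) : inertia K θ = K := by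
  apply le_antisymm _ (le_inertia K (irr_cf hθ))
  intro g hg
  obtain ⟨k, hk, x, hx, rfl⟩ := h.decomp g
  have hxI : x ∈ inertia K θ := by
    have h1 : k⁻¹ ∈ inertia K θ := le_inertia K (irr_cf hθ) (K.inv_mem hk)
    have h2 := (inertia K θ).mul_mem h1 hg
    rwa [inv_mul_cancel_left] at h2
  by_cases hx1 : x = 1
  · rw [hx1, mul_one]; exact hk
  · exfalso
    apply hninv
    apply typeP_inv_of_inv h hW₁c hC hx hx1 ⟨θ, hθ⟩
    rw [invUnder_iff_le_inertia, Subgroup.zpowers_le]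
    exact hxI

theorem typeP_ind_irr [hK : K.Normal] (h : CycSetup K W₁ W₂) (hW₁c : IsCyclic W₁)
    (hC : ∀ x ∈ W₁, x ≠ 1 → K ⊓ Subgroup.centralizer ({x} : Set L) = W₂)
    {θ : K → ℂ} (hθ : IsIrrCharacter K θ) (hninv : ¬ InvUnder K W₁ θ) :
    IsIrrCharacter L (indFun K θ) := by
  rw [isIrr_iff]
  refine ⟨char_indFun K (irr_char hθ), ?_⟩
  have h1 := Cfsg.Agent.S0193.result K θ hθ
  have h2 : Nat.card {g : L // ∀ k : K, θ ⟨g * k * g⁻¹, hK.conj_mem k k.2 g⟩ = θ k}
      = Nat.card K := by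
    apply Nat.card_congr
    apply Equiv.subtypeEquivRight
    intro g
    rw [← cj_eq_iff, ← mem_inertia, typeP_inertia h hW₁c hC hθ hninv]
  rw [h2] at h1
  have hK0 : (Nat.card K : ℂ) ≠ 0 := by
    have : Nat.card K ≠ 0 := Nat.card_pos.ne'
    exact_mod_cast this
  exact mul_left_cancel₀ hK0 (h1.trans (mul_one _).symm)

theorem typeP_card_inv (h : CycSetup K W₁ W₂) (hW₁c : IsCyclic W₁) (hW₂c : IsCyclic W₂) :
    Nat.card {χ : IrrCharacter K // InvUnder K W₁ (χ : K → ℂ)} = Nat.card W₂ := by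
  have hsolv : Group.IsSolvable W₁ :=
    Group.isSolvable_of_comm (fun a b => IsCyclic.commGroup.mul_comm a b)
  rw [card_inv_eq W₁ hsolv _ K rfl h.hnorm h.hcop, ← h.hC]
  exact Helper80.card_irr_of_comm (fun a b => IsCyclic.commGroup.mul_comm a b)

theorem typeP_commutator_le [hK : K.Normal] (h : CycSetup K W₁ W₂) (hW₁c : IsCyclic W₁) :
    commutator L ≤ K := by
  rw [← Subgroup.Normal.quotient_commutative_iff_commutator_le, isMulCommutative_iff]
  intro a b
  obtain ⟨a, rfl⟩ := QuotientGroup.mk_surjective a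
  obtain ⟨b, rfl⟩ := QuotientGroup.mk_surjective b
  obtain ⟨k, hk, x, hx, rfl⟩ := h.decomp a
  obtain ⟨k', hk', x', hx', rfl⟩ := h.decomp b
  have hxx : x * x' = x' * x :=
    congrArg Subtype.val (IsCyclic.commGroup.mul_comm (⟨x, hx⟩ : W₁) ⟨x', hx'⟩)
  simp only [QuotientGroup.mk_mul, (QuotientGroup.eq_one_iff k).2 hk,
    (QuotientGroup.eq_one_iff k').2 hk', one_mul]
  rw [← QuotientGroup.mk_mul, ← QuotientGroup.mk_mul, hxx]

/-- an invariant character induces to the sum of its `|W₁|` extensions -/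
theorem typeP_ind_inv [hK : K.Normal] (h : CycSetup K W₁ W₂) (hW₁c : IsCyclic W₁)
    {θ : K → ℂ} (hθ : IsIrrCharacter K θ) (hinv : InvUnder K W₁ θ) :
    ∃ C : Finset (IrrCharacter L), C.card = Nat.card W₁ ∧
      indFun K θ = ∑ ψ ∈ C, (ψ : L → ℂ) ∧ ∀ ψ : IrrCharacter L, ψ ∈ C ↔ ∀ k : K, (ψ : L → ℂ) k = θ k := by
  classical
  obtain ⟨χh, hc, hext⟩ := h.exists_canon hθ hinv
  have hinv' : ∀ t : L, cj K t θ = θ := by
    intro t
    rw [← show (fun k : K => χh k) = θ from funext hext]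
    exact cj_restrict K t (irr_cf hc.irr)
  obtain ⟨e, C, he, hcard, hind, hdeg, hcon⟩ :=
    Helper80.ind_invariant_abelian K (typeP_commutator_le h hW₁c) hθ hinv'
  -- inner products of the induced character
  have hinner : ∀ ψ : IrrCharacter L, classInner (indFun K θ) (ψ : L → ℂ)
      = (e : ℂ) * (if ψ ∈ C then 1 else 0) := by
    intro ψ
    rw [hind, classInner_smul_left, classInner_sum_left]
    congr 1
    split_ifs with hψ
    · rw [Finset.sum_eq_single_of_mem ψ hψ, irr_inner_self ψ.2]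
      intro φ _ hne
      exact irr_inner_ne φ.2 ψ.2 (fun h0 => hne (Subtype.ext h0))
    · apply Finset.sum_eq_zero
      intro φ hφ
      exact irr_inner_ne φ.2 ψ.2 (fun h0 => hψ ((Subtype.ext h0 : φ = ψ) ▸ hφ))
  have hinner' : ∀ ψ : IrrCharacter L, (∀ k : K, (ψ : L → ℂ) k = θ k) →
      classInner (indFun K θ) (ψ : L → ℂ) = 1 := by
    intro ψ hψ
    rw [classInner_indFun_left K θ _ (irr_cf ψ.2), show (fun k : K => (ψ : L → ℂ) k) = θ from
      funext hψ, irr_inner_self hθ]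
  have he1 : e = 1 := by
    have h1 := hinner ⟨χh, hc.irr⟩
    rw [hinner' ⟨χh, hc.irr⟩ hext] at h1
    split_ifs at h1 with h2
    · rw [mul_one] at h1
      exact_mod_cast h1.symm
    · rw [mul_zero] at h1
      exact absurd h1 one_ne_zero
  subst he1
  refine ⟨C, ?_, ?_, ?_⟩
  · rw [one_pow, one_mul, h.card_top, mul_comm] at hcard
    exact Nat.eq_of_mul_eq_mul_left Nat.card_pos hcard
  · rw [hind]; simp
  · intro ψ
    constructor
    · intro hψ
      have h1 := hdeg ψ hψ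
      rw [Nat.cast_one, one_mul] at h1
      have h2 : charDegree (fun k : K => (ψ : L → ℂ) k) = charDegree θ := by
        unfold charDegree
        rw [← h1]
        rfl
      have h3 := Helper80.eq_of_constituent_of_degree (char_restrict (irr_char ψ.2) K) ⟨θ, hθ⟩
        (hcon ψ hψ) h2
      exact fun k => congrFun h3 k
    · intro hψ
      have h1 := hinner ψ
      rw [hinner' ψ hψ] at h1
      by_contra h2
      rw [if_neg h2, mul_zero] at h1
      exact one_ne_zero h1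

end typeP

end Cfsg.Agent.Lib.Helper15
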