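import Cfsg.Agent.Lib.Helper15.CoprimeCount
import Cfsg.Agent.Lib.Helper15.Glauberman5
import Cfsg.Agent.Lib.Helper15.TypeP
import Cfsg.Agent.Lib.Helper80.Inflation
import Cfsg.Agent.Lib.Helper80.Constituent
import Cfsg.Agent.Lib.Helper81.Det
import Cfsg.Agent.S0868
import Cfsg.Agent.S0867

/-!
# Tools for the relative Glauberman correspondence (normal Sylow `p`-subgroup)
-/

set_option autoImplicit false
set_option linter.unusedSectionVars false

namespace Cfsg.Agent.Lib.Helper15

open Cfsg Cfsg.Agent.Lib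
open scoped ComplexConjugate

section surj

variable {A B : Type*} [Group A] [Group B]

theorem sum_comp_surj [Fintype A] [Fintype B] (f : A →* B) (hf : Function.Surjective f)
    (F : B → ℂ) : (Nat.card B : ℂ) * ∑ a, F (f a) = (Nat.card A : ℂ) * ∑ b, F b := by
  have h1 : ∀ b : B, ∑ a, F (b * f a) = ∑ a, F (f a) := by
    intro b
    obtain ⟨a₀, rfl⟩ := hf b
    simp_rw [← map_mul]
    exact Equiv.sum_comp (Equiv.mulLeft a₀) (fun a => F (f a))
  have h2 : ∑ b : B, ∑ a, F (b * f a) = (Nat.card B : ℂ) * ∑ a, F (f a) := by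
    rw [Finset.sum_congr rfl (fun b _ => h1 b), Finset.sum_const, Finset.card_univ, nsmul_eq_mul,
      Nat.card_eq_fintype_card]
  rw [← h2, Finset.sum_comm]
  have h3 : ∀ a : A, ∑ b : B, F (b * f a) = ∑ b, F b :=
    fun a => Equiv.sum_comp (Equiv.mulRight (f a)) F
  rw [Finset.sum_congr rfl (fun a _ => h3 a), Finset.sum_const, Finset.card_univ, nsmul_eq_mul,
    Nat.card_eq_fintype_card]

theorem classInner_comp_surj [Fintype A] [Fintype B] (f : A →* B) (hf : Function.Surjective f)
    (φ ψ : B → ℂ) : classInner (fun a => φ (f a)) (fun a => ψ (f a)) = classInner φ ψ := by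
  unfold classInner
  have h := sum_comp_surj f hf (fun b => φ b * conj (ψ b))
  have hA : (Nat.card A : ℂ) ≠ 0 := card_ne_zero A
  have hB : (Nat.card B : ℂ) ≠ 0 := card_ne_zero B
  field_simp
  linear_combination h

theorem exists_deflate_surj [Finite A] (f : A →* B) (hf : Function.Surjective f) {γ : A → ℂ}
    (hγ : IsIrrCharacter A γ) (hker : ∀ a, f a = 1 → γ a = γ 1) :
    ∃ β : B → ℂ, IsIrrCharacter B β ∧ ∀ a, β (f a) = γ a := by
  obtain ⟨ψ, hψ, hψγ⟩ := Helper80.exists_deflate_irr f.ker hγ (fun n hn => hker n hn)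
  let e : A ⧸ f.ker ≃* B := QuotientGroup.quotientKerEquivOfSurjective f hf
  refine ⟨ψ ∘ e.symm, irr_comp_equiv e.symm hψ, fun a => ?_⟩
  have : e.symm (f a) = (a : A ⧸ f.ker) := by
    rw [MulEquiv.symm_apply_eq]
    rfl
  rw [Function.comp_apply, this, hψγ]

theorem detOrder_comp_equiv [Finite A] [Finite B] (e : A ≃* B) {χ : B → ℂ}
    (h : IsCharacter B χ) : detOrder (fun a => χ (e a)) = detOrder χ := by
  unfold detOrder
  have h1 : detChar (fun a => χ (e a)) = fun a => detChar χ (e a) := by
    funext a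
    exact Helper81.detChar_comp e.toMonoidHom h a
  rw [h1]
  let F : (B → ℂ) →* (A → ℂ) :=
    { toFun := fun u a => u (e a)
      map_one' := rfl
      map_mul' := fun _ _ => rfl }
  change orderOf (F (detChar χ)) = _
  apply orderOf_injective
  intro u v huv
  funext b
  have := congrFun huv (e.symm b)
  simpa [F] using this

end surj

section irr

variable {X : Type*} [Group X] [Fintype X]

/-- a character with an irreducible restriction is irreducible -/
theorem irr_of_restrict_irr (N : Subgroup X) {χ : X → ℂ} (hχ : IsCharacter X χ)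
    (h : IsIrrCharacter N (fun n : N => χ n)) : IsIrrCharacter X χ := by
  classical
  have hne : χ ≠ 0 := by
    intro h0
    apply irr_one_ne_zero h
    change χ ((1 : N) : X) = 0
    rw [h0]; rfl
  obtain ⟨ψ, hψ, hψ1⟩ := exists_constituent hχ hne
  have hΔ := char_sub_irr hχ hψ hψ1
  have hsum : (fun n : N => χ n) = (fun n : N => ψ n) + (fun n : N => (χ - ψ) n) := by
    funext n
    simp
  rcases Helper80.eq_zero_or_eq_zero_of_irr_eq_add ⟨_, h⟩ (char_restrict (irr_char hψ) N)
    (char_restrict hΔ N) hsum with h0 | h0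
  · exact absurd (congrFun h0 1) (irr_one_ne_zero hψ)
  · have h1 : (χ - ψ) 1 = 0 := congrFun h0 1
    have h2 := Helper80.eq_zero_of_char_one_eq_zero hΔ h1
    rw [sub_eq_zero.1 h2]
    exact hψ

/-- multiplying by `|η|²`, for `η` an irreducible character with irreducible restriction to `N`,
does not change the sum of a function constant on the cosets of `N` -/
theorem sum_normSq_mul (N : Subgroup X) [N.Normal] [Fintype N] {η : X → ℂ}
    (hη : IsIrrCharacter X η) (hηN : IsIrrCharacter N (fun n : N => η n)) (f : X → ℂ)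
    (hf : ∀ (n : N) (x : X), f (n * x) = f x) :
    ∑ x, η x * conj (η x) * f x = ∑ x, f x := by
  have hN0 : (Nat.card N : ℂ) ≠ 0 := card_ne_zero N
  have h1 : ∀ x : X, ∑ n : N, η ((n : X) * x) * conj (η ((n : X) * x)) = Nat.card N := by
    intro x
    have := congrFun ((Cfsg.Agent.S0868.result N η hη hηN η hη _ rfl).2.2 rfl) x
    rw [inv_mul_eq_iff_eq_mul₀ hN0, mul_one] at this
    exact this
  have h2 : ∀ n : N, ∑ x, η x * conj (η x) * f x
      = ∑ x, η ((n : X) * x) * conj (η ((n : X) * x)) * f x := by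
    intro n
    rw [← Equiv.sum_comp (Equiv.mulLeft (n : X))]
    apply Finset.sum_congr rfl
    intro x _
    simp only [Equiv.coe_mulLeft, hf]
  apply mul_left_cancel₀ hN0
  calc (Nat.card N : ℂ) * ∑ x, η x * conj (η x) * f x
      = ∑ n : N, ∑ x, η ((n : X) * x) * conj (η ((n : X) * x)) * f x := by
        rw [← Finset.sum_congr rfl (fun n _ => h2 n), Finset.sum_const, Finset.card_univ,
          nsmul_eq_mul, Nat.card_eq_fintype_card]
    _ = ∑ x, (∑ n : N, η ((n : X) * x) * conj (η ((n : X) * x))) * f x := by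
        rw [Finset.sum_comm]
        apply Finset.sum_congr rfl
        intro x _
        rw [Finset.sum_mul]
    _ = (Nat.card N : ℂ) * ∑ x, f x := by
        simp_rw [h1]
        rw [Finset.mul_sum]

/-- Gallagher, inner product form -/
theorem classInner_mul_ext (N : Subgroup X) [N.Normal] [Fintype N] {η : X → ℂ}
    (hη : IsIrrCharacter X η) (hηN : IsIrrCharacter N (fun n : N => η n)) (a b : X → ℂ)
    (ha : ∀ (n : N) (x : X), a (n * x) = a x) (hb : ∀ (n : N) (x : X), b (n * x) = b x) :
    classInner (a * η) (b * η) = classInner a b := by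
  unfold classInner
  congr 1
  rw [← sum_normSq_mul N hη hηN (fun x => a x * conj (b x)) (fun n x => by rw [ha, hb])]
  apply Finset.sum_congr rfl
  intro x _
  simp only [Pi.mul_apply, map_mul]
  ring

end irr

section relcliff

variable {G : Type*} [Group G] [Fintype G]

/-- induction from `T` to `K`, for subgroups `T ≤ K` of an ambient group -/
noncomputable def relInd (T K : Subgroup G) [Fintype K] (ψ : T → ℂ) : K → ℂ :=
  indFun (T.subgroupOf K) (downFun T K ψ)

/-- restriction as a linear map -/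
def resFunLin {H K : Subgroup G} (h : H ≤ K) : (K → ℂ) →ₗ[ℂ] (H → ℂ) where
  toFun := resFun h
  map_add' _ _ := rfl
  map_smul' _ _ := rfl

theorem resFunLin_apply {H K : Subgroup G} (h : H ≤ K) (ψ : K → ℂ) :
    resFunLin h ψ = resFun h ψ := rfl

variable {T K : Subgroup G} [Fintype K] [Fintype T]

theorem char_relInd (hTK : T ≤ K) {ψ : T → ℂ} (hψ : IsCharacter T ψ) :
    IsCharacter K (relInd T K ψ) :=
  char_indFun _ (char_downFun hTK hψ)

theorem relInd_one (ψ : T → ℂ) : relInd T K ψ 1 = (T.relIndex K : ℂ) * ψ 1 := by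
  unfold relInd
  rw [indFun_one]
  rfl

/-- Frobenius reciprocity -/
theorem classInner_relInd_left (hTK : T ≤ K) (ψ : T → ℂ) {χ : K → ℂ} (hχ : IsClassFunction K χ) :
    classInner (relInd T K ψ) χ = classInner ψ (resFun hTK χ) :=
  classInner_indFun_downFun_left hTK ψ χ hχ

theorem classInner_relInd_right (hTK : T ≤ K) (ψ : T → ℂ) {χ : K → ℂ} (hχ : IsClassFunction K χ) :
    classInner χ (relInd T K ψ) = classInner (resFun hTK χ) ψ := by
  rw [← classInner_conj_symm, classInner_relInd_left hTK ψ hχ, classInner_conj_symm]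

variable {L : Subgroup G} [hL : L.Normal] [Fintype L]

/-- **Clifford correspondence** for subgroups of an ambient group. -/
theorem rel_clifford_correspondence (hLT : L ≤ T) (hTK : T ≤ K) {θ : L → ℂ}
    (hθ : IsIrrCharacter L θ) (hT : T = K ⊓ inertia L θ) :
    (∀ ψ : T → ℂ, IsIrrCharacter T ψ → classInner (resFun hLT ψ) θ ≠ 0 →
      IsIrrCharacter K (relInd T K ψ)) ∧
    (∀ ψ ψ' : T → ℂ, IsIrrCharacter T ψ → IsIrrCharacter T ψ' → classInner (resFun hLT ψ) θ ≠ 0 →
      classInner (resFun hLT ψ') θ ≠ 0 → ψ ≠ ψ' →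
      classInner (relInd T K ψ) (relInd T K ψ') = 0) ∧
    (∀ ψ : T → ℂ, IsIrrCharacter T ψ → classInner (resFun hLT ψ) θ ≠ 0 →
      classInner (resFun (hLT.trans hTK) (relInd T K ψ)) θ = classInner (resFun hLT ψ) θ) ∧
    (∀ χ : K → ℂ, IsIrrCharacter K χ → classInner (resFun (hLT.trans hTK) χ) θ ≠ 0 →
      ∃ ψ : T → ℂ, IsIrrCharacter T ψ ∧ classInner (resFun hLT ψ) θ ≠ 0 ∧ relInd T K ψ = χ) := by
  classical
  have hLK : L ≤ K := hLT.trans hTK
  have := Fintype.ofFinite (L.subgroupOf K)
  have := Fintype.ofFinite (T.subgroupOf K)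
  have hT' : ∀ g : K, g ∈ T.subgroupOf K ↔
      cj (L.subgroupOf K) g (downFun L K θ) = downFun L K θ := by
    intro g
    rw [cj_downFun, (downFun_injective L K hLK).eq_iff, Subgroup.mem_subgroupOf, hT,
      Subgroup.mem_inf, mem_inertia]
    exact ⟨fun h => h.2, fun h => ⟨g.2, h⟩⟩
  have hNT : L.subgroupOf K ≤ T.subgroupOf K := by
    intro x hx
    rw [Subgroup.mem_subgroupOf] at hx ⊢
    exact hLT hx
  obtain ⟨c1, c2, c3, c4⟩ := clifford_correspondence (L.subgroupOf K) (irr_downFun hLK hθ)
    (T.subgroupOf K) hT' hNT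
  have key : ∀ ψ : T → ℂ, classInner (resFun hNT (downFun T K ψ)) (downFun L K θ)
      = classInner (resFun hLT ψ) θ := by
    intro ψ
    exact classInner_downFun hLK (resFun hLT ψ) θ
  refine ⟨?_, ?_, ?_, ?_⟩
  · intro ψ hψ h0
    exact c1 _ (irr_downFun hTK hψ) (by rw [key]; exact h0)
  · intro ψ ψ' hψ hψ' h0 h0' hne
    exact c2 _ _ (irr_downFun hTK hψ) (irr_downFun hTK hψ') (by rw [key]; exact h0)
      (by rw [key]; exact h0') (fun h => hne (downFun_injective T K hTK h))
  · intro ψ hψ h0
    have := c3 _ (irr_downFun hTK hψ) (by rw [key]; exact h0)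
    rw [key] at this
    rw [← this]
    exact (classInner_downFun hLK (resFun hLK (relInd T K ψ)) θ).symm
  · intro χ hχ h0
    obtain ⟨ψ', hψ', h1, h2⟩ := c4 χ hχ (by
      have := classInner_downFun hLK (resFun hLK χ) θ
      rw [downFun_resFun] at this
      rw [this]
      exact h0)
    refine ⟨upFun hTK ψ', irr_upFun hTK hψ', ?_, ?_⟩
    · rw [← key, downFun_upFun]
      exact h1
    · unfold relInd
      rw [downFun_upFun]
      exact h2

end relcliff

end Cfsg.Agent.Lib.Helper15
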