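import Cfsg.Agent.Lib.Helper15.RelGl2

/-!
# Characters over an extendible character of a normal subgroup: the local parametrisation
-/

set_option autoImplicit false
set_option linter.unusedSectionVars false

namespace Cfsg.Agent.Lib.Helper15

open Cfsg Cfsg.Agent.Lib
open scoped ComplexConjugate

section loc

variable {Γ : Type*} [Group Γ] [Fintype Γ] (Q : Subgroup Γ) [hQ : Q.Normal]

/-- inflation from the image of `T` in `Γ ⧸ Q` -/
noncomputable def infl (T : Subgroup Γ) (β : T.map (QuotientGroup.mk' Q) → ℂ) : T → ℂ :=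
  fun t => β ((QuotientGroup.mk' Q).subgroupMap T t)

theorem infl_apply (T : Subgroup Γ) (β : T.map (QuotientGroup.mk' Q) → ℂ) (t : T) :
    infl Q T β t = β ((QuotientGroup.mk' Q).subgroupMap T t) := rfl

theorem subgroupMap_eq_one_iff (T : Subgroup Γ) (t : T) :
    (QuotientGroup.mk' Q).subgroupMap T t = 1 ↔ (t : Γ) ∈ Q := by
  rw [← QuotientGroup.eq_one_iff, Subtype.ext_iff]
  rfl

theorem irr_infl (T : Subgroup Γ) {β : T.map (QuotientGroup.mk' Q) → ℂ}
    (hβ : IsIrrCharacter _ β) : IsIrrCharacter T (infl Q T β) :=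
  Helper80.isIrrCharacter_comp _ ((QuotientGroup.mk' Q).subgroupMap_surjective T) hβ

theorem char_infl (T : Subgroup Γ) {β : T.map (QuotientGroup.mk' Q) → ℂ}
    (hβ : IsCharacter _ β) : IsCharacter T (infl Q T β) :=
  Helper80.isCharacter_comp _ hβ

theorem infl_one (T : Subgroup Γ) (β : T.map (QuotientGroup.mk' Q) → ℂ) :
    infl Q T β 1 = β 1 := by
  rw [infl_apply, map_one]

theorem infl_mul_left (T : Subgroup Γ) (β : T.map (QuotientGroup.mk' Q) → ℂ)
    (n : Q.subgroupOf T) (t : T) : infl Q T β (n * t) = infl Q T β t := by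
  rw [infl_apply, infl_apply, map_mul,
    (subgroupMap_eq_one_iff Q T n).2 (Subgroup.mem_subgroupOf.1 n.2), one_mul]

theorem infl_of_mem (T : Subgroup Γ) (β : T.map (QuotientGroup.mk' Q) → ℂ) (t : T)
    (ht : (t : Γ) ∈ Q) : infl Q T β t = β 1 := by
  rw [infl_apply, (subgroupMap_eq_one_iff Q T t).2 ht]

theorem classInner_infl (T : Subgroup Γ) [Fintype T] [Fintype (T.map (QuotientGroup.mk' Q))]
    (β β' : T.map (QuotientGroup.mk' Q) → ℂ) :
    classInner (infl Q T β) (infl Q T β') = classInner β β' :=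
  classInner_comp_surj _ ((QuotientGroup.mk' Q).subgroupMap_surjective T) β β'

theorem infl_injective (T : Subgroup Γ) : Function.Injective (infl Q T) := by
  intro β β' h
  funext y
  obtain ⟨t, rfl⟩ := (QuotientGroup.mk' Q).subgroupMap_surjective T y
  exact congrFun h t

theorem resFun_infl {D T : Subgroup Γ} (hDT : D ≤ T) (β : T.map (QuotientGroup.mk' Q) → ℂ) :
    resFun hDT (infl Q T β) = infl Q D (resFun (Subgroup.map_mono hDT) β) := rfl

/-- the data of the local analysis over `θ ∈ Irr(Q)`: `T` is the stabiliser of `θ` in `X` and `η` an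
extension of `θ` to `T` -/
structure LocData (X T : Subgroup Γ) (θ : Q → ℂ) (η : T → ℂ) : Prop where
  hQT : Q ≤ T
  hTX : T ≤ X
  hT : T = X ⊓ inertia Q θ
  hθ : IsIrrCharacter Q θ
  hη : IsIrrCharacter T η
  hres : resFun hQT η = θ

/-- the parametrisation of the characters over `θ` -/
noncomputable def Phi (X T : Subgroup Γ) [Fintype X] (η : T → ℂ)
    (β : T.map (QuotientGroup.mk' Q) → ℂ) : X → ℂ :=
  relInd T X (infl Q T β * η)

namespace LocData

variable {Q}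
variable {X T : Subgroup Γ} {θ : Q → ℂ} {η : T → ℂ} [Fintype Q] [Fintype X] [Fintype T]

theorem irr_down (h : LocData Q X T θ η) :
    IsIrrCharacter (Q.subgroupOf T) (fun n : Q.subgroupOf T => η n) := by
  have := irr_downFun h.hQT h.hθ
  rw [← h.hres] at this
  exact this

theorem inner_mul (h : LocData Q X T θ η) [Fintype (T.map (QuotientGroup.mk' Q))]
    (β β' : T.map (QuotientGroup.mk' Q) → ℂ) :
    classInner (infl Q T β * η) (infl Q T β' * η) = classInner β β' := by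
  have := Fintype.ofFinite (Q.subgroupOf T)
  rw [classInner_mul_ext (Q.subgroupOf T) h.hη h.irr_down _ _ (infl_mul_left Q T β)
    (infl_mul_left Q T β'), classInner_infl]

theorem irr_mul (h : LocData Q X T θ η) {β : T.map (QuotientGroup.mk' Q) → ℂ}
    (hβ : IsIrrCharacter _ β) : IsIrrCharacter T (infl Q T β * η) := by
  have := Fintype.ofFinite (T.map (QuotientGroup.mk' Q))
  rw [isIrr_iff]
  refine ⟨Helper3.IsCharacter.mul (irr_char (irr_infl Q T hβ)) (irr_char h.hη), ?_⟩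
  rw [h.inner_mul, irr_inner_self hβ]

theorem res_mul (h : LocData Q X T θ η) (β : T.map (QuotientGroup.mk' Q) → ℂ) :
    resFun h.hQT (infl Q T β * η) = (β 1) • θ := by
  funext q
  have h1 : η ⟨q, h.hQT q.2⟩ = θ q := congrFun h.hres q
  change infl Q T β ⟨q, h.hQT q.2⟩ * η ⟨q, h.hQT q.2⟩ = β 1 * θ q
  rw [infl_of_mem Q T β _ q.2, h1]

theorem over_mul (h : LocData Q X T θ η) {β : T.map (QuotientGroup.mk' Q) → ℂ}
    (hβ : IsIrrCharacter _ β) : classInner (resFun h.hQT (infl Q T β * η)) θ ≠ 0 := by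
  rw [h.res_mul, classInner_smul_left, irr_inner_self h.hθ, mul_one]
  exact irr_one_ne_zero hβ

theorem irr_Phi (h : LocData Q X T θ η) {β : T.map (QuotientGroup.mk' Q) → ℂ}
    (hβ : IsIrrCharacter _ β) : IsIrrCharacter X (Phi Q X T η β) :=
  (rel_clifford_correspondence h.hQT h.hTX h.hθ h.hT).1 _ (h.irr_mul hβ) (h.over_mul hβ)

theorem Phi_over (h : LocData Q X T θ η) {β : T.map (QuotientGroup.mk' Q) → ℂ}
    (hβ : IsIrrCharacter _ β) :
    classInner (resFun (h.hQT.trans h.hTX) (Phi Q X T η β)) θ ≠ 0 := by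
  have := (rel_clifford_correspondence h.hQT h.hTX h.hθ h.hT).2.2.1 _ (h.irr_mul hβ)
    (h.over_mul hβ)
  unfold Phi
  rw [this]
  exact h.over_mul hβ

theorem Phi_one (h : LocData Q X T θ η) (β : T.map (QuotientGroup.mk' Q) → ℂ) :
    Phi Q X T η β 1 = (T.relIndex X : ℂ) * (β 1 * θ 1) := by
  unfold Phi
  have h1 : η 1 = θ 1 := congrFun h.hres 1
  rw [relInd_one, Pi.mul_apply, infl_one, h1]

/-- Gallagher: the characters of `T` over `θ` -/
theorem exists_mul (h : LocData Q X T θ η) {ψ : T → ℂ} (hψ : IsIrrCharacter T ψ)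
    (h0 : classInner (resFun h.hQT ψ) θ ≠ 0) :
    ∃ β : IrrCharacter (T.map (QuotientGroup.mk' Q)),
      infl Q T (β : T.map (QuotientGroup.mk' Q) → ℂ) * η = ψ := by
  have := Fintype.ofFinite (Q.subgroupOf T)
  have hgal := gallagher (Q.subgroupOf T) h.hη h.irr_down
  have hmem : ψ ∈ {ψ : T → ℂ | IsIrrCharacter T ψ ∧
      classInner (fun n : Q.subgroupOf T => ψ n) (fun n : Q.subgroupOf T => η n) ≠ 0} := by
    refine ⟨hψ, ?_⟩
    have e := classInner_downFun h.hQT (resFun h.hQT ψ) (resFun h.hQT η)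
    rw [downFun_resFun, downFun_resFun] at e
    rw [e, h.hres]
    exact h0
  obtain ⟨γ, ⟨hγ, hγ1⟩, hγψ⟩ := hgal.surjOn hmem
  have hker := (restrict_eq_of_inner_one_ne_zero (Q.subgroupOf T) hγ hγ1).2
  obtain ⟨β, hβ, hβγ⟩ := exists_deflate_surj ((QuotientGroup.mk' Q).subgroupMap T)
    ((QuotientGroup.mk' Q).subgroupMap_surjective T) hγ (by
      intro t ht
      exact hker ⟨t, Subgroup.mem_subgroupOf.2 ((subgroupMap_eq_one_iff Q T t).1 ht)⟩)
  refine ⟨⟨β, hβ⟩, ?_⟩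
  rw [← hγψ]
  change _ = γ * η
  congr 1
  funext t
  exact hβγ t

theorem exists_Phi (h : LocData Q X T θ η) {χ : X → ℂ} (hχ : IsIrrCharacter X χ)
    (h0 : classInner (resFun (h.hQT.trans h.hTX) χ) θ ≠ 0) :
    ∃ β : IrrCharacter (T.map (QuotientGroup.mk' Q)),
      Phi Q X T η (β : T.map (QuotientGroup.mk' Q) → ℂ) = χ := by
  obtain ⟨ψ, hψ, hψ0, hψχ⟩ := (rel_clifford_correspondence h.hQT h.hTX h.hθ h.hT).2.2.2 χ hχ h0
  obtain ⟨β, hβ⟩ := h.exists_mul hψ hψ0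
  refine ⟨β, ?_⟩
  unfold Phi
  rw [hβ, hψχ]

theorem mul_injective (h : LocData Q X T θ η) {β β' : T.map (QuotientGroup.mk' Q) → ℂ}
    (hβ : IsIrrCharacter _ β) (hβ' : IsIrrCharacter _ β')
    (heq : infl Q T β * η = infl Q T β' * η) : β = β' := by
  have := Fintype.ofFinite (T.map (QuotientGroup.mk' Q))
  apply irr_eq_of_inner_ne_zero hβ hβ'
  rw [← h.inner_mul, heq, h.inner_mul, irr_inner_self hβ']
  exact one_ne_zero

theorem Phi_injective (h : LocData Q X T θ η) {β β' : T.map (QuotientGroup.mk' Q) → ℂ}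
    (hβ : IsIrrCharacter _ β) (hβ' : IsIrrCharacter _ β')
    (heq : Phi Q X T η β = Phi Q X T η β') : β = β' := by
  apply h.mul_injective hβ hβ'
  by_contra hne
  have := (rel_clifford_correspondence h.hQT h.hTX h.hθ h.hT).2.1 _ _ (h.irr_mul hβ)
    (h.irr_mul hβ') (h.over_mul hβ) (h.over_mul hβ') hne
  change classInner (Phi Q X T η β) (Phi Q X T η β') = 0 at this
  rw [heq, irr_inner_self (h.irr_Phi hβ')] at this
  exact one_ne_zero this

/-- the Clifford correspondent is the only constituent of the restriction lying over `θ` -/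
theorem constituent_unique (h : LocData Q X T θ η) {β : T.map (QuotientGroup.mk' Q) → ℂ}
    (hβ : IsIrrCharacter _ β) {ψ : T → ℂ} (hψ : IsIrrCharacter T ψ)
    (h1 : classInner (resFun h.hTX (Phi Q X T η β)) ψ ≠ 0)
    (h0 : classInner (resFun h.hQT ψ) θ ≠ 0) : ψ = infl Q T β * η := by
  obtain ⟨c1, c2, -, -⟩ := rel_clifford_correspondence h.hQT h.hTX h.hθ h.hT
  have hirr := c1 ψ hψ h0
  rw [← classInner_relInd_right h.hTX ψ (irr_cf (h.irr_Phi hβ))] at h1
  have heq := irr_eq_of_inner_ne_zero (h.irr_Phi hβ) hirr h1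
  by_contra hne
  have := c2 _ _ hψ (h.irr_mul hβ) h0 (h.over_mul hβ) hne
  change classInner (relInd T X ψ) (Phi Q X T η β) = 0 at this
  rw [heq, irr_inner_self hirr] at this
  exact one_ne_zero this

theorem inner_res_Phi (h : LocData Q X T θ η) {β : T.map (QuotientGroup.mk' Q) → ℂ}
    (hβ : IsIrrCharacter _ β) :
    classInner (resFun h.hTX (Phi Q X T η β)) (infl Q T β * η) = 1 := by
  rw [← classInner_relInd_right h.hTX _ (irr_cf (h.irr_Phi hβ))]
  exact irr_inner_self (h.irr_Phi hβ)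

end LocData

section key

variable {Q}
variable {K C T D : Subgroup Γ} {θ : Q → ℂ} {η : T → ℂ} [Fintype Q] [Fintype K] [Fintype C]
  [Fintype T] [Fintype D]

/-- **the key formula**: multiplicities are computed in the quotient by `Q` -/
theorem inner_Phi_Phi (hK : LocData Q K T θ η) (hCK : C ≤ K) (hDT : D ≤ T)
    (hC : LocData Q C D θ (resFun hDT η)) [Fintype (D.map (QuotientGroup.mk' Q))]
    {β : T.map (QuotientGroup.mk' Q) → ℂ} (hβ : IsIrrCharacter _ β)
    {β' : D.map (QuotientGroup.mk' Q) → ℂ} (hβ' : IsIrrCharacter _ β') :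
    classInner (resFun hCK (Phi Q K T η β)) (Phi Q C D (resFun hDT η) β')
      = classInner (resFun (Subgroup.map_mono hDT) β) β' := by
  have hχ := hK.irr_Phi hβ
  have hψ := hK.irr_mul hβ
  have hψ' := hC.irr_mul hβ'
  have hΔ : IsCharacter T (resFun hK.hTX (Phi Q K T η β) - infl Q T β * η) :=
    char_sub_irr (char_resFun hK.hTX (irr_char hχ)) hψ (by
      rw [hK.inner_res_Phi hβ]; exact one_ne_zero)
  have h1 : classInner (resFun hCK (Phi Q K T η β)) (Phi Q C D (resFun hDT η) β')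
      = classInner (resFun hC.hTX (resFun hCK (Phi Q K T η β)))
          (infl Q D β' * resFun hDT η) :=
    classInner_relInd_right hC.hTX _ (char_cf (char_resFun hCK (irr_char hχ)))
  have h2 : resFun hC.hTX (resFun hCK (Phi Q K T η β))
      = resFun hDT (infl Q T β * η)
        + resFun hDT (resFun hK.hTX (Phi Q K T η β) - infl Q T β * η) := by
    funext d
    simp only [resFun_apply, Pi.add_apply, Pi.sub_apply]
    ring
  have h3 : classInner (resFun hDT (resFun hK.hTX (Phi Q K T η β) - infl Q T β * η))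
      (infl Q D β' * resFun hDT η) = 0 := by
    by_contra hne
    have h4 := inner_ne_zero_of_constituent (resFunLin hC.hQT)
      (fun γ hγ => char_resFun hC.hQT hγ) (char_resFun hDT hΔ) hψ' hne (irr_char hK.hθ)
      (hC.over_mul hβ')
    apply h4
    have h5 : resFunLin hC.hQT (resFun hDT (resFun hK.hTX (Phi Q K T η β) - infl Q T β * η))
        = resFun (hK.hQT.trans hK.hTX) (Phi Q K T η β) - resFun hK.hQT (infl Q T β * η) := rfl
    rw [h5, classInner_sub_left, sub_eq_zero]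
    exact (rel_clifford_correspondence hK.hQT hK.hTX hK.hθ hK.hT).2.2.1 _ hψ (hK.over_mul hβ)
  rw [h1, h2, classInner_add_left, h3, add_zero]
  exact hC.inner_mul (resFun (Subgroup.map_mono hDT) β) β'

end key

section invariance

variable {Q}

omit [Fintype Γ] hQ in
theorem tw_apply' [Finite Γ] (G S : Subgroup Γ) (hnorm : ∀ s ∈ S, ∀ g ∈ G, s * g * s⁻¹ ∈ G) (a : S)
    (χ : IrrCharacter G) (g g' : G) (hg : (g' : Γ) = (a : Γ)⁻¹ * g * a) :
    (tw G S hnorm a χ : G → ℂ) g = (χ : G → ℂ) g' := by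
  let inst := conjAct G S hnorm
  change (χ : G → ℂ) (a⁻¹ • g) = (χ : G → ℂ) g'
  refine congrArg _ (Subtype.ext ?_)
  rw [hg]
  change ((a⁻¹ : S) : Γ) * g * ((a⁻¹ : S) : Γ)⁻¹ = _
  simp

omit [Fintype Γ] hQ in
theorem invUnder_inv {G S : Subgroup Γ} {f : G → ℂ} (hf : InvUnder G S f) (a : S) (g g' : G)
    (hg : (g' : Γ) = (a : Γ)⁻¹ * g * a) : f g' = f g :=
  hf (a : Γ)⁻¹ (S.inv_mem a.2) g g' (by rw [hg, inv_inv])

variable {X T : Subgroup Γ} {θ : Q → ℂ} {η : T → ℂ} [Fintype Q] [Fintype X] [Fintype T]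

theorem LocData.inv_of_Phi_inv (h : LocData Q X T θ η) (P : Subgroup Γ)
    (hnX : ∀ s ∈ P, ∀ g ∈ X, s * g * s⁻¹ ∈ X) (hnT : ∀ s ∈ P, ∀ g ∈ T, s * g * s⁻¹ ∈ T)
    (hθP : InvUnder Q P θ) (hηP : InvUnder T P η) {β : T.map (QuotientGroup.mk' Q) → ℂ}
    (hβ : IsIrrCharacter _ β) (hχ : InvUnder X P (Phi Q X T η β)) :
    InvUnder T P (infl Q T β) := by
  have hnQ : ∀ s ∈ P, ∀ g ∈ Q, s * g * s⁻¹ ∈ Q := fun s _ g hg => hQ.conj_mem g hg s
  have := Fintype.ofFinite (Q.subgroupOf T)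
  have hfix := (tw_fixed_iff T P hnT ⟨infl Q T β, irr_infl Q T hβ⟩).1
  apply hfix
  intro a
  have hχa : tw X P hnX a ⟨_, h.irr_Phi hβ⟩ = ⟨_, h.irr_Phi hβ⟩ :=
    (tw_fixed_iff X P hnX ⟨_, h.irr_Phi hβ⟩).2 hχ a
  have hθa : tw Q P hnQ a ⟨θ, h.hθ⟩ = ⟨θ, h.hθ⟩ := (tw_fixed_iff Q P hnQ ⟨θ, h.hθ⟩).2 hθP a
  have h1 := inner_tw h.hTX P hnX hnT a ⟨_, h.irr_Phi hβ⟩ ⟨_, h.irr_mul hβ⟩
  rw [hχa] at h1
  have h0 := inner_tw h.hQT P hnT hnQ a ⟨_, h.irr_mul hβ⟩ ⟨θ, h.hθ⟩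
  rw [hθa] at h0
  have hψ : (tw T P hnT a ⟨_, h.irr_mul hβ⟩ : T → ℂ) = infl Q T β * η := by
    apply h.constituent_unique hβ (tw T P hnT a ⟨_, h.irr_mul hβ⟩).2
    · rw [h1]
      change classInner (resFun h.hTX (Phi Q X T η β)) (infl Q T β * η) ≠ 0
      rw [h.inner_res_Phi hβ]
      exact one_ne_zero
    · rw [h0]
      exact h.over_mul hβ
  -- now cancel `η`
  have hmul : (tw T P hnT a ⟨infl Q T β, irr_infl Q T hβ⟩ : T → ℂ) * η = infl Q T β * η := by
    rw [← hψ]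
    funext t
    have hmem : (a : Γ)⁻¹ * t * a ∈ T := by
      have := hnT (a : Γ)⁻¹ (P.inv_mem a.2) t t.2
      rwa [inv_inv] at this
    rw [Pi.mul_apply, tw_apply' T P hnT a _ t ⟨_, hmem⟩ rfl, tw_apply' T P hnT a _ t ⟨_, hmem⟩ rfl,
      ← invUnder_inv hηP a t ⟨_, hmem⟩ rfl]
    rfl
  have hcos : ∀ (n : Q.subgroupOf T) (t : T),
      (tw T P hnT a ⟨infl Q T β, irr_infl Q T hβ⟩ : T → ℂ) (n * t)
        = (tw T P hnT a ⟨infl Q T β, irr_infl Q T hβ⟩ : T → ℂ) t := by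
    intro n t
    have hmem : (a : Γ)⁻¹ * t * a ∈ T := by
      have := hnT (a : Γ)⁻¹ (P.inv_mem a.2) t t.2
      rwa [inv_inv] at this
    have hmemn : (a : Γ)⁻¹ * ((n : T) : Γ) * a ∈ Q := by
      have := hnQ (a : Γ)⁻¹ (P.inv_mem a.2) _ (Subgroup.mem_subgroupOf.1 n.2)
      rwa [inv_inv] at this
    rw [tw_apply' T P hnT a _ t ⟨_, hmem⟩ rfl,
      tw_apply' T P hnT a _ (n * t)
        ((⟨⟨_, h.hQT hmemn⟩, Subgroup.mem_subgroupOf.2 hmemn⟩ : Q.subgroupOf T) * ⟨_, hmem⟩) (by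
          change (a : Γ)⁻¹ * ((n : T) : Γ) * a * ((a : Γ)⁻¹ * t * a) = (a : Γ)⁻¹ * (((n : T) : Γ) * t) * a
          group)]
    exact infl_mul_left Q T β _ _
  apply Subtype.ext
  apply irr_eq_of_inner_ne_zero (tw T P hnT a ⟨infl Q T β, irr_infl Q T hβ⟩).2 (irr_infl Q T hβ)
  rw [← classInner_mul_ext (Q.subgroupOf T) h.hη h.irr_down _ _ hcos (infl_mul_left Q T β), hmul,
    irr_inner_self (h.irr_mul hβ)]
  exact one_ne_zero

theorem LocData.Phi_inv_of_inv (h : LocData Q X T θ η) (P : Subgroup Γ)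
    (hnX : ∀ s ∈ P, ∀ g ∈ X, s * g * s⁻¹ ∈ X) (hnT : ∀ s ∈ P, ∀ g ∈ T, s * g * s⁻¹ ∈ T)
    (hηP : InvUnder T P η) {β : T.map (QuotientGroup.mk' Q) → ℂ}
    (hβ : IsIrrCharacter _ β) (hβP : InvUnder T P (infl Q T β)) :
    InvUnder X P (Phi Q X T η β) := by
  have hfix := (tw_fixed_iff X P hnX ⟨_, h.irr_Phi hβ⟩).1
  apply hfix
  intro a
  have hψP : InvUnder T P (infl Q T β * η) := by
    intro s hs g g' hg
    rw [Pi.mul_apply, Pi.mul_apply, hβP s hs g g' hg, hηP s hs g g' hg]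
  have hψa : tw T P hnT a ⟨_, h.irr_mul hβ⟩ = ⟨_, h.irr_mul hβ⟩ :=
    (tw_fixed_iff T P hnT ⟨_, h.irr_mul hβ⟩).2 hψP a
  have h1 := inner_tw h.hTX P hnX hnT a ⟨_, h.irr_Phi hβ⟩ ⟨_, h.irr_mul hβ⟩
  rw [hψa] at h1
  apply Subtype.ext
  apply irr_eq_of_inner_ne_zero (tw X P hnX a ⟨_, h.irr_Phi hβ⟩).2 (h.irr_Phi hβ)
  change classInner _ (relInd T X (infl Q T β * η)) ≠ 0
  rw [classInner_relInd_right h.hTX _ (irr_cf (tw X P hnX a ⟨_, h.irr_Phi hβ⟩).2), h1]
  change classInner (resFun h.hTX (Phi Q X T η β)) (infl Q T β * η) ≠ 0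
  rw [h.inner_res_Phi hβ]
  exact one_ne_zero

theorem infl_inv_of_centralizes (D P : Subgroup Γ)
    (hD : ∀ d ∈ D, ∀ x ∈ P, x * d * x⁻¹ * d⁻¹ ∈ Q) (β : D.map (QuotientGroup.mk' Q) → ℂ) :
    InvUnder D P (infl Q D β) := by
  intro s hs g g' hg
  rw [infl_apply, infl_apply]
  refine congrArg _ (Subtype.ext ?_)
  change ((g' : Γ) : Γ ⧸ Q) = ((g : Γ) : Γ ⧸ Q)
  rw [hg]
  have := (QuotientGroup.eq_one_iff _).2 (hD g g.2 s hs)
  rw [QuotientGroup.mk_mul, QuotientGroup.mk_inv, mul_inv_eq_one] at this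
  exact this

end invariance

section existence

variable {Q}

theorem inertia_conj_mem (P X : Subgroup Γ) (hnX : ∀ s ∈ P, ∀ g ∈ X, s * g * s⁻¹ ∈ X)
    {θ : Q → ℂ} (hθP : InvUnder Q P θ) :
    ∀ s ∈ P, ∀ g ∈ X ⊓ inertia Q θ, s * g * s⁻¹ ∈ X ⊓ inertia Q θ := by
  intro s hs g hg
  have hsI : s ∈ inertia Q θ := (invUnder_iff_le_inertia P θ).1 hθP hs
  exact Subgroup.mem_inf.2 ⟨hnX s hs g hg.1,
    (inertia Q θ).mul_mem ((inertia Q θ).mul_mem hsI hg.2) ((inertia Q θ).inv_mem hsI)⟩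

/-- an invariant character of the normal Sylow `p`-subgroup has an invariant extension to its
stabiliser -/
theorem exists_locData (p : ℕ) [Fact p.Prime] (P X : Subgroup Γ)
    (hnX : ∀ s ∈ P, ∀ g ∈ X, s * g * s⁻¹ ∈ X) (hQX : Q ≤ X) (hQp : IsPGroup p Q)
    (hpX : ¬ p ∣ Q.relIndex X) {θ : Q → ℂ} (hθ : IsIrrCharacter Q θ) (hθP : InvUnder Q P θ) :
    ∃ η : ↥(X ⊓ inertia Q θ) → ℂ, LocData Q X (X ⊓ inertia Q θ) θ η ∧
      InvUnder (X ⊓ inertia Q θ) P η := by
  classical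
  have hp : p.Prime := Fact.out
  obtain ⟨T, hT⟩ : ∃ T, T = X ⊓ inertia Q θ := ⟨_, rfl⟩
  rw [← hT]
  have hQT : Q ≤ T := hT ▸ le_inf hQX (le_inertia Q (irr_cf hθ))
  have hTX : T ≤ X := hT ▸ inf_le_left
  have hnT : ∀ s ∈ P, ∀ g ∈ T, s * g * s⁻¹ ∈ T := hT ▸ inertia_conj_mem P X hnX hθP
  have hϑ : IsIrrCharacter (Q.subgroupOf T) (downFun Q T θ) := irr_downFun hQT hθ
  have hinv : ∀ (g : T) (n : Q.subgroupOf T), downFun Q T θ
      ⟨g * n * g⁻¹, (inferInstance : (Q.subgroupOf T).Normal).conj_mem (n : T) n.2 g⟩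
        = downFun Q T θ n := by
    intro g n
    have hg : (g : Γ) ∈ inertia Q θ := (hT ▸ g.2 : (g : Γ) ∈ X ⊓ inertia Q θ).2
    exact congrFun hg ⟨((n : T) : Γ), Subgroup.mem_subgroupOf.1 n.2⟩
  have hidx : ¬ p ∣ (Q.subgroupOf T).index := by
    intro h
    apply hpX
    rw [← Subgroup.relIndex_mul_relIndex Q T X hQT hTX]
    exact Dvd.dvd.mul_right h _
  have hcop : (Nat.card (Q.subgroupOf T)).Coprime (Q.subgroupOf T).index := by
    obtain ⟨a, ha⟩ := IsPGroup.iff_card.1 hQp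
    rw [card_subgroupOf_of_le hQT, ha]
    exact Nat.Coprime.pow_left _ ((Nat.Prime.coprime_iff_not_dvd hp).2 hidx)
  have h1 : detOrder (downFun Q T θ) ∣ Nat.card (Q.subgroupOf T) := detOrder_dvd_card (irr_char hϑ)
  have h2 : charDegree (downFun Q T θ) ∣ Nat.card (Q.subgroupOf T) :=
    Helper78.irr_charDegree_dvd_card ⟨_, hϑ⟩
  have h3 : Nat.Coprime (Q.subgroupOf T).index
      (detOrder (downFun Q T θ) * charDegree (downFun Q T θ)) :=
    Nat.Coprime.mul_right (Nat.Coprime.coprime_dvd_right h1 hcop.symm)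
      (Nat.Coprime.coprime_dvd_right h2 hcop.symm)
  obtain ⟨η, ⟨hη, hηQ, hηdet⟩, huniq⟩ := Cfsg.Agent.S0867.result (Q.subgroupOf T) _ hϑ hinv
    (charDegree (downFun Q T θ)) (Helper80.char_one_eq_charDegree (irr_char hϑ)) h3
  refine ⟨η, ⟨hQT, hTX, hT, hθ, hη, ?_⟩, ?_⟩
  · funext q
    exact hηQ ⟨⟨q, hQT q.2⟩, Subgroup.mem_subgroupOf.2 q.2⟩
  · intro s hs g g' hg
    let inst := conjAct T P hnT
    let e : T ≃* T := MulDistribMulAction.toMulEquiv T (⟨s, hs⟩ : P)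
    have he : ∀ t : T, ((e t : T) : Γ) = s * t * s⁻¹ := fun t => rfl
    have hirr : IsIrrCharacter T (fun t => η (e t)) := irr_comp_equiv e hη
    have hext : ∀ n : Q.subgroupOf T, η (e n) = downFun Q T θ n := by
      intro n
      have hmem : s * ((n : T) : Γ) * s⁻¹ ∈ Q := hQ.conj_mem _ (Subgroup.mem_subgroupOf.1 n.2) s
      have h4 := hηQ ⟨e n, Subgroup.mem_subgroupOf.2 (by rw [he]; exact hmem)⟩
      rw [h4]
      exact hθP s hs ⟨((n : T) : Γ), Subgroup.mem_subgroupOf.1 n.2⟩ _ rfl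
    have hdet : detOrder (fun t => η (e t)) = detOrder η := detOrder_comp_equiv e (irr_char hη)
    have h5 := huniq _ hirr hext (by
      rw [hdet, hηdet]
      exact Nat.Coprime.coprime_dvd_right h1 hcop.symm)
    have h6 : g' = e g := Subtype.ext (by rw [hg, he])
    rw [h6]
    exact congrFun h5 g

end existence

end loc

end Cfsg.Agent.Lib.Helper15
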