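import Cfsg.Agent.Lib.Helper15.RelGl3

/-!
# The relative Glauberman correspondence over an invariant character of the normal Sylow subgroup
-/

set_option autoImplicit false
set_option linter.unusedSectionVars false

namespace Cfsg.Agent.Lib.Helper15

open Cfsg Cfsg.Agent.Lib
open scoped ComplexConjugate

section quot

variable {Γ : Type*} [Group Γ] [Fintype Γ] (Q : Subgroup Γ) [hQ : Q.Normal]

theorem invUnder_map_iff (T P : Subgroup Γ) (hnT : ∀ s ∈ P, ∀ g ∈ T, s * g * s⁻¹ ∈ T)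
    (β : T.map (QuotientGroup.mk' Q) → ℂ) :
    InvUnder (T.map (QuotientGroup.mk' Q)) (P.map (QuotientGroup.mk' Q)) β ↔
      InvUnder T P (infl Q T β) := by
  constructor
  · intro h s hs g g' hg
    apply h (s : Γ ⧸ Q) ⟨s, hs, rfl⟩
    change ((g' : Γ) : Γ ⧸ Q) = (s : Γ ⧸ Q) * ((g : Γ) : Γ ⧸ Q) * (s : Γ ⧸ Q)⁻¹
    rw [hg]
    rfl
  · rintro h _ ⟨s, hs, rfl⟩ g g' hg
    obtain ⟨t, rfl⟩ := (QuotientGroup.mk' Q).subgroupMap_surjective T g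
    have h1 := h s hs t ⟨s * t * s⁻¹, hnT s hs t t.2⟩ rfl
    rw [infl_apply, infl_apply] at h1
    rw [← h1]
    refine congrArg _ (Subtype.ext ?_)
    rw [hg]
    rfl

theorem map_centralizer_eq {T D P : Subgroup Γ} (hQD : Q ≤ D) (hQT : Q ≤ T)
    (hD : ∀ d, d ∈ D ↔ (d ∈ T ∧ ∀ x ∈ P, x * d * x⁻¹ * d⁻¹ ∈ Q)) :
    D.map (QuotientGroup.mk' Q) = T.map (QuotientGroup.mk' Q) ⊓
      Subgroup.centralizer ((P.map (QuotientGroup.mk' Q) : Subgroup (Γ ⧸ Q)) : Set (Γ ⧸ Q)) := by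
  ext y
  obtain ⟨g, rfl⟩ := QuotientGroup.mk_surjective y
  rw [Subgroup.mem_inf, mem_map_mk_iff Q hQD, mem_map_mk_iff Q hQT, hD,
    Subgroup.mem_centralizer_iff]
  apply and_congr Iff.rfl
  constructor
  · rintro h _ ⟨x, hx, rfl⟩
    have := (QuotientGroup.eq_one_iff _).2 (h x hx)
    rw [QuotientGroup.mk_mul, QuotientGroup.mk_inv, mul_inv_eq_one, QuotientGroup.mk_mul,
      QuotientGroup.mk_inv, mul_inv_eq_iff_eq_mul, QuotientGroup.mk_mul] at this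
    exact this
  · intro h x hx
    have := h (x : Γ ⧸ Q) ⟨x, hx, rfl⟩
    rw [← QuotientGroup.eq_one_iff, QuotientGroup.mk_mul, QuotientGroup.mk_inv, mul_inv_eq_one,
      QuotientGroup.mk_mul, QuotientGroup.mk_inv, mul_inv_eq_iff_eq_mul, QuotientGroup.mk_mul]
    exact this

/-- Glauberman's correspondence for `T / Q`, `P` acting -/
theorem glauberman_quot (p : ℕ) [Fact p.Prime] {T D P : Subgroup Γ} (hP : IsPGroup p P)
    (hnT : ∀ s ∈ P, ∀ g ∈ T, s * g * s⁻¹ ∈ T) (hQD : Q ≤ D) (hQT : Q ≤ T) (hDT : D ≤ T)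
    (hpT : ¬ p ∣ Q.relIndex T)
    (hD : ∀ d, d ∈ D ↔ (d ∈ T ∧ ∀ x ∈ P, x * d * x⁻¹ * d⁻¹ ∈ Q))
    [Fintype (D.map (QuotientGroup.mk' Q))] :
    (∀ χ : IrrCharacter (T.map (QuotientGroup.mk' Q)), InvUnder T P (infl Q T χ) →
      ∃! β : IrrCharacter (D.map (QuotientGroup.mk' Q)), ∃ m : ℕ,
        classInner (resFun (Subgroup.map_mono hDT) (χ : T.map (QuotientGroup.mk' Q) → ℂ))
          (β : D.map (QuotientGroup.mk' Q) → ℂ) = (m : ℂ) ∧ ¬ p ∣ m) ∧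
    (∀ χ : IrrCharacter (T.map (QuotientGroup.mk' Q)), InvUnder T P (infl Q T χ) →
      ∀ β : IrrCharacter (D.map (QuotientGroup.mk' Q)), ∀ m : ℕ,
        classInner (resFun (Subgroup.map_mono hDT) (χ : T.map (QuotientGroup.mk' Q) → ℂ))
          (β : D.map (QuotientGroup.mk' Q) → ℂ) = (m : ℂ) →
        ¬ p ∣ m → ((m : ℤ) ≡ 1 [ZMOD p] ∨ (m : ℤ) ≡ -1 [ZMOD p])) ∧
    (∀ χ χ' : IrrCharacter (T.map (QuotientGroup.mk' Q)), InvUnder T P (infl Q T χ) →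
      InvUnder T P (infl Q T χ') →
      ∀ β : IrrCharacter (D.map (QuotientGroup.mk' Q)), ∀ m m' : ℕ,
        classInner (resFun (Subgroup.map_mono hDT) (χ : T.map (QuotientGroup.mk' Q) → ℂ))
          (β : D.map (QuotientGroup.mk' Q) → ℂ) = (m : ℂ) →
        ¬ p ∣ m →
        classInner (resFun (Subgroup.map_mono hDT) (χ' : T.map (QuotientGroup.mk' Q) → ℂ))
          (β : D.map (QuotientGroup.mk' Q) → ℂ) = (m' : ℂ) →
        ¬ p ∣ m' → χ = χ') ∧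
    (∀ β : IrrCharacter (D.map (QuotientGroup.mk' Q)),
      ∃ χ : IrrCharacter (T.map (QuotientGroup.mk' Q)), InvUnder T P (infl Q T χ) ∧ ∃ m : ℕ,
        classInner (resFun (Subgroup.map_mono hDT) (χ : T.map (QuotientGroup.mk' Q) → ℂ))
          (β : D.map (QuotientGroup.mk' Q) → ℂ) = (m : ℂ) ∧ ¬ p ∣ m) := by
  classical
  have hp : p.Prime := Fact.out
  have hnorm : ∀ s ∈ P.map (QuotientGroup.mk' Q), ∀ g ∈ T.map (QuotientGroup.mk' Q),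
      s * g * s⁻¹ ∈ T.map (QuotientGroup.mk' Q) := by
    rintro _ ⟨s, hs, rfl⟩ _ ⟨g, hg, rfl⟩
    exact ⟨s * g * s⁻¹, hnT s hs g hg, rfl⟩
  have hS : IsPGroup p (P.map (QuotientGroup.mk' Q)) := hP.map _
  have hcop : (Nat.card (T.map (QuotientGroup.mk' Q))).Coprime
      (Nat.card (P.map (QuotientGroup.mk' Q))) := by
    obtain ⟨n, hn⟩ := IsPGroup.iff_card.1 hS
    rw [hn, card_map_mk Q hQT]
    exact Nat.Coprime.pow_right n ((Nat.Prime.coprime_iff_not_dvd hp).2 hpT).symm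
  obtain ⟨g1, g2, g3, g4⟩ := glauberman_ambient (T.map (QuotientGroup.mk' Q))
    (P.map (QuotientGroup.mk' Q)) hnorm hcop p hp hS (D.map (QuotientGroup.mk' Q))
    (map_centralizer_eq Q hQD hQT hD) (Subgroup.map_mono hDT)
  refine ⟨fun χ hχ => g1 χ ((invUnder_map_iff Q T P hnT _).2 hχ),
    fun χ hχ => g2 χ ((invUnder_map_iff Q T P hnT _).2 hχ),
    fun χ χ' hχ hχ' => g3 χ χ' ((invUnder_map_iff Q T P hnT _).2 hχ)
      ((invUnder_map_iff Q T P hnT _).2 hχ'), fun β => ?_⟩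
  obtain ⟨χ, hχ, hm⟩ := g4 β
  exact ⟨χ, (invUnder_map_iff Q T P hnT _).1 hχ, hm⟩

end quot

section localthm

variable {Γ : Type*} [Group Γ] [Fintype Γ] (Q : Subgroup Γ) [hQ : Q.Normal] [Fintype Q]

omit [Fintype Γ] [Fintype Q] in
/-- `P` normalises the relative centraliser -/
theorem relCentralizer_conj_mem {P K C : Subgroup Γ}
    (hnK : ∀ s ∈ P, ∀ g ∈ K, s * g * s⁻¹ ∈ K)
    (hC : ∀ k, k ∈ C ↔ (k ∈ K ∧ ∀ x ∈ P, x * k * x⁻¹ * k⁻¹ ∈ Q)) :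
    ∀ s ∈ P, ∀ g ∈ C, s * g * s⁻¹ ∈ C := by
  intro s hs c hc
  rw [hC] at hc ⊢
  refine ⟨hnK s hs c hc.1, fun x hx => ?_⟩
  have h1 := hc.2 (s⁻¹ * x * s) (P.mul_mem (P.mul_mem (P.inv_mem hs) hx) hs)
  have h2 := hQ.conj_mem _ h1 s
  have e : s * (s⁻¹ * x * s * c * (s⁻¹ * x * s)⁻¹ * c⁻¹) * s⁻¹
      = x * (s * c * s⁻¹) * x⁻¹ * (s * c * s⁻¹)⁻¹ := by group
  rwa [e] at h2

theorem local_correspondence (p : ℕ) [Fact p.Prime] (P K C : Subgroup Γ) (hP : IsPGroup p P)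
    (hnK : ∀ s ∈ P, ∀ g ∈ K, s * g * s⁻¹ ∈ K) (hQK : Q ≤ K) (hQp : IsPGroup p Q)
    (hpK : ¬ p ∣ Q.relIndex K) (hCK : C ≤ K) (hQC : Q ≤ C)
    (hC : ∀ k, k ∈ C ↔ (k ∈ K ∧ ∀ x ∈ P, x * k * x⁻¹ * k⁻¹ ∈ Q)) [Fintype K] [Fintype C]
    (θ : IrrCharacter Q) (hθP : InvUnder Q P (θ : Q → ℂ)) :
    (∀ χ : IrrCharacter K, InvUnder K P (χ : K → ℂ) →
      classInner (resFun hQK (χ : K → ℂ)) (θ : Q → ℂ) ≠ 0 →
      ∃ ξ : IrrCharacter C, InvUnder C P (ξ : C → ℂ) ∧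
        (∃ m : ℕ, classInner (resFun hCK (χ : K → ℂ)) (ξ : C → ℂ) = m ∧
          ((m : ZMod p) = 1 ∨ (m : ZMod p) = -1)) ∧
        (∀ ξ' : IrrCharacter C, classInner (resFun hQC (ξ' : C → ℂ)) (θ : Q → ℂ) ≠ 0 → ξ' ≠ ξ →
          ∃ m : ℕ, classInner (resFun hCK (χ : K → ℂ)) (ξ' : C → ℂ) = m ∧ p ∣ m) ∧
        ((charDegree (ξ : C → ℂ) : ZMod p) = charDegree (χ : K → ℂ) ∨
          (charDegree (ξ : C → ℂ) : ZMod p) = -(charDegree (χ : K → ℂ) : ZMod p))) ∧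
    (∀ χ₁ χ₂ : IrrCharacter K, InvUnder K P (χ₁ : K → ℂ) → InvUnder K P (χ₂ : K → ℂ) →
      classInner (resFun hQK (χ₁ : K → ℂ)) (θ : Q → ℂ) ≠ 0 →
      classInner (resFun hQK (χ₂ : K → ℂ)) (θ : Q → ℂ) ≠ 0 →
      ∀ ξ : IrrCharacter C, classInner (resFun hQC (ξ : C → ℂ)) (θ : Q → ℂ) ≠ 0 →
      ∀ m₁ m₂ : ℕ, classInner (resFun hCK (χ₁ : K → ℂ)) (ξ : C → ℂ) = m₁ → ¬ p ∣ m₁ →
        classInner (resFun hCK (χ₂ : K → ℂ)) (ξ : C → ℂ) = m₂ → ¬ p ∣ m₂ → χ₁ = χ₂) ∧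
    (∀ ξ : IrrCharacter C, classInner (resFun hQC (ξ : C → ℂ)) (θ : Q → ℂ) ≠ 0 →
      ∃ χ : IrrCharacter K, InvUnder K P (χ : K → ℂ) ∧ ∃ m : ℕ,
        classInner (resFun hCK (χ : K → ℂ)) (ξ : C → ℂ) = m ∧ ¬ p ∣ m) := by
  classical
  have hp : p.Prime := Fact.out
  obtain ⟨T, hT⟩ : ∃ T, T = K ⊓ inertia Q (θ : Q → ℂ) := ⟨_, rfl⟩
  obtain ⟨D, hD⟩ : ∃ D, D = C ⊓ inertia Q (θ : Q → ℂ) := ⟨_, rfl⟩
  have hex := exists_locData p P K hnK hQK hQp hpK θ.2 hθP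
  rw [← hT] at hex
  obtain ⟨η, hK, hηP⟩ := hex
  have hDT : D ≤ T := by
    rw [hD, hT]
    exact inf_le_inf_right _ hCK
  have hQD : Q ≤ D := hD ▸ le_inf hQC (le_inertia Q (irr_cf θ.2))
  have hDC : D ≤ C := hD ▸ inf_le_left
  have hnC := relCentralizer_conj_mem Q hnK hC
  have hnT : ∀ s ∈ P, ∀ g ∈ T, s * g * s⁻¹ ∈ T := hT ▸ inertia_conj_mem P K hnK hθP
  have hnD : ∀ s ∈ P, ∀ g ∈ D, s * g * s⁻¹ ∈ D := hD ▸ inertia_conj_mem P C hnC hθP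
  have hresD : resFun hQD (resFun hDT η) = θ := hK.hres
  have hηD : IsIrrCharacter D (resFun hDT η) := by
    apply irr_of_restrict_irr (Q.subgroupOf D) (char_resFun hDT (irr_char hK.hη))
    have := irr_downFun hQD θ.2
    rw [← hresD] at this
    exact this
  have hCd : LocData Q C D (θ : Q → ℂ) (resFun hDT η) :=
    ⟨hQD, hDC, hD, θ.2, hηD, hresD⟩
  have hηDP : InvUnder D P (resFun hDT η) := by
    intro s hs g g' hg
    exact hηP s hs ⟨g, hDT g.2⟩ ⟨g', hDT g'.2⟩ hg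
  have hDcent : ∀ d ∈ D, ∀ x ∈ P, x * d * x⁻¹ * d⁻¹ ∈ Q := fun d hd => ((hC d).1 (hDC hd)).2
  have hD' : ∀ d, d ∈ D ↔ (d ∈ T ∧ ∀ x ∈ P, x * d * x⁻¹ * d⁻¹ ∈ Q) := by
    intro d
    rw [hD, hT, Subgroup.mem_inf, Subgroup.mem_inf, hC]
    tauto
  have hpT : ¬ p ∣ Q.relIndex T := by
    intro h
    apply hpK
    rw [← Subgroup.relIndex_mul_relIndex Q T K hK.hQT hK.hTX]
    exact Dvd.dvd.mul_right h _
  obtain ⟨g1, g2, g3, g4⟩ := glauberman_quot Q p hP hnT hQD hK.hQT hDT hpT hD'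
  have hkey : ∀ (β : IrrCharacter (T.map (QuotientGroup.mk' Q)))
      (β' : IrrCharacter (D.map (QuotientGroup.mk' Q))),
      classInner (resFun hCK (Phi Q K T η β)) (Phi Q C D (resFun hDT η) β')
        = classInner (resFun (Subgroup.map_mono hDT) (β : T.map (QuotientGroup.mk' Q) → ℂ))
            (β' : D.map (QuotientGroup.mk' Q) → ℂ) :=
    fun β β' => inner_Phi_Phi hK hCK hDT hCd β.2 β'.2
  have hξinv : ∀ β' : IrrCharacter (D.map (QuotientGroup.mk' Q)),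
      InvUnder C P (Phi Q C D (resFun hDT η) β') := fun β' =>
    hCd.Phi_inv_of_inv P hnC hnD hηDP β'.2 (infl_inv_of_centralizes D P hDcent _)
  refine ⟨?_, ?_, ?_⟩
  · intro χ hχP hχθ
    obtain ⟨β, hβ⟩ := hK.exists_Phi χ.2 hχθ
    have hβP : InvUnder T P (infl Q T β) :=
      hK.inv_of_Phi_inv P hnK hnT hθP hηP β.2 (by rw [hβ]; exact hχP)
    obtain ⟨β', ⟨m, hm, hpm⟩, huniq⟩ := g1 β hβP
    have hm1 : (m : ZMod p) = 1 ∨ (m : ZMod p) = -1 := by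
      rcases g2 β hβP β' m hm hpm with h | h
      · left
        have := (ZMod.intCast_eq_intCast_iff _ _ p).2 h
        push_cast at this
        exact this
      · right
        have := (ZMod.intCast_eq_intCast_iff _ _ p).2 h
        push_cast at this
        exact this
    refine ⟨⟨_, hCd.irr_Phi β'.2⟩, hξinv β', ⟨m, ?_, hm1⟩, ?_, ?_⟩
    · rw [← hβ]
      exact (hkey β β').trans hm
    · intro ξ' hξ'θ hne
      obtain ⟨β'', hβ''⟩ := hCd.exists_Phi ξ'.2 hξ'θ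
      obtain ⟨m'', hm''⟩ := inner_nat (char_resFun (Subgroup.map_mono hDT) (irr_char β.2))
        (irr_char β''.2)
      refine ⟨m'', ?_, ?_⟩
      · rw [← hβ, ← hβ'']
        exact (hkey β β'').trans hm''
      · by_contra hnd
        have := huniq β'' ⟨m'', hm'', hnd⟩
        apply hne
        apply Subtype.ext
        rw [← hβ'', this]
    · -- degrees
      have d1 : charDegree (χ : K → ℂ) = T.relIndex K *
          (charDegree (β : T.map (QuotientGroup.mk' Q) → ℂ) * charDegree (θ : Q → ℂ)) := by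
        have := hK.Phi_one (β : T.map (QuotientGroup.mk' Q) → ℂ)
        rw [hβ, Helper80.char_one_eq_charDegree (irr_char χ.2),
          Helper80.char_one_eq_charDegree (irr_char β.2),
          Helper80.char_one_eq_charDegree (irr_char θ.2)] at this
        exact_mod_cast this
      have d2 : charDegree (Phi Q C D (resFun hDT η) β') = D.relIndex C *
          (charDegree (β' : D.map (QuotientGroup.mk' Q) → ℂ) * charDegree (θ : Q → ℂ)) := by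
        have := hCd.Phi_one (β' : D.map (QuotientGroup.mk' Q) → ℂ)
        rw [Helper80.char_one_eq_charDegree (irr_char (hCd.irr_Phi β'.2)),
          Helper80.char_one_eq_charDegree (irr_char β'.2),
          Helper80.char_one_eq_charDegree (irr_char θ.2)] at this
        exact_mod_cast this
      have d3 : (T.relIndex K : ZMod p) = (D.relIndex C : ZMod p) := by
        rw [hT, hD]
        exact relIndex_congr Q p P K C hP hnK hQK hpK hC θ hθP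
      have d4 : (charDegree (β : T.map (QuotientGroup.mk' Q) → ℂ) : ZMod p)
          = m * charDegree (β' : D.map (QuotientGroup.mk' Q) → ℂ) := by
        obtain ⟨mult, hm1', -, hm3⟩ := Helper80.exists_mult_spec
          (char_resFun (Subgroup.map_mono hDT) (irr_char β.2))
        have e1 : charDegree (resFun (Subgroup.map_mono hDT)
            (β : T.map (QuotientGroup.mk' Q) → ℂ))
            = charDegree (β : T.map (QuotientGroup.mk' Q) → ℂ) := rfl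
        rw [← e1, hm3]
        push_cast
        rw [Finset.sum_eq_single β']
        · have : mult β' = m := by
            have := (hm1' β').symm.trans hm
            exact_mod_cast this
          rw [this]
        · intro ψ _ hne
          have : p ∣ mult ψ := by
            by_contra hnd
            exact hne (huniq ψ ⟨mult ψ, hm1' ψ, hnd⟩)
          rw [(ZMod.natCast_eq_zero_iff _ _).2 this, zero_mul]
        · intro h
          exact absurd (Finset.mem_univ _) h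
      change ((charDegree (Phi Q C D (resFun hDT η) β') : ℕ) : ZMod p) = _ ∨
        ((charDegree (Phi Q C D (resFun hDT η) β') : ℕ) : ZMod p) = _
      rw [d1, d2]
      push_cast
      rw [d3, d4]
      rcases hm1 with h | h
      · left
        rw [h]; ring
      · right
        rw [h]; ring
  · intro χ₁ χ₂ h₁P h₂P h₁θ h₂θ ξ hξθ m₁ m₂ hm₁ hp₁ hm₂ hp₂
    obtain ⟨β₁, hβ₁⟩ := hK.exists_Phi χ₁.2 h₁θ
    obtain ⟨β₂, hβ₂⟩ := hK.exists_Phi χ₂.2 h₂θ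
    obtain ⟨β', hβ'⟩ := hCd.exists_Phi ξ.2 hξθ
    have hβ₁P : InvUnder T P (infl Q T β₁) :=
      hK.inv_of_Phi_inv P hnK hnT hθP hηP β₁.2 (by rw [hβ₁]; exact h₁P)
    have hβ₂P : InvUnder T P (infl Q T β₂) :=
      hK.inv_of_Phi_inv P hnK hnT hθP hηP β₂.2 (by rw [hβ₂]; exact h₂P)
    rw [← hβ₁, ← hβ', hkey] at hm₁
    rw [← hβ₂, ← hβ', hkey] at hm₂
    have := g3 β₁ β₂ hβ₁P hβ₂P β' m₁ m₂ hm₁ hp₁ hm₂ hp₂
    apply Subtype.ext
    rw [← hβ₁, ← hβ₂, this]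
  · intro ξ hξθ
    obtain ⟨β', hβ'⟩ := hCd.exists_Phi ξ.2 hξθ
    obtain ⟨β, hβP, m, hm, hpm⟩ := g4 β'
    refine ⟨⟨_, hK.irr_Phi β.2⟩, hK.Phi_inv_of_inv P hnK hnT hηP β.2 hβP, m, ?_, hpm⟩
    rw [← hβ']
    exact (hkey β β').trans hm

end localthm

section globalthm

variable {Γ : Type*} [Group Γ] [Fintype Γ] (Q : Subgroup Γ) [hQ : Q.Normal] [Fintype Q]

/-- **The relative Glauberman correspondence** for a `p`-group `P` acting on a group `K` with a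
normal Sylow `p`-subgroup `Q` (everything inside an ambient group in which `Q` is normal). -/
theorem rel_glauberman_core (p : ℕ) [Fact p.Prime] (P K C : Subgroup Γ) (hP : IsPGroup p P)
    (hnK : ∀ s ∈ P, ∀ g ∈ K, s * g * s⁻¹ ∈ K) (hQK : Q ≤ K) (hQp : IsPGroup p Q)
    (hpK : ¬ p ∣ Q.relIndex K) (hCK : C ≤ K)
    (hC : ∀ k, k ∈ C ↔ (k ∈ K ∧ ∀ x ∈ P, x * k * x⁻¹ * k⁻¹ ∈ Q)) [Fintype K] [Fintype C] :
    (∀ χ : IrrCharacter K, InvUnder K P (χ : K → ℂ) →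
      ∃ ξ : IrrCharacter C, InvUnder C P (ξ : C → ℂ) ∧
        (∃ m : ℕ, classInner (resFun hCK (χ : K → ℂ)) (ξ : C → ℂ) = m ∧
          ((m : ZMod p) = 1 ∨ (m : ZMod p) = -1)) ∧
        (∀ ξ' : IrrCharacter C, InvUnder C P (ξ' : C → ℂ) → ξ' ≠ ξ →
          ∃ m : ℕ, classInner (resFun hCK (χ : K → ℂ)) (ξ' : C → ℂ) = m ∧ p ∣ m) ∧
        ((charDegree (ξ : C → ℂ) : ZMod p) = charDegree (χ : K → ℂ) ∨
          (charDegree (ξ : C → ℂ) : ZMod p) = -(charDegree (χ : K → ℂ) : ZMod p))) ∧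
    (∀ χ₁ χ₂ : IrrCharacter K, InvUnder K P (χ₁ : K → ℂ) → InvUnder K P (χ₂ : K → ℂ) →
      ∀ ξ : IrrCharacter C, InvUnder C P (ξ : C → ℂ) →
      ∀ m₁ m₂ : ℕ, classInner (resFun hCK (χ₁ : K → ℂ)) (ξ : C → ℂ) = m₁ → ¬ p ∣ m₁ →
        classInner (resFun hCK (χ₂ : K → ℂ)) (ξ : C → ℂ) = m₂ → ¬ p ∣ m₂ → χ₁ = χ₂) ∧
    (∀ ξ : IrrCharacter C, InvUnder C P (ξ : C → ℂ) →
      ∃ χ : IrrCharacter K, InvUnder K P (χ : K → ℂ) ∧ ∃ m : ℕ,
        classInner (resFun hCK (χ : K → ℂ)) (ξ : C → ℂ) = m ∧ ¬ p ∣ m) := by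
  classical
  have hQC : Q ≤ C := by
    intro q hq
    rw [hC]
    exact ⟨hQK hq, fun x _ => Q.mul_mem (hQ.conj_mem q hq x) (Q.inv_mem hq)⟩
  have hpC : ¬ p ∣ Q.relIndex C := by
    intro h
    apply hpK
    rw [← Subgroup.relIndex_mul_relIndex Q C K hQC hCK]
    exact Dvd.dvd.mul_right h _
  have hup : ∀ (χ : IrrCharacter K) (ξ : IrrCharacter C) (θ : IrrCharacter Q),
      classInner (resFun hCK (χ : K → ℂ)) (ξ : C → ℂ) ≠ 0 →
      classInner (resFun hQC (ξ : C → ℂ)) (θ : Q → ℂ) ≠ 0 →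
      classInner (resFun hQK (χ : K → ℂ)) (θ : Q → ℂ) ≠ 0 := by
    intro χ ξ θ h0 h1
    exact inner_ne_zero_of_constituent (resFunLin hQC) (fun γ hγ => char_resFun hQC hγ)
      (char_resFun hCK (irr_char χ.2)) ξ.2 h0 (irr_char θ.2) h1
  have hnz : ∀ (z : ℂ) (m : ℕ), z = m → ¬ p ∣ m → z ≠ 0 := by
    intro z m hz hm h0
    apply hm
    rw [hz] at h0
    have : m = 0 := by exact_mod_cast h0
    rw [this]
    exact dvd_zero p
  refine ⟨?_, ?_, ?_⟩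
  · intro χ hχP
    obtain ⟨θ, hθP, hχθ⟩ := exists_inv_under Q p P hP hQK hpK χ.2 hχP
    obtain ⟨L1, -, -⟩ := local_correspondence Q p P K C hP hnK hQK hQp hpK hCK hQC hC θ hθP
    obtain ⟨ξ, hξP, hm, hother, hdeg⟩ := L1 χ hχP hχθ
    refine ⟨ξ, hξP, hm, ?_, hdeg⟩
    intro ξ' hξ'P hne
    by_cases h0 : classInner (resFun hCK (χ : K → ℂ)) (ξ' : C → ℂ) = 0
    · exact ⟨0, by rw [h0]; simp, dvd_zero p⟩
    · apply hother ξ' _ hne
      obtain ⟨θ', hθ'P, hξ'θ'⟩ := exists_inv_under Q p P hP hQC hpC ξ'.2 hξ'P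
      have h1 := hup χ ξ' θ' h0 hξ'θ'
      obtain ⟨k, hk, hkθ⟩ := (constituent_iff Q hQK χ.2 θ hχθ θ').1 h1
      obtain ⟨c, hcK, hc, hcθ⟩ := exists_conj_centralizer Q p P K hP hnK hQK hpK (irr_cf θ.2)
        ((invUnder_iff_cj Q P _).1 hθP) ((invUnder_iff_cj Q P _).1 hθ'P) hk hkθ
      have hcC : c ∈ C := (hC c).2 ⟨hcK, hc⟩
      apply (constituent_iff Q hQC ξ'.2 θ' hξ'θ' θ).2
      refine ⟨c⁻¹, C.inv_mem hcC, ?_⟩
      rw [hcθ, cj_inv_cj]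
  · intro χ₁ χ₂ h₁ h₂ ξ hξP m₁ m₂ hm₁ hp₁ hm₂ hp₂
    obtain ⟨θ, hθP, hξθ⟩ := exists_inv_under Q p P hP hQC hpC ξ.2 hξP
    obtain ⟨-, L2, -⟩ := local_correspondence Q p P K C hP hnK hQK hQp hpK hCK hQC hC θ hθP
    exact L2 χ₁ χ₂ h₁ h₂ (hup χ₁ ξ θ (hnz _ _ hm₁ hp₁) hξθ) (hup χ₂ ξ θ (hnz _ _ hm₂ hp₂) hξθ) ξ hξθ
      m₁ m₂ hm₁ hp₁ hm₂ hp₂
  · intro ξ hξP
    obtain ⟨θ, hθP, hξθ⟩ := exists_inv_under Q p P hP hQC hpC ξ.2 hξP
    obtain ⟨-, -, L3⟩ := local_correspondence Q p P K C hP hnK hQK hQp hpK hCK hQC hC θ hθP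
    exact L3 ξ hξθ

end globalthm

end Cfsg.Agent.Lib.Helper15
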